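import Cfsg.Agent.Lib.FischerSpace.RankThree

/-!
# Simple derived subgroups and primitivity
-/

set_option autoImplicit false

namespace Cfsg.Agent.FischerSpace

open scoped commutatorElement

variable {G : Type*} [Group G] [Finite G] {D : Set G}

theorem commutator_le_of_index_le_two {L : Subgroup G} [L.Normal] (h : L.index ≤ 2) :
    commutator G ≤ L := by
  rcases (show L.index = 0 ∨ L.index = 1 ∨ L.index = 2 by omega) with h0 | h1 | h2
  · exact absurd h0 Subgroup.index_ne_zero_of_finite
  · rw [Subgroup.index_eq_one.1 h1]; exact le_top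
  · rw [commutator_def, Subgroup.commutator_le]
    intro x _ y _
    simp only [commutatorElement_def, Subgroup.mul_mem_iff_of_index_two h2, inv_mem_iff]
    tauto

omit [Finite G] in
theorem inv_mul_mem_commutator (hD : Cfsg.IsThreeTranspositionClass D) {a b : G} (ha : a ∈ D)
    (hb : b ∈ D) : a⁻¹ * b ∈ commutator G := by
  obtain ⟨g, rfl⟩ := class_isConj hD ha hb
  rw [commutator_def, show a⁻¹ * (g * a * g⁻¹) = ⁅a⁻¹, g⁆ by rw [commutatorElement_def]; group]
  exact Subgroup.commutator_mem_commutator (Subgroup.mem_top _) (Subgroup.mem_top _)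

theorem commutator_index_le_two (hD : Cfsg.IsThreeTranspositionClass D) :
    (commutator G).index ≤ 2 := by
  obtain ⟨d, hd, -⟩ := hD.2.1
  exact index_le_two_of_one_coset hD hd fun a ha => inv_mul_mem_commutator hD hd ha

/-- A nonabelian simple derived subgroup makes the action primitive. -/
theorem primitive_of_simple_commutator (hD : Cfsg.IsThreeTranspositionClass D)
    (hD2 : ∃ a ∈ D, ∃ b ∈ D, a ≠ b) (hs : IsSimpleGroup (commutator G))
    (hnc : ¬ IsMulCommutative (commutator G)) : Cfsg.IsPrimitiveUnderConj D :=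
  primitive_of_transitive hD (L := commutator G)
    (isComponent_of_normal (@Components.isQuasisimple_of_isSimpleGroup _ _ hs hnc))
    (transitive_of_index_le_two hD (commutator_index_le_two hD)) hD2

/-- Central cores and a connected commuting graph make the action primitive. -/
theorem primitive_of_connected (hD : Cfsg.IsThreeTranspositionClass D)
    (hD2 : ∃ a ∈ D, ∃ b ∈ D, a ≠ b)
    (h2 : Cfsg.pCore 2 G ≤ Subgroup.center G) (h3 : Cfsg.pCore 3 G ≤ Subgroup.center G)
    (hcon : (Cfsg.commutingGraph D).Connected) :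
    ∃ L : Subgroup G, L.Normal ∧ Cfsg.IsQuasisimple L ∧ L.index ≤ 2 ∧
      Cfsg.generalizedFittingSubgroup G = L ⊔ Subgroup.center G ∧ Cfsg.IsPrimitiveUnderConj D := by
  obtain ⟨L, hn, hq, hF, hor⟩ := component_structure hD hD2 h2 h3
  haveI := hn
  have hidx : L.index ≤ 2 := by
    rcases hor with h | h
    · rw [h, Subgroup.index_top]; omega
    · obtain ⟨d, hd, -⟩ := hD.2.1
      exact index_le_two_of_one_coset hD hd (one_coset_of_connected hD h hcon hd)
  exact ⟨L, hn, hq, hidx, hF, primitive_of_transitive hD (isComponent_of_normal hq)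
    (transitive_of_index_le_two hD hidx) hD2⟩

end Cfsg.Agent.FischerSpace
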