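import Cfsg.Agent.Lib.FischerSpace.Structure
import Cfsg.Agent.SporStructure.Fischer

/-!
# Primitivity and rank three

`block_pair_fixes`: members of one block induce the same permutation of the translates of that block.
`transitive_commuting`, `transitive_noncommuting`: Fischer's rank-three theorem.
-/

set_option autoImplicit false

namespace Cfsg.Agent.FischerSpace

open scoped IsMulCommutative

variable {G : Type*} [Group G] {D : Set G}

/-- Conjugation of a set. -/
def conjSet (g : G) (B : Set G) : Set G := (fun x => g * x * g⁻¹) '' B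

theorem conjSet_mul (g h : G) (B : Set G) : conjSet (g * h) B = conjSet g (conjSet h B) := by
  simp only [conjSet, Set.image_image]
  exact Set.image_congr' fun x => by group

theorem conjSet_one (B : Set G) : conjSet 1 B = B := by simp [conjSet]

theorem conjSet_inv_self (g : G) (B : Set G) : conjSet g⁻¹ (conjSet g B) = B := by
  rw [← conjSet_mul, inv_mul_cancel, conjSet_one]

theorem conjSet_self_inv (g : G) (B : Set G) : conjSet g (conjSet g⁻¹ B) = B := by
  rw [← conjSet_mul, mul_inv_cancel, conjSet_one]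

/-- The hypothesis on blocks in `Cfsg.IsPrimitiveUnderConj`. -/
def IsConjBlock (B : Set G) : Prop := ∀ g : G, conjSet g B = B ∨ Disjoint (conjSet g B) B

theorem IsConjBlock.translates_eq {B : Set G} (h : IsConjBlock B) {g g' x : G}
    (hx : x ∈ conjSet g B) (hx' : x ∈ conjSet g' B) : conjSet g B = conjSet g' B := by
  obtain ⟨b, hb, rfl⟩ := hx
  obtain ⟨b', hb', e⟩ := hx'
  have hmem : b ∈ conjSet (g⁻¹ * g') B :=
    ⟨b', hb', by
      simp only at e ⊢
      calc g⁻¹ * g' * b' * (g⁻¹ * g')⁻¹ = g⁻¹ * (g' * b' * g'⁻¹) * g := by group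
        _ = b := by rw [e]; group⟩
  have h1 : conjSet (g⁻¹ * g') B = B :=
    (h _).resolve_right fun hdis => Set.disjoint_left.1 hdis hmem hb
  calc conjSet g B = conjSet g (conjSet (g⁻¹ * g') B) := by rw [h1]
    _ = conjSet g' B := by rw [← conjSet_mul, mul_inv_cancel_left]

/-- Members of one translate of a block act equally on every translate. -/
theorem block_pair_fixes (hD : Cfsg.IsThreeTranspositionSet D) (hc : Invariant D) {B : Set G}
    (hB : B ⊆ D) (hblk : IsConjBlock B) {b b' : G} (hb : b ∈ B) (hb' : b' ∈ B) (g : G) :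
    conjSet b (conjSet g B) = conjSet b' (conjSet g B) := by
  set C := conjSet g B with hC
  have hB1 : B = conjSet 1 B := (conjSet_one B).symm
  have hCD : C ⊆ D := by rintro _ ⟨x, hx, rfl⟩; exact hc g x (hB hx)
  -- if one member moves `C` then every member sends it to the same translate
  have move : ∀ b ∈ B, conjSet b C ≠ C → ∀ c ∈ C, conjSet c B = conjSet b C ∧ conjSet c B ≠ B := by
    intro b hb hne c hcC
    have hnc : ¬ Commute b c := by
      intro hcomm
      apply hne
      have hfix : b * c * b⁻¹ = c := by rw [hcomm.eq, mul_inv_cancel_right]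
      rw [hC, ← conjSet_mul]
      exact hblk.translates_eq (x := c) (by rw [conjSet_mul, ← hC]; exact ⟨c, hcC, hfix⟩) hcC
    have hmem : b * c * b⁻¹ ∈ conjSet c B := ⟨b, hb, by
      simp only [inv_eq hD (hB hb), inv_eq hD (hCD hcC)]
      exact (braid hD (hB hb) (hCD hcC) hnc).symm⟩
    have heq : conjSet c B = conjSet b C := by
      rw [hC, ← conjSet_mul]
      exact hblk.translates_eq hmem (by rw [conjSet_mul, ← hC]; exact ⟨c, hcC, rfl⟩)
    refine ⟨heq, fun hcB => hne ?_⟩
    -- otherwise `b C b = B`, so `C = B`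
    rw [hcB] at heq
    have hCB : C = conjSet b⁻¹ B := by rw [heq, conjSet_inv_self]
    have hbb : conjSet b B = B := (hblk b).resolve_right fun hdis =>
      Set.disjoint_left.1 hdis ⟨b, hb, by simp⟩ hb
    have hCB' : C = B := by rw [hCB]; conv_lhs => rw [← hbb, conjSet_inv_self]
    rw [hCB', hbb]
  by_cases h1 : conjSet b C = C <;> by_cases h2 : conjSet b' C = C
  · rw [h1, h2]
  · exfalso
    obtain ⟨c, hcC⟩ : C.Nonempty := ⟨_, b, hb, rfl⟩
    obtain ⟨heq, hne⟩ := move b' hb' h2 c hcC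
    -- `c` moves `B`; so every member of `B` moves `C`
    have hnc : ¬ Commute b c := by
      intro hcomm
      apply hne
      have hfix : c * b * c⁻¹ = b := by rw [← hcomm.eq, mul_inv_cancel_right]
      conv_rhs => rw [hB1]
      exact hblk.translates_eq (x := b) ⟨b, hb, hfix⟩ (by rw [← hB1]; exact hb)
    have hmem : c * b * c⁻¹ ∈ conjSet b C := ⟨c, hcC, by
      simp only [inv_eq hD (hB hb), inv_eq hD (hCD hcC)]
      exact braid hD (hB hb) (hCD hcC) hnc⟩
    rw [h1] at hmem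
    have : conjSet c B = C := hblk.translates_eq ⟨b, hb, rfl⟩ hmem
    exact h2 (heq ▸ this)
  · exfalso
    obtain ⟨c, hcC⟩ : C.Nonempty := ⟨_, b, hb, rfl⟩
    obtain ⟨heq, hne⟩ := move b hb h1 c hcC
    have hnc : ¬ Commute b' c := by
      intro hcomm
      apply hne
      have hfix : c * b' * c⁻¹ = b' := by rw [← hcomm.eq, mul_inv_cancel_right]
      conv_rhs => rw [hB1]
      exact hblk.translates_eq (x := b') ⟨b', hb', hfix⟩ (by rw [← hB1]; exact hb')
    have hmem : c * b' * c⁻¹ ∈ conjSet b' C := ⟨c, hcC, by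
      simp only [inv_eq hD (hB hb'), inv_eq hD (hCD hcC)]
      exact braid hD (hB hb') (hCD hcC) hnc⟩
    rw [h2] at hmem
    have : conjSet c B = C := hblk.translates_eq ⟨b', hb', rfl⟩ hmem
    exact h1 (heq ▸ this)
  · obtain ⟨c, hcC⟩ : C.Nonempty := ⟨_, b, hb, rfl⟩
    rw [← (move b hb h1 c hcC).1, ← (move b' hb' h2 c hcC).1]

/-- A perfect normal subgroup transitive on `D` makes the conjugation action primitive. -/
theorem primitive_of_transitive [Finite G] (hD : Cfsg.IsThreeTranspositionClass D) {L : Subgroup G}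
    [L.Normal] (hL : Cfsg.IsComponent L)
    (htr : ∀ a ∈ D, ∀ b ∈ D, ∃ g ∈ L, g * a * g⁻¹ = b) (hD2 : ∃ a ∈ D, ∃ b ∈ D, a ≠ b) :
    Cfsg.IsPrimitiveUnderConj D := by
  refine ⟨fun a ha b hb => class_isConj hD ha hb, hD2, fun B hB hblk => ?_⟩
  by_contra hneg
  push Not at hneg
  obtain ⟨⟨b, hb, b', hb', hne⟩, hBD⟩ := hneg
  have hblk' : IsConjBlock B := hblk
  have hc := class_invariant hD
  let K : Subgroup G :=
    { carrier := {x | ∀ g : G, conjSet x (conjSet g B) = conjSet g B}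
      one_mem' := fun g => conjSet_one _
      mul_mem' := fun {x y} hx hy g => by rw [conjSet_mul, hy, hx]
      inv_mem' := fun {x} hx g => by conv_lhs => rw [← hx g, conjSet_inv_self] }
  have hKn : K.Normal := ⟨fun x hx h g => by
    show conjSet (h * x * h⁻¹) (conjSet g B) = conjSet g B
    rw [← conjSet_mul, show h * x * h⁻¹ * g = h * (x * (h⁻¹ * g)) by group, conjSet_mul, conjSet_mul,
      hx, ← conjSet_mul, mul_inv_cancel_left]⟩
  have hbK : b * b' ∈ K := fun g => by
    rw [conjSet_mul, ← block_pair_fixes hD.1 hc hB hblk' hb hb' g, ← conjSet_mul,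
      mul_self hD.1 (hB hb), conjSet_one]
  rcases Components.component_le_or_commutator_eq_bot_of_normal hL K with h | h
  · refine hBD (le_antisymm hB fun a ha => ?_)
    obtain ⟨g, hg, hga⟩ := htr b (hB hb) a ha
    have := h hg 1
    rw [conjSet_one] at this
    rw [← this]
    exact ⟨b, hb, hga⟩
  · refine component_not_centralized hD hL (hB hb) (centralizes_of_pair hD.1 hc
      (Components.component_commutator_eq_self hL) (centralizesSolvable_component hL) (hB hb) (hB hb')
      hne.symm (normalizes_component hD hL (hB hb)) fun g hg => ?_)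
    exact (Subgroup.mem_centralizer_iff.1 (Subgroup.commutator_eq_bot_iff_le_centralizer.1 h hg) _ hbK).symm

theorem zpowers_two_cases (hD : Cfsg.IsThreeTranspositionSet D) {d y : G} (hd : d ∈ D)
    (hy : y ∈ Subgroup.zpowers d) : y = 1 ∨ y = d := by
  obtain ⟨i, rfl⟩ := Subgroup.mem_zpowers_iff.1 hy
  rcases Int.even_or_odd' i with ⟨j, rfl | rfl⟩
  · left; rw [zpow_mul, zpow_two, mul_self hD hd, one_zpow]
  · right; rw [zpow_add, zpow_mul, zpow_two, mul_self hD hd, one_zpow, one_mul, zpow_one]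

theorem index_le_two_of_one_coset [Finite G] (hD : Cfsg.IsThreeTranspositionClass D) {L : Subgroup G}
    [L.Normal] {d : G} (hd : d ∈ D) (h : ∀ a ∈ D, d⁻¹ * a ∈ L) : L.index ≤ 2 := by
  classical
  have hle : ∀ g : G, g ∈ L ∨ d⁻¹ * g ∈ L := by
    intro g
    have hg : g ∈ Subgroup.zpowers d ⊔ L := by
      have : Subgroup.closure D ≤ Subgroup.zpowers d ⊔ L := (Subgroup.closure_le _).2 fun a ha => by
        have := mul_mem (Subgroup.mem_sup_left (T := L) (Subgroup.mem_zpowers d))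
          (Subgroup.mem_sup_right (h a ha))
        rwa [mul_inv_cancel_left] at this
      exact this (by rw [hD.2.2]; exact Subgroup.mem_top g)
    obtain ⟨y, hy, n, hn, rfl⟩ := Subgroup.mem_sup_of_normal_right.1 hg
    rcases zpowers_two_cases hD.1 hd hy with rfl | rfl
    · left; rwa [one_mul]
    · right; rwa [inv_mul_cancel_left]
  let f : Fin 2 → G ⧸ L := ![((1 : G) : G ⧸ L), (d : G ⧸ L)]
  have hf : Function.Surjective f := by
    intro x
    induction x using QuotientGroup.induction_on with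
    | _ g =>
      rcases hle g with h1 | h1
      · exact ⟨0, QuotientGroup.eq.2 (by simpa using h1)⟩
      · exact ⟨1, QuotientGroup.eq.2 (by simpa using h1)⟩
  have := Nat.card_le_card_of_surjective f hf
  rwa [Nat.card_fin] at this

theorem transitive_of_index_le_two [Finite G] (hD : Cfsg.IsThreeTranspositionClass D) {L : Subgroup G}
    [L.Normal] (hidx : L.index ≤ 2) : ∀ a ∈ D, ∀ b ∈ D, ∃ g ∈ L, g * a * g⁻¹ = b := by
  intro a ha b hb
  obtain ⟨g, hg⟩ := class_isConj hD ha hb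
  by_cases hgL : g ∈ L
  · exact ⟨g, hgL, hg⟩
  have hpos : L.index ≠ 0 := Subgroup.index_ne_zero_of_finite
  by_cases haL : a ∈ L
  · -- then every generator lies in `L`
    refine ⟨g, ?_, hg⟩
    have : Subgroup.closure D ≤ L := (Subgroup.closure_le _).2 fun e he => by
      obtain ⟨x, rfl⟩ := class_isConj hD ha he
      exact ‹L.Normal›.conj_mem a haL x
    exact this (by rw [hD.2.2]; exact Subgroup.mem_top g)
  · have h2 : L.index = 2 := by
      have : L.index ≠ 1 := fun e => hgL (by rw [Subgroup.index_eq_one.1 e]; exact Subgroup.mem_top g)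
      omega
    refine ⟨g * a, (Subgroup.mul_mem_iff_of_index_two h2).2 ⟨fun h => absurd h hgL, fun h => absurd h haL⟩, ?_⟩
    rw [mul_inv_rev, inv_eq hD.1 ha, show g * a * a * (a * g⁻¹) = g * (a * a) * (a * g⁻¹) by group,
      mul_self hD.1 ha, mul_one]
    simpa [mul_assoc] using hg

theorem one_coset_of_connected (hD : Cfsg.IsThreeTranspositionClass D) {L : Subgroup G}
    (hw : ∀ a ∈ D, ∀ b ∈ D, a * b * a⁻¹ * b⁻¹ ∈ L → a⁻¹ * b ∈ L)
    (hcon : (Cfsg.commutingGraph D).Connected) {d : G} (hd : d ∈ D) : ∀ a ∈ D, d⁻¹ * a ∈ L := by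
  intro a ha
  obtain ⟨w⟩ := hcon.preconnected ⟨d, hd⟩ ⟨a, ha⟩
  suffices ∀ x y : D, (Cfsg.commutingGraph D).Walk x y → (x : G)⁻¹ * y ∈ L from this _ _ w
  intro x y w
  induction w with
  | nil => simp
  | @cons u v z hadj _ ih =>
    have hcomm : Commute (u : G) v := by
      rw [Cfsg.commutingGraph, SimpleGraph.fromRel_adj] at hadj
      exact hadj.2.elim id fun h => h.symm
    have h1 := hw u u.2 v v.2 (by rw [hcomm.eq, mul_inv_cancel_right, mul_inv_cancel]; exact one_mem L)
    simpa [mul_assoc] using mul_mem h1 ih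

theorem component_eq_of_fitting [Finite G] (hD : Cfsg.IsThreeTranspositionClass D) {L : Subgroup G}
    [L.Normal] (hL : Cfsg.IsQuasisimple L) : Cfsg.layer G = L :=
  le_antisymm (Components.layer_le_iff.2 fun _ hM => (component_unique hD hM (isComponent_of_normal hL)).le)
    (Components.component_le_layer (isComponent_of_normal hL))

theorem primitive_class (hD : Cfsg.IsThreeTranspositionGroup D) (hp : Cfsg.IsPrimitiveUnderConj D) :
    Cfsg.IsThreeTranspositionClass D := by
  obtain ⟨a, ha, -⟩ := hp.2.1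
  refine ⟨hD.1, ⟨a, ha, Set.ext fun x => ⟨fun hx => ?_, fun hx => ?_⟩⟩, hD.2.2⟩
  · exact isConj_iff.2 (hp.1 a ha x hx)
  · obtain ⟨g, rfl⟩ := isConj_iff.1 (show IsConj a x from hx)
    exact hD.2.1 g a ha

/-- The block of an invariant equivalence. -/
theorem isConjBlock_class (hc : Invariant D) (R : G → G → Prop) (hrefl : ∀ d ∈ D, R d d)
    (hsymm : ∀ a ∈ D, ∀ b ∈ D, R a b → R b a) (htrans : ∀ a b c, R a b → R b c → R a c)
    (hmem : ∀ a b, R a b → b ∈ D) (hconj : ∀ a b, R a b → ∀ g : G, R (g * a * g⁻¹) (g * b * g⁻¹))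
    {d : G} (hd : d ∈ D) : IsConjBlock {x | R d x} := by
  intro g
  by_cases h : R d (g * d * g⁻¹)
  · left
    ext x
    constructor
    · rintro ⟨y, hy, rfl⟩; exact htrans _ _ _ h (hconj _ _ hy g)
    · intro hx
      refine ⟨g⁻¹ * x * g, ?_, by group⟩
      have h1 := hconj _ _ (htrans _ _ _ (hsymm d hd _ (hc g d hd) h) hx) g⁻¹
      simpa [mul_assoc] using h1
  · right
    rw [Set.disjoint_left]
    rintro _ ⟨y, hy, rfl⟩ hyd
    exact h (htrans _ _ _ hyd (hsymm _ (hc g d hd) _ (hc g y (hmem _ _ hy)) (hconj _ _ hy g)))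

theorem primitive_facts [Finite G] (hD : Cfsg.IsThreeTranspositionGroup D)
    (hp : Cfsg.IsPrimitiveUnderConj D) (hw : ∃ a ∈ D, ∃ b ∈ D, a ≠ b ∧ Commute a b) :
    Cfsg.pCore 2 G ≤ Subgroup.center G ∧ Cfsg.pCore 3 G ≤ Subgroup.center G ∧
      (Cfsg.commutingGraph D).Connected := by
  have hcl := primitive_class hD hp
  have hc := hD.2.1
  obtain ⟨a, ha, b, hb, hab, hcab⟩ := hw
  refine ⟨?_, ?_, ?_⟩
  · by_contra h
    obtain ⟨n, hn, hne⟩ := exists_moved_of_not_central hcl h ha
    have hv := vRel_of_mul_mem_pCore hD.1 ha (hc n a ha) (conj_mul_mem_pCore hD.1 ha hn)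
    rcases hp.2.2 {x | VRel D a x} (fun x hx => hx.1)
      (isConjBlock_class hc (VRel D) (fun _ h => vRel_refl h) (fun _ h _ _ h' => vRel_symm h h')
        (fun _ _ _ => vRel_trans) (fun _ _ h => h.1) (fun _ _ h g => vRel_conj hc h g) ha) with h1 | h1
    · exact hne (h1 hv (vRel_refl ha))
    · obtain ⟨e, he, hae⟩ := exists_not_commute hcl ⟨a, ha, b, hb, hab⟩ ha
      exact hae (vRel_commute ha (show e ∈ {x | VRel D a x} by rw [h1]; exact he))
  · by_contra h
    obtain ⟨n, hn, hne⟩ := exists_moved_of_not_central hcl h ha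
    have hv := wRel_of_mul_mem_pCore hD.1 ha (hc n a ha) (conj_mul_mem_pCore hD.1 ha hn)
    rcases hp.2.2 {x | WRel D a x} (fun x hx => hx.1)
      (isConjBlock_class hc (WRel D) (fun _ h => wRel_refl h) (fun _ h _ _ h' => wRel_symm h h')
        (fun _ _ _ => wRel_trans) (fun _ _ h => h.1) (fun _ _ h g => wRel_conj hc h g) ha) with h1 | h1
    · exact hne (h1 hv (wRel_refl ha))
    · exact wRel_not_commute (show b ∈ {x | WRel D a x} by rw [h1]; exact hb) hab.symm hcab
  · let R : G → G → Prop := fun x y =>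
      ∃ (hx : x ∈ D) (hy : y ∈ D), (Cfsg.commutingGraph D).Reachable ⟨x, hx⟩ ⟨y, hy⟩
    let hom : ∀ g : G, Cfsg.commutingGraph D →g Cfsg.commutingGraph D := fun g =>
      { toFun := fun x => ⟨g * x * g⁻¹, hc g x x.2⟩
        map_rel' := by
          intro x y hxy
          rw [Cfsg.commutingGraph, SimpleGraph.fromRel_adj] at hxy ⊢
          refine ⟨fun e => hxy.1 (Subtype.ext ?_), ?_⟩
          · simpa using congrArg Subtype.val e
          · exact hxy.2.imp (commute_conj_iff g _ _).2 (commute_conj_iff g _ _).2 }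
    have hblk : IsConjBlock {x | R a x} := isConjBlock_class hc R (fun _ h => ⟨h, h, .rfl⟩)
      (fun _ _ _ _ ⟨h1, h2, h⟩ => ⟨h2, h1, h.symm⟩)
      (fun _ _ _ ⟨h1, _, h⟩ ⟨_, h3, h'⟩ => ⟨h1, h3, h.trans h'⟩) (fun _ _ ⟨_, h, _⟩ => h)
      (fun _ _ ⟨h1, h2, h⟩ g => ⟨hc g _ h1, hc g _ h2, h.map (hom g)⟩) ha
    have hb' : R a b := ⟨ha, hb, SimpleGraph.Adj.reachable (by
      rw [Cfsg.commutingGraph, SimpleGraph.fromRel_adj]
      exact ⟨fun e => hab (congrArg Subtype.val e), Or.inl hcab⟩)⟩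
    rcases hp.2.2 {x | R a x} (fun x ⟨_, h, _⟩ => h) hblk with h1 | h1
    · exact absurd (h1 hb' ⟨ha, ha, .rfl⟩) hab.symm
    · haveI : Nonempty D := ⟨⟨a, ha⟩⟩
      refine ⟨fun x y => ?_⟩
      obtain ⟨_, _, hx⟩ := ((Set.ext_iff.1 h1 (x : G)).2 x.2 : R a x)
      obtain ⟨_, _, hy⟩ := ((Set.ext_iff.1 h1 (y : G)).2 y.2 : R a y)
      exact hx.symm.trans hy

section Transitivity

variable [Finite G]

theorem mem_center_of_solvable_normal (hD : Cfsg.IsThreeTranspositionClass D)
    (h2 : Cfsg.pCore 2 G ≤ Subgroup.center G) (h3 : Cfsg.pCore 3 G ≤ Subgroup.center G)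
    (N : Subgroup G) [N.Normal] (hN : Group.IsSolvable N) : N ≤ Subgroup.center G := by
  have hF := fitting_le_center hD h2 h3
  have hcen : N ≤ Subgroup.centralizer (Cfsg.generalizedFittingSubgroup G : Set G) := by
    rw [Subgroup.le_centralizer_iff, Cfsg.generalizedFittingSubgroup, sup_le_iff]
    exact ⟨Components.layer_le_centralizer_of_isSolvable N hN,
      hF.trans (Subgroup.center_le_centralizer _)⟩
  have hNc : ∀ x y : N, x * y = y * x := fun x y => Subtype.ext
    ((Subgroup.mem_centralizer_iff.1 (hcen y.2) _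
      (Components.centralizer_generalizedFitting_le (hcen x.2))))
  haveI : IsMulCommutative N := ⟨⟨hNc⟩⟩
  exact le_trans (le_sSup (show N ∈ {M : Subgroup G | M.Normal ∧ Group.IsNilpotent M} from
    ⟨inferInstance, inferInstance⟩)) hF

/-- Fischer: the members commuting with `d` form one orbit of the group they generate. -/
theorem transitive_commuting (hD : Cfsg.IsThreeTranspositionClass D) (hD2 : ∃ a ∈ D, ∃ b ∈ D, a ≠ b)
    (h2 : Cfsg.pCore 2 G ≤ Subgroup.center G) (h3 : Cfsg.pCore 3 G ≤ Subgroup.center G)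
    {d y y' : G} (hd : d ∈ D) (hy : y ∈ D) (hyd : y ≠ d) (hdy : Commute d y) (hy' : y' ∈ D)
    (hyd' : y' ≠ d) (hdy' : Commute d y') :
    ∃ g ∈ Subgroup.closure {z : G | z ∈ D ∧ z ≠ d ∧ Commute d z}, g * y * g⁻¹ = y' := by
  set π := QuotientGroup.mk' (Subgroup.center G) with hπ
  have hc := class_invariant hD
  -- members congruent modulo the centre are equal
  have hinj : ∀ u ∈ D, ∀ v ∈ D, π u = π v → u = v := by
    intro u hu v hv huv
    obtain ⟨z, hz, rfl⟩ : ∃ z ∈ Subgroup.center G, u * z = v :=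
      ⟨u⁻¹ * v, QuotientGroup.eq.1 huv, by group⟩
    have hV : VRel D u (u * z) := ⟨hv, fun e _ => by
      constructor
      · intro h
        have hzc : Commute z⁻¹ e := (Subgroup.mem_center_iff.1 (inv_mem hz) e).symm
        simpa using h.mul_left hzc
      · exact fun h => h.mul_left (Subgroup.mem_center_iff.1 hz e).symm⟩
    obtain ⟨g, hg, e⟩ := (Set.ext_iff.1 (vClass_eq hD hD2 hu).2 _).1 hV
    rw [e, (Subgroup.mem_center_iff.1 (h2 hg) u).symm, mul_inv_cancel_right]
  have hcomm : ∀ u ∈ D, ∀ v ∈ D, Commute (π u) (π v) → Commute u v := by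
    intro u hu v hv huv
    have hmem : π (u * v * u) = π v := by
      rw [map_mul, map_mul, huv.eq, mul_assoc, ← map_mul π u u, mul_self hD.1 hu, map_one, mul_one]
    exact commute_of_conj_eq hD.1 hu (hinj _ (conj_mem hD.1 hc hu hv) _ hv hmem)
  have hne : ∀ u ∈ D, π u ≠ 1 := by
    intro u hu e
    obtain ⟨v, hv, huv⟩ := exists_not_commute hD hD2 hu
    exact huv (hcomm u hu v hv (by rw [e]; exact Commute.one_left _))
  have hclass : Cfsg.IsThreeTranspositionClass (π '' D) := by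
    refine ⟨set_image hD.1 π hne, ⟨π d, ⟨d, hd, rfl⟩, Set.ext fun x => ⟨?_, ?_⟩⟩, ?_⟩
    · rintro ⟨u, hu, rfl⟩
      obtain ⟨g, rfl⟩ := class_isConj hD hd hu
      exact isConj_iff.2 ⟨π g, by simp only [map_mul, map_inv]⟩
    · intro hx
      obtain ⟨g', hg'⟩ := isConj_iff.1 (show IsConj (π d) x from hx)
      obtain ⟨g, rfl⟩ := QuotientGroup.mk'_surjective _ g'
      exact ⟨g * d * g⁻¹, hc g d hd, by rw [← hg']; simp only [hπ, map_mul, map_inv]⟩
    · rw [← MonoidHom.map_closure, hD.2.2, ← MonoidHom.range_eq_map,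
        MonoidHom.range_eq_top.2 (QuotientGroup.mk'_surjective _)]
  have hsol : SporStructure.NoSolvableNormal (G ⧸ Subgroup.center G) := by
    intro N hN hNs
    rw [eq_bot_iff]
    intro x hx
    obtain ⟨g, rfl⟩ := QuotientGroup.mk'_surjective _ x
    haveI : (N.comap π).Normal := hN.comap π
    haveI := hNs
    have hsolv : Group.IsSolvable (N.comap π) := by
      refine solvable_of_ker_le_range (Subgroup.inclusion (show Subgroup.center G ≤ N.comap π from
        fun z hz => by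
          rw [Subgroup.mem_comap, hπ, QuotientGroup.mk'_apply, (QuotientGroup.eq_one_iff z).2 hz]
          exact one_mem N))
        ((π.comp (N.comap π).subtype).codRestrict N fun z => z.2) ?_
      intro z hz
      rw [MonoidHom.mem_ker] at hz
      exact ⟨⟨z, (QuotientGroup.eq_one_iff _).1 (congrArg Subtype.val hz)⟩, rfl⟩
    rw [Subgroup.mem_bot]
    exact (QuotientGroup.eq_one_iff g).2 (mem_center_of_solvable_normal hD h2 h3 _ hsolv hx)
  have hmem : ∀ u ∈ D, u ≠ d → Commute d u → π u ∈ SporStructure.Dperp (π '' D) (π d) :=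
    fun u hu hud hdu => ⟨⟨u, hu, rfl⟩, fun e => hud (hinj u hu d hd e), hdu.map π⟩
  have horb := SporStructure.dperp_transitive hsol hclass ⟨d, hd, rfl⟩ (hmem y hy hyd hdy)
  have hy'mem := hmem y' hy' hyd' hdy'
  rw [← horb] at hy'mem
  obtain ⟨k, hk, hky⟩ := hy'mem
  have hlift : k ∈ (Subgroup.closure {z : G | z ∈ D ∧ z ≠ d ∧ Commute d z}).map π := by
    have hle : Subgroup.closure (SporStructure.Dperp (π '' D) (π d)) ≤
        (Subgroup.closure {z : G | z ∈ D ∧ z ≠ d ∧ Commute d z}).map π := by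
      rw [Subgroup.closure_le]
      rintro _ ⟨⟨u, hu, rfl⟩, hud, hdu⟩
      exact ⟨u, Subgroup.subset_closure ⟨hu, fun e => hud (by rw [e]), hcomm d hd u hu hdu⟩, rfl⟩
    exact hle hk
  obtain ⟨g, hg, rfl⟩ := hlift
  refine ⟨g, hg, hinj _ (hc g y hy) _ hy' ?_⟩
  rw [← hky, SporStructure.cnj, map_mul, map_mul, map_inv]

omit [Finite G] in
theorem third_not_commute (hD : Cfsg.IsThreeTranspositionSet D) {c e : G} (hc : c ∈ D) (he : e ∈ D)
    (h : ¬ Commute c e) {y : G} (hy : y ∈ D) (hcy : Commute y c) (hye : ¬ Commute y e) :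
    ¬ Commute y (c * e * c) := by
  intro hh
  apply hye
  have h1 := (hcy.mul_right hh).mul_right hcy
  simpa [mul_assoc, mul_self hD hc, mul_left_cancel_self hD hc] using h1

/-- Fischer: the centralizer of `d` is transitive on the members not commuting with `d`. -/
theorem transitive_noncommuting (hD : Cfsg.IsThreeTranspositionClass D)
    (h2 : Cfsg.pCore 2 G ≤ Subgroup.center G) (h3 : Cfsg.pCore 3 G ≤ Subgroup.center G)
    (hcon : (Cfsg.commutingGraph D).Connected) {a c c' : G} (ha : a ∈ D) (hc : c ∈ D)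
    (hac : ¬ Commute a c) (hc' : c' ∈ D) (hac' : ¬ Commute a c') :
    ∃ g : G, Commute g a ∧ g * c * g⁻¹ = c' := by
  classical
  have hD2 : ∃ x ∈ D, ∃ y ∈ D, x ≠ y := ⟨a, ha, c, hc, fun e => hac (e ▸ Commute.refl a)⟩
  have hinv := class_invariant hD
  let R : G → G → Prop := fun x y => ∃ g : G, Commute g a ∧ g * x * g⁻¹ = y
  have Rrefl : ∀ x, R x x := fun x => ⟨1, Commute.one_left a, by simp⟩
  have Rsymm : ∀ {x y}, R x y → R y x := by
    rintro x _ ⟨g, hg, rfl⟩; exact ⟨g⁻¹, hg.inv_left, by group⟩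
  have Rtrans : ∀ {x y z}, R x y → R y z → R x z := by
    rintro x _ _ ⟨g, hg, rfl⟩ ⟨k, hk, rfl⟩; exact ⟨k * g, hk.mul_left hg, by group⟩
  set P : G → Set G := fun x => {y | y ∈ D ∧ y ≠ a ∧ Commute a y ∧ Commute y x} with hP
  -- commuting members outside `a^⊥` are in one orbit
  have Rcomm : ∀ x ∈ D, ∀ z ∈ D, ¬ Commute a x → ¬ Commute a z → Commute x z → R x z := by
    intro x hx z hz hax haz hxz
    by_cases hxz' : x = z
    · exact hxz' ▸ Rrefl x
    obtain ⟨φ, -, h01, h12, h23⟩ := exists_sym4 hD.1 hx ha hz hxz' hxz (fun h => hax h.symm) haz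
    refine ⟨φ (Equiv.swap 0 3 * Equiv.swap 1 2), ?_, ?_⟩
    · rw [commute_iff_eq, ← h12, ← map_mul, ← map_mul]
      congr 1
      decide
    · rw [← h01, ← h23, ← map_inv, ← map_mul, ← map_mul]
      congr 1
      decide
  -- a common neighbour on one side but not the other puts the third point in the other orbit
  have Rthird : ∀ x ∈ D, ∀ z ∈ D, ¬ Commute a x → ¬ Commute a z → ¬ R x z →
      ∀ y ∈ P z, ¬ Commute y x → R x (z * x * z) := by
    intro x hx z hz hax haz hne y hy hyx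
    obtain ⟨hyD, -, hay, hyz⟩ := hy
    have hxz : ¬ Commute x z := fun h => hne (Rcomm x hx z hz hax haz h)
    set w := z * x * z with hw
    have hwD : w ∈ D := conj_mem hD.1 hinv hz hx
    have hyw : ¬ Commute y w := third_not_commute hD.1 hz hx (fun h => hxz h.symm) hyD hyz hyx
    have hd' : y * w * y ∈ D := conj_mem hD.1 hinv hyD hwD
    have hcd : Commute x (y * w * y) := by
      obtain ⟨φ, -, h01, h12, h23⟩ := exists_sym4 hD.1 hyD hx hz
        (fun e => haz (e ▸ hay)) hyz hyx hxz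
      rw [hw, ← h12, ← h01, ← h23, commute_iff_eq]
      simp only [← map_mul]
      congr 1
      decide
    have haw : ¬ Commute a w := by
      intro h
      apply hne
      refine ⟨w, h.symm, ?_⟩
      rw [inv_eq hD.1 hwD, hw, show z * x * z * x * (z * x * z) = z * (x * z * x) * z * x * z by
        simp only [mul_assoc], braid hD.1 hx hz hxz, conj_conj_self hD.1 hz, mul_self hD.1 hx, one_mul]
    have had' : ¬ Commute a (y * w * y) := fun h =>
      haw (by
        have := (hay.mul_right h).mul_right hay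
        simpa [mul_assoc, mul_self hD.1 hyD, mul_left_cancel_self hD.1 hyD] using this)
    refine Rtrans (Rcomm x hx _ hd' hax had' hcd) ⟨y, hay.symm, ?_⟩
    rw [inv_eq hD.1 hyD, conj_conj_self hD.1 hyD]
  have Rincl : ∀ x ∈ D, ∀ z ∈ D, ¬ Commute a x → ¬ Commute a z → ¬ R x z → P x ⊆ P z ∨ P z ⊆ P x := by
    intro x hx z hz hax haz hne
    by_contra h
    push Not at h
    obtain ⟨⟨y, hy, hyz⟩, ⟨y', hy', hyx⟩⟩ := (h.imp Set.not_subset.1 Set.not_subset.1)
    have r1 := Rthird x hx z hz hax haz hne y' hy' fun h' => hyx ⟨hy'.1, hy'.2.1, hy'.2.2.1, h'⟩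
    have r2 := Rthird z hz x hx haz hax (fun r => hne (Rsymm r)) y hy
      fun h' => hyz ⟨hy.1, hy.2.1, hy.2.2.1, h'⟩
    have e : x * z * x = z * x * z :=
      braid hD.1 hx hz fun h' => hne (Rcomm x hx z hz hax haz h')
    rw [e] at r2
    exact hne (Rtrans r1 (Rsymm r2))
  -- `P` is carried along orbits
  have Pmove : ∀ {x z}, R x z → ∀ y ∈ P x, ∃ y' ∈ P z, True ∧ (P z).ncard = (P x).ncard := by
    rintro x _ ⟨g, hg, rfl⟩ y hy
    have hmap : ∀ {g x}, Commute g a → ∀ y ∈ P x, g * y * g⁻¹ ∈ P (g * x * g⁻¹) := by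
      intro g x hg y hy
      have hga : g * a * g⁻¹ = a := by rw [hg.eq, mul_inv_cancel_right]
      refine ⟨hinv g y hy.1, fun e => hy.2.1 ?_, ?_, (commute_conj_iff g _ _).2 hy.2.2.2⟩
      · rw [← hga] at e; simpa using e
      · rw [← hga]; exact (commute_conj_iff g _ _).2 hy.2.2.1
    refine ⟨_, hmap hg y hy, trivial, ?_⟩
    rw [← Set.ncard_image_of_injective (P x) (MulAut.conj g).injective]
    congr 1
    ext u
    constructor
    · intro hu
      have := hmap hg.inv_left u hu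
      rw [show g⁻¹ * (g * x * g⁻¹) * g⁻¹⁻¹ = x by group] at this
      exact ⟨_, this, by simp [mul_assoc]⟩
    · rintro ⟨u, hu, rfl⟩; exact hmap hg u hu
  by_contra hne
  let A : Set G := {x | x ∈ D ∧ ¬ Commute a x}
  let Apos : Set G := {x | x ∈ A ∧ (P x).Nonempty}
  -- members with empty `P` would be a component of the commuting graph
  have hApos : ∀ x ∈ A, ∀ z ∈ A, (P x).Nonempty → R x z → (P z).Nonempty := by
    rintro x - z - ⟨y, hy⟩ hr
    obtain ⟨y', hy', -⟩ := Pmove hr y hy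
    exact ⟨y', hy'⟩
  have hallpos : ∀ x ∈ A, (P x).Nonempty := by
    intro x hx
    by_contra hemp
    obtain ⟨w⟩ := hcon.preconnected ⟨x, hx.1⟩ ⟨a, ha⟩
    suffices ∀ u v : D, (Cfsg.commutingGraph D).Walk u v → (u : G) ∈ A → ¬ (P (u : G)).Nonempty →
        (v : G) ∈ A by
      exact (this _ _ w hx hemp).2 (Commute.refl a)
    intro u v w
    induction w with
    | nil => exact fun h _ => h
    | @cons u u' _ hadj _ ih =>
      intro huA hu
      rw [Cfsg.commutingGraph, SimpleGraph.fromRel_adj] at hadj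
      have hcomm : Commute (u : G) u' := hadj.2.elim id fun h => h.symm
      have hau : ¬ Commute a (u' : G) := by
        intro h
        refine hu ⟨u', u'.2, fun e => ?_, h, hcomm.symm⟩
        exact huA.2 (e ▸ hcomm).symm
      exact ih ⟨u'.2, hau⟩ fun hp =>
        hu (hApos _ ⟨u'.2, hau⟩ _ huA hp (Rcomm _ u'.2 _ u.2 hau huA.2 hcomm.symm))
  obtain ⟨x, hx, hmin⟩ := Set.exists_min_image A (fun x => (P x).ncard) (Set.toFinite _) ⟨c, hc, hac⟩
  -- another orbit
  obtain ⟨z, hz, hxz⟩ : ∃ z ∈ A, ¬ R x z := by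
    by_contra h
    push Not at h
    exact hne (Rtrans (Rsymm (h c ⟨hc, hac⟩)) (h c' ⟨hc', hac'⟩))
  -- every member of `a^⊥` commutes with `z`
  have hall : ∀ y ∈ D, y ≠ a → Commute a y → Commute y z := by
    intro y hy hya hay
    obtain ⟨y0, hy0⟩ := hallpos x hx
    obtain ⟨g, hg, hgy⟩ := transitive_commuting hD hD2 h2 h3 ha hy0.1 hy0.2.1 hy0.2.2.1 hy hya hay
    have hga : Commute g a := by
      have hle : Subgroup.closure {z : G | z ∈ D ∧ z ≠ a ∧ Commute a z} ≤ Subgroup.centralizer {a} :=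
        (Subgroup.closure_le _).2 fun u hu => Subgroup.mem_centralizer_singleton_iff.2 hu.2.2.eq.symm
      exact Subgroup.mem_centralizer_singleton_iff.1 (hle hg)
    have hr : R x (g * x * g⁻¹) := ⟨g, hga, rfl⟩
    have hx' : g * x * g⁻¹ ∈ D := hinv g x hx.1
    have hax' : ¬ Commute a (g * x * g⁻¹) := by
      intro h
      apply hx.2
      rw [← commute_conj_iff g, show g * a * g⁻¹ = a by rw [hga.eq, mul_inv_cancel_right]]
      exact h
    have hyP : y ∈ P (g * x * g⁻¹) :=
      ⟨hy, hya, hay, by rw [← hgy]; exact (commute_conj_iff g _ _).2 hy0.2.2.2⟩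
    have hxz' : ¬ R (g * x * g⁻¹) z := fun r => hxz (Rtrans hr r)
    obtain ⟨_, _, -, hcard⟩ := Pmove hr y0 hy0
    rcases Rincl _ hx' z hz.1 hax' hz.2 hxz' with hsub | hsub
    · exact (hsub hyP).2.2.2
    · have heq := Set.eq_of_subset_of_ncard_le hsub (hcard ▸ hmin z hz) (Set.toFinite _)
      exact (show y ∈ P z by rw [heq]; exact hyP).2.2.2
  have hsub : {y : G | y ∈ D ∧ y ≠ a ∧ Commute a y} ⊆ {y : G | y ∈ D ∧ y ≠ z ∧ Commute z y} :=
    fun y hy => ⟨hy.1, fun e => hz.2 (e ▸ hy.2.2), (hall y hy.1 hy.2.1 hy.2.2).symm⟩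
  have hw : WRel D a z := by
    refine ⟨hz.1, Set.eq_of_subset_of_ncard_le hsub ?_ (Set.toFinite _)⟩
    obtain ⟨g, rfl⟩ := class_isConj hD ha hz.1
    rw [← Set.ncard_image_of_injective {y : G | y ∈ D ∧ y ≠ a ∧ Commute a y} (MulAut.conj g).injective]
    refine le_of_eq (congrArg Set.ncard (Set.ext fun u => ⟨?_, ?_⟩))
    · rintro ⟨hu, hne', hcu⟩
      refine ⟨g⁻¹ * u * g, ⟨by simpa using hinv g⁻¹ u hu, fun e => hne' ?_, ?_⟩, by simp [mul_assoc]⟩
      · rw [← e]; group
      · rw [← commute_conj_iff g, show g * (g⁻¹ * u * g) * g⁻¹ = u by group]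
        exact hcu
    · rintro ⟨u, ⟨hu, hne', hcu⟩, rfl⟩
      exact ⟨hinv g u hu, fun e => hne' (by simpa using e), (commute_conj_iff g _ _).2 hcu⟩
  obtain ⟨g, hg, e⟩ := (Set.ext_iff.1 (wClass_eq hD ha).2 z).1 hw
  apply hz.2
  rw [e, (Subgroup.mem_center_iff.1 (h3 hg) a).symm, mul_inv_cancel_right]

/-- The subgroup generated by `d^⊥` is a maximal D-subgroup. -/
theorem perp_maximal (hD : Cfsg.IsThreeTranspositionClass D) (hD2 : ∃ a ∈ D, ∃ b ∈ D, a ≠ b)
    (h2 : Cfsg.pCore 2 G ≤ Subgroup.center G) (h3 : Cfsg.pCore 3 G ≤ Subgroup.center G)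
    (hcon : (Cfsg.commutingGraph D).Connected) {d : G} (hd : d ∈ D) :
    Subgroup.closure {y : G | y ∈ D ∧ Commute d y} ≠ ⊤ ∧ ∀ H : Subgroup G, Cfsg.IsDSubgroup D H →
      Subgroup.closure {y : G | y ∈ D ∧ Commute d y} ≤ H →
        H = Subgroup.closure {y : G | y ∈ D ∧ Commute d y} ∨ H = ⊤ := by
  have hle : Subgroup.closure {y : G | y ∈ D ∧ Commute d y} ≤ Subgroup.centralizer {d} :=
    (Subgroup.closure_le _).2 fun y hy => Subgroup.mem_centralizer_singleton_iff.2 hy.2.eq.symm
  refine ⟨fun htop => ?_, fun H hH hHle => ?_⟩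
  · obtain ⟨e, he, hde⟩ := exists_not_commute hD hD2 hd
    exact hde (Subgroup.mem_centralizer_singleton_iff.1 (hle (htop ▸ Subgroup.mem_top e))).symm
  by_cases hall : ∀ e ∈ D, e ∈ H → Commute d e
  · refine Or.inl (le_antisymm ?_ hHle)
    rw [← hH]
    exact Subgroup.closure_mono fun e he => ⟨he.1, hall e he.1 he.2⟩
  push Not at hall
  obtain ⟨e, he, heH, hde⟩ := hall
  refine Or.inr ?_
  have hinv := class_invariant hD
  have hperp : ∀ y ∈ D, Commute d y → y ∈ H := fun y hy hdy => hHle (Subgroup.subset_closure ⟨hy, hdy⟩)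
  have hdH : d ∈ H := hperp d hd (Commute.refl d)
  let B : Set G := {x | ∃ h ∈ H, h * d * h⁻¹ = x}
  have hBperp : ∀ x ∈ B, ∀ y ∈ D, Commute x y → y ∈ H := by
    rintro _ ⟨h, hh, rfl⟩ y hy hxy
    have hy' : h⁻¹ * y * h ∈ D := by simpa using hinv h⁻¹ y hy
    have hc' : Commute d (h⁻¹ * y * h) := by
      rw [← commute_conj_iff h, show h * (h⁻¹ * y * h) * h⁻¹ = y by group]; exact hxy
    have := mul_mem (mul_mem hh (hperp _ hy' hc')) (inv_mem hh)
    rwa [show h * (h⁻¹ * y * h) * h⁻¹ = y by group] at this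
  have hnc : ∀ x ∈ B, ∀ y ∈ D, y ∈ H → ¬ Commute x y → y ∈ B := by
    rintro _ ⟨h, hh, rfl⟩ y hy hyH hxy
    have hxH : h * d * h⁻¹ ∈ H := mul_mem (mul_mem hh hdH) (inv_mem hh)
    refine ⟨(h * d * h⁻¹) * y * h, mul_mem (mul_mem hxH hyH) hh, ?_⟩
    set x := h * d * h⁻¹ with hx
    have hxD : x ∈ D := hinv h d hd
    rw [mul_inv_rev, mul_inv_rev, inv_eq hD.1 hy,
      show x * y * h * d * (h⁻¹ * (y * x⁻¹)) = x * y * x * y * x⁻¹ by rw [hx]; group, inv_eq hD.1 hxD,
      show x * y * x * y * x = x * (y * x * y) * x by simp only [mul_assoc], ← braid hD.1 hxD hy hxy,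
      conj_conj_self hD.1 hxD]
  have heB : e ∈ B := hnc d ⟨1, one_mem H, by simp⟩ e he heH hde
  -- every member commuting with `d` is in `B`
  have hperpB : ∀ y ∈ D, y ≠ d → Commute d y → y ∈ B := by
    intro y hy hyd hdy
    by_contra hyB
    have hRinv : ∀ k ∈ H, ∀ u, u ∉ B → k * u * k⁻¹ ∉ B := by
      rintro k hk u hu ⟨h, hh, hu'⟩
      exact hu ⟨k⁻¹ * h, mul_mem (inv_mem hk) hh, by
        rw [show k⁻¹ * h * d * (k⁻¹ * h)⁻¹ = k⁻¹ * (h * d * h⁻¹) * k by group, hu']; group⟩
    have hall' : ∀ u ∈ D, u ≠ d → Commute d u → Commute e u := by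
      intro u hu hud hdu
      obtain ⟨g, hg, rfl⟩ := transitive_commuting hD hD2 h2 h3 hd hy hyd hdy hu hud hdu
      have hgH : g ∈ H := hHle (Subgroup.closure_mono (k := {y : G | y ∈ D ∧ Commute d y})
        (fun z hz => ⟨hz.1, hz.2.2⟩) hg)
      by_contra hne
      exact hRinv g hgH y hyB (hnc e heB _ hu (hperp _ hu hdu) hne)
    have hsub : {y : G | y ∈ D ∧ y ≠ d ∧ Commute d y} ⊆ {y : G | y ∈ D ∧ y ≠ e ∧ Commute e y} :=
      fun u hu => ⟨hu.1, fun h => hde (h ▸ hu.2.2), hall' u hu.1 hu.2.1 hu.2.2⟩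
    have hw : WRel D d e := by
      refine ⟨he, Set.eq_of_subset_of_ncard_le hsub ?_ (Set.toFinite _)⟩
      obtain ⟨g, rfl⟩ := class_isConj hD hd he
      rw [← Set.ncard_image_of_injective {y : G | y ∈ D ∧ y ≠ d ∧ Commute d y} (MulAut.conj g).injective]
      refine le_of_eq (congrArg Set.ncard (Set.ext fun u => ⟨?_, ?_⟩))
      · rintro ⟨hu, hne', hcu⟩
        refine ⟨g⁻¹ * u * g, ⟨by simpa using hinv g⁻¹ u hu, fun h => hne' ?_, ?_⟩, by simp [mul_assoc]⟩
        · rw [← h]; group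
        · rw [← commute_conj_iff g, show g * (g⁻¹ * u * g) * g⁻¹ = u by group]
          exact hcu
      · rintro ⟨u, ⟨hu, hne', hcu⟩, rfl⟩
        exact ⟨hinv g u hu, fun h => hne' (by simpa using h), (commute_conj_iff g _ _).2 hcu⟩
    obtain ⟨g, hg, h⟩ := (Set.ext_iff.1 (wClass_eq hD hd).2 e).1 hw
    exact hde (by rw [h, (Subgroup.mem_center_iff.1 (h3 hg) d).symm, mul_inv_cancel_right])
  -- `B` is closed in the commuting graph
  have hclosed : ∀ x ∈ B, ∀ y ∈ D, Commute x y → y ∈ B := by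
    intro x hx y hy hxy
    obtain ⟨h, hh, rfl⟩ := hx
    have hy' : h⁻¹ * y * h ∈ D := by simpa using hinv h⁻¹ y hy
    have hc' : Commute d (h⁻¹ * y * h) := by
      rw [← commute_conj_iff h, show h * (h⁻¹ * y * h) * h⁻¹ = y by group]; exact hxy
    obtain ⟨k, hk, hky⟩ : h⁻¹ * y * h ∈ B := by
      by_cases h' : h⁻¹ * y * h = d
      · exact ⟨1, one_mem H, by simp [h']⟩
      · exact hperpB _ hy' h' hc'
    exact ⟨h * k, mul_mem hh hk, by
      rw [show h * k * d * (h * k)⁻¹ = h * (k * d * k⁻¹) * h⁻¹ by group, hky]; group⟩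
  rw [eq_top_iff, ← hD.2.2, Subgroup.closure_le]
  intro y hy
  obtain ⟨w⟩ := hcon.preconnected ⟨d, hd⟩ ⟨y, hy⟩
  suffices ∀ u v : D, (Cfsg.commutingGraph D).Walk u v → (u : G) ∈ B → (v : G) ∈ B by
    obtain ⟨h, hh, e'⟩ := this _ _ w (⟨1, one_mem H, by simp⟩ : d ∈ B)
    have := mul_mem (mul_mem hh hdH) (inv_mem hh)
    rwa [e'] at this
  intro u v w
  induction w with
  | nil => exact id
  | @cons u u' _ hadj _ ih =>
    intro hu
    rw [Cfsg.commutingGraph, SimpleGraph.fromRel_adj] at hadj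
    exact ih (hclosed _ hu _ u'.2 (hadj.2.elim id fun h => h.symm))

end Transitivity

end Cfsg.Agent.FischerSpace
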