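import Cfsg.Agent.Lib.FischerSpace.Basic

/-!
# The symmetric group of degree four from three involutions forming a string

`sym4Hom a b c` is the homomorphism `Equiv.Perm (Fin 4) →* G` taking the adjacent transpositions
to `a`, `b`, `c`, for elements satisfying the Coxeter relations of type A₃.
-/

set_option autoImplicit false
set_option linter.unusedSimpArgs false

namespace Cfsg.Agent.FischerSpace.Sym4

/-- Index set of the normal forms. -/
abbrev Norm : Type := Fin 2 × Fin 3 × Fin 4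

def stepA : Fin 2 → Fin 3 → Fin 4 → Norm
  | 0, 0, 0 => (1, 0, 0)
  | 0, 0, 1 => (1, 0, 1)
  | 0, 0, 2 => (1, 0, 2)
  | 0, 0, 3 => (1, 0, 3)
  | 0, 1, 0 => (1, 1, 0)
  | 0, 1, 1 => (1, 1, 1)
  | 0, 1, 2 => (1, 1, 2)
  | 0, 1, 3 => (1, 1, 3)
  | 0, 2, 0 => (1, 2, 0)
  | 0, 2, 1 => (1, 2, 1)
  | 0, 2, 2 => (1, 2, 2)
  | 0, 2, 3 => (1, 2, 3)
  | 1, 0, 0 => (0, 0, 0)
  | 1, 0, 1 => (0, 0, 1)
  | 1, 0, 2 => (0, 0, 2)
  | 1, 0, 3 => (0, 0, 3)
  | 1, 1, 0 => (0, 1, 0)
  | 1, 1, 1 => (0, 1, 1)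
  | 1, 1, 2 => (0, 1, 2)
  | 1, 1, 3 => (0, 1, 3)
  | 1, 2, 0 => (0, 2, 0)
  | 1, 2, 1 => (0, 2, 1)
  | 1, 2, 2 => (0, 2, 2)
  | 1, 2, 3 => (0, 2, 3)

def stepB : Fin 2 → Fin 3 → Fin 4 → Norm
  | 0, 0, 0 => (0, 1, 0)
  | 0, 0, 1 => (0, 1, 1)
  | 0, 0, 2 => (0, 1, 2)
  | 0, 0, 3 => (0, 1, 3)
  | 0, 1, 0 => (0, 0, 0)
  | 0, 1, 1 => (0, 0, 1)
  | 0, 1, 2 => (0, 0, 2)
  | 0, 1, 3 => (0, 0, 3)
  | 0, 2, 0 => (1, 0, 0)
  | 0, 2, 1 => (1, 0, 1)
  | 0, 2, 2 => (1, 0, 2)
  | 0, 2, 3 => (1, 0, 3)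
  | 1, 0, 0 => (0, 2, 0)
  | 1, 0, 1 => (0, 2, 1)
  | 1, 0, 2 => (0, 2, 2)
  | 1, 0, 3 => (0, 2, 3)
  | 1, 1, 0 => (1, 2, 0)
  | 1, 1, 1 => (1, 2, 1)
  | 1, 1, 2 => (1, 2, 2)
  | 1, 1, 3 => (1, 2, 3)
  | 1, 2, 0 => (1, 1, 0)
  | 1, 2, 1 => (1, 1, 1)
  | 1, 2, 2 => (1, 1, 2)
  | 1, 2, 3 => (1, 1, 3)

def stepC : Fin 2 → Fin 3 → Fin 4 → Norm
  | 0, 0, 0 => (0, 0, 1)
  | 0, 0, 1 => (0, 0, 0)
  | 0, 0, 2 => (0, 1, 0)
  | 0, 0, 3 => (0, 2, 0)
  | 0, 1, 0 => (0, 0, 2)
  | 0, 1, 1 => (0, 1, 2)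
  | 0, 1, 2 => (0, 1, 1)
  | 0, 1, 3 => (0, 2, 1)
  | 0, 2, 0 => (0, 0, 3)
  | 0, 2, 1 => (0, 1, 3)
  | 0, 2, 2 => (0, 2, 3)
  | 0, 2, 3 => (0, 2, 2)
  | 1, 0, 0 => (1, 0, 1)
  | 1, 0, 1 => (1, 0, 0)
  | 1, 0, 2 => (1, 1, 0)
  | 1, 0, 3 => (1, 2, 0)
  | 1, 1, 0 => (1, 0, 2)
  | 1, 1, 1 => (1, 1, 2)
  | 1, 1, 2 => (1, 1, 1)
  | 1, 1, 3 => (1, 2, 1)
  | 1, 2, 0 => (1, 0, 3)
  | 1, 2, 1 => (1, 1, 3)
  | 1, 2, 2 => (1, 2, 3)
  | 1, 2, 3 => (1, 2, 2)

variable {G : Type*} [Group G]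

/-- The first factor of the normal form. -/
def fac1 (a : G) : Fin 2 → G
  | 0 => 1
  | 1 => a

/-- The second factor of the normal form. -/
def fac2 (a b : G) : Fin 3 → G
  | 0 => 1
  | 1 => b
  | 2 => b * a

/-- The third factor of the normal form. -/
def fac3 (a b c : G) : Fin 4 → G
  | 0 => 1
  | 1 => c
  | 2 => c * b
  | 3 => c * b * a

/-- The element with the given normal form. -/
def word (a b c : G) (n : Norm) : G := fac1 a n.1 * fac2 a b n.2.1 * fac3 a b c n.2.2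

/-- The normal form evaluated at the adjacent transpositions. -/
def perm (n : Norm) : Equiv.Perm (Fin 4) :=
  word (Equiv.swap 0 1) (Equiv.swap 1 2) (Equiv.swap 2 3) n

theorem perm_stepA : ∀ i j k, perm (stepA i j k) = Equiv.swap 0 1 * perm (i, j, k) := by decide +kernel
theorem perm_stepB : ∀ i j k, perm (stepB i j k) = Equiv.swap 1 2 * perm (i, j, k) := by decide +kernel
theorem perm_stepC : ∀ i j k, perm (stepC i j k) = Equiv.swap 2 3 * perm (i, j, k) := by decide +kernel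

theorem perm_injective : Function.Injective perm := by
  unfold Function.Injective
  decide +kernel

/-- Normal forms correspond to permutations. -/
noncomputable def normEquiv : Norm ≃ Equiv.Perm (Fin 4) :=
  Equiv.ofBijective perm ((Fintype.bijective_iff_injective_and_card perm).2
    ⟨perm_injective, by simp [Fintype.card_perm, Nat.factorial]⟩)

/-- The map on the symmetric group. -/
noncomputable def toFun (a b c : G) (σ : Equiv.Perm (Fin 4)) : G := word a b c (normEquiv.symm σ)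

theorem toFun_perm (a b c : G) (n : Norm) : toFun a b c (perm n) = word a b c n := by
  rw [toFun]
  exact congrArg _ (normEquiv.symm_apply_apply n)

/-- The three relations and their consequences as left rewriting rules. -/
structure Rules (a b c : G) : Prop where
  aa : ∀ x, a * (a * x) = x
  bb : ∀ x, b * (b * x) = x
  cc : ∀ x, c * (c * x) = x
  ca : ∀ x, c * (a * x) = a * (c * x)
  bab : ∀ x, b * (a * (b * x)) = a * (b * (a * x))
  cbc : ∀ x, c * (b * (c * x)) = b * (c * (b * x))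
  cbac : ∀ x, c * (b * (a * (c * x))) = b * (c * (b * (a * x)))

variable {a b c : G}

theorem word_stepA (h : Rules a b c) :
    ∀ i j k, word a b c (stepA i j k) = a * word a b c (i, j, k) := by
  intro i j k
  fin_cases i <;> fin_cases j <;> fin_cases k <;>
    (refine mul_right_cancel (b := (1 : G)) ?_
     simp [stepA, word, fac1, fac2, fac3, mul_assoc, h.aa, h.bb, h.cc, h.ca, h.bab, h.cbc, h.cbac,
      -mul_one])

theorem word_stepB (h : Rules a b c) :
    ∀ i j k, word a b c (stepB i j k) = b * word a b c (i, j, k) := by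
  intro i j k
  fin_cases i <;> fin_cases j <;> fin_cases k <;>
    (refine mul_right_cancel (b := (1 : G)) ?_
     simp [stepB, word, fac1, fac2, fac3, mul_assoc, h.aa, h.bb, h.cc, h.ca, h.bab, h.cbc, h.cbac,
      -mul_one])

theorem word_stepC (h : Rules a b c) :
    ∀ i j k, word a b c (stepC i j k) = c * word a b c (i, j, k) := by
  intro i j k
  fin_cases i <;> fin_cases j <;> fin_cases k <;>
    (refine mul_right_cancel (b := (1 : G)) ?_
     simp [stepC, word, fac1, fac2, fac3, mul_assoc, h.aa, h.bb, h.cc, h.ca, h.bab, h.cbc, h.cbac,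
      -mul_one])

theorem word_zero : word a b c (0, 0, 0) = 1 := by simp [word, fac1, fac2, fac3]

theorem perm_zero : perm (0, 0, 0) = 1 := word_zero

theorem toFun_swap_mul (h : Rules a b c) (τ : Equiv.Perm (Fin 4)) :
    toFun a b c (Equiv.swap 0 1 * τ) = a * toFun a b c τ ∧
    toFun a b c (Equiv.swap 1 2 * τ) = b * toFun a b c τ ∧
    toFun a b c (Equiv.swap 2 3 * τ) = c * toFun a b c τ := by
  obtain ⟨⟨i, j, k⟩, rfl⟩ := normEquiv.surjective τ
  show toFun a b c (Equiv.swap 0 1 * perm (i, j, k)) = a * toFun a b c (perm (i, j, k)) ∧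
    toFun a b c (Equiv.swap 1 2 * perm (i, j, k)) = b * toFun a b c (perm (i, j, k)) ∧
    toFun a b c (Equiv.swap 2 3 * perm (i, j, k)) = c * toFun a b c (perm (i, j, k))
  rw [← perm_stepA, ← perm_stepB, ← perm_stepC]
  simp only [toFun_perm]
  exact ⟨word_stepA h i j k, word_stepB h i j k, word_stepC h i j k⟩

theorem word_mul_toFun (h : Rules a b c) (n : Norm) (τ : Equiv.Perm (Fin 4)) :
    toFun a b c (perm n * τ) = word a b c n * toFun a b c τ := by
  have H := toFun_swap_mul h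
  obtain ⟨i, j, k⟩ := n
  fin_cases i <;> fin_cases j <;> fin_cases k <;>
    simp [perm, word, fac1, fac2, fac3, mul_assoc, (H _).1, (H _).2.1, (H _).2.2]

theorem toFun_mul (h : Rules a b c) (σ τ : Equiv.Perm (Fin 4)) :
    toFun a b c (σ * τ) = toFun a b c σ * toFun a b c τ := by
  obtain ⟨n, rfl⟩ := normEquiv.surjective σ
  show toFun a b c (perm n * τ) = toFun a b c (perm n) * _
  rw [word_mul_toFun h, toFun_perm]

/-- The homomorphism from the symmetric group of degree four. -/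
noncomputable def hom (h : Rules a b c) : Equiv.Perm (Fin 4) →* G := MonoidHom.mk' (toFun a b c) (toFun_mul h)

theorem hom_apply (h : Rules a b c) (σ : Equiv.Perm (Fin 4)) : hom h σ = toFun a b c σ := rfl

theorem hom_one' (h : Rules a b c) : toFun a b c 1 = 1 := map_one (hom h)

theorem hom_swap (h : Rules a b c) :
    hom h (Equiv.swap 0 1) = a ∧ hom h (Equiv.swap 1 2) = b ∧ hom h (Equiv.swap 2 3) = c := by
  obtain ⟨h1, h2, h3⟩ := toFun_swap_mul h (1 : Equiv.Perm (Fin 4))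
  simp only [mul_one, hom_one' h] at h1 h2 h3
  exact ⟨h1, h2, h3⟩

/-- A non-identity permutation moves some adjacent transposition to another one; the resulting pair
is conjugate to `(0 1), (1 2)` or to `(0 1), (2 3)`. -/
theorem exists_moved : ∀ n : Norm, n = (0, 0, 0) ∨
    ∃ r : Norm, ∃ g ∈ [Equiv.swap (0 : Fin 4) 1, Equiv.swap 1 2, Equiv.swap 2 3],
      perm r * (perm n * g * (perm n)⁻¹) = Equiv.swap 0 1 * perm r ∧
        (perm r * g = Equiv.swap 1 2 * perm r ∨ perm r * g = Equiv.swap 2 3 * perm r) := by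
  decide +kernel

theorem hom_injective (h : Rules a b c) (hac : a ≠ c) (hab : a ≠ b) :
    Function.Injective (hom h) := by
  rw [injective_iff_map_eq_one]
  intro σ hσ
  obtain ⟨n, rfl⟩ : ∃ n, perm n = σ := normEquiv.surjective σ
  rcases exists_moved n with rfl | ⟨r, g, -, h1, h2⟩
  · exact perm_zero
  exfalso
  have h1' := congrArg (hom h) h1
  simp only [map_mul, map_inv, hσ, (hom_swap h).1, one_mul, mul_one, inv_one] at h1'
  rcases h2 with h2 | h2 <;> have h2' := congrArg (hom h) h2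
  · rw [map_mul, map_mul, (hom_swap h).2.1, h1'] at h2'
    exact hab (mul_right_cancel h2')
  · rw [map_mul, map_mul, (hom_swap h).2.2, h1'] at h2'
    exact hac (mul_right_cancel h2')

end Cfsg.Agent.FischerSpace.Sym4

namespace Cfsg.Agent.FischerSpace

variable {G : Type*} [Group G] {D : Set G}

/-- The rewriting rules hold for a 3-string. -/
theorem string_rules (hD : Cfsg.IsThreeTranspositionSet D) {a b c : G} (ha : a ∈ D) (hb : b ∈ D)
    (hc : c ∈ D) (hac : Commute a c) (hab : ¬ Commute a b) (hbc : ¬ Commute b c) :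
    Sym4.Rules a b c := by
  have h1 : b * a * b = a * b * a := (braid hD ha hb hab).symm
  have h2 : c * b * c = b * c * b := (braid hD hb hc hbc).symm
  refine ⟨mul_left_cancel_self hD ha, mul_left_cancel_self hD hb, mul_left_cancel_self hD hc,
    fun x => ?_, fun x => ?_, fun x => ?_, fun x => ?_⟩
  · rw [← mul_assoc, hac.symm.eq, mul_assoc]
  · simpa only [mul_assoc] using congrArg (· * x) h1
  · simpa only [mul_assoc] using congrArg (· * x) h2
  · have e1 : c * b * a * c = b * c * b * a := by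
      rw [mul_assoc (c * b) a c, hac.eq, ← mul_assoc, h2]
    simpa only [mul_assoc] using congrArg (· * x) e1

/-- A 3-string generates a symmetric group of degree four. -/
theorem exists_sym4 (hD : Cfsg.IsThreeTranspositionSet D) {a b c : G} (ha : a ∈ D) (hb : b ∈ D)
    (hc : c ∈ D) (hac : a ≠ c) (hac' : Commute a c) (hab : ¬ Commute a b) (hbc : ¬ Commute b c) :
    ∃ φ : Equiv.Perm (Fin 4) →* G, Function.Injective φ ∧ φ (Equiv.swap 0 1) = a ∧
      φ (Equiv.swap 1 2) = b ∧ φ (Equiv.swap 2 3) = c :=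
  have h := string_rules hD ha hb hc hac' hab hbc
  ⟨Sym4.hom h, Sym4.hom_injective h hac fun e => hab (e ▸ Commute.refl a), Sym4.hom_swap h⟩

end Cfsg.Agent.FischerSpace
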