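import Mathlib
import Cfsg.Prelude.Def_FischerSpaces

/-!
# Elementary facts about sets of 3-transpositions

Conventions: `hD : Cfsg.IsThreeTranspositionSet D` gives the order conditions only;
`hc : Invariant D` is closure under conjugation.
-/

set_option autoImplicit false

namespace Cfsg.Agent.FischerSpace

variable {G : Type*} [Group G] {D : Set G}

/-- Closure of a set under conjugation. -/
def Invariant (D : Set G) : Prop := ∀ g : G, ∀ d ∈ D, g * d * g⁻¹ ∈ D

theorem group_set (h : Cfsg.IsThreeTranspositionGroup D) : Cfsg.IsThreeTranspositionSet D := h.1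

theorem group_invariant (h : Cfsg.IsThreeTranspositionGroup D) : Invariant D := h.2.1

theorem group_closure (h : Cfsg.IsThreeTranspositionGroup D) : Subgroup.closure D = ⊤ := h.2.2

theorem conjugatesOf_invariant (d : G) : Invariant (conjugatesOf d) := by
  intro g e he
  show IsConj d (g * e * g⁻¹)
  exact IsConj.trans (show IsConj d e from he) (isConj_iff.2 ⟨g, rfl⟩)

theorem class_invariant (h : Cfsg.IsThreeTranspositionClass D) : Invariant D := by
  obtain ⟨-, ⟨d, -, rfl⟩, -⟩ := h
  exact conjugatesOf_invariant d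

theorem class_group (h : Cfsg.IsThreeTranspositionClass D) : Cfsg.IsThreeTranspositionGroup D :=
  ⟨h.1, class_invariant h, h.2.2⟩

theorem class_isConj (h : Cfsg.IsThreeTranspositionClass D) {a b : G} (ha : a ∈ D) (hb : b ∈ D) :
    ∃ g : G, g * a * g⁻¹ = b := by
  obtain ⟨-, ⟨d, -, rfl⟩, -⟩ := h
  exact isConj_iff.1 ((show IsConj d a from ha).symm.trans (show IsConj d b from hb))

theorem mem_order_two (hD : Cfsg.IsThreeTranspositionSet D) {d : G} (hd : d ∈ D) : orderOf d = 2 :=
  hD.1 d hd

theorem mul_self (hD : Cfsg.IsThreeTranspositionSet D) {d : G} (hd : d ∈ D) : d * d = 1 := by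
  rw [← pow_two, ← hD.1 d hd]; exact pow_orderOf_eq_one d

theorem inv_eq (hD : Cfsg.IsThreeTranspositionSet D) {d : G} (hd : d ∈ D) : d⁻¹ = d :=
  inv_eq_of_mul_eq_one_left (mul_self hD hd)

theorem ne_one (hD : Cfsg.IsThreeTranspositionSet D) {d : G} (hd : d ∈ D) : d ≠ 1 := by
  intro h
  have := hD.1 d hd
  simp [h] at this

theorem mul_left_cancel_self (hD : Cfsg.IsThreeTranspositionSet D) {d : G} (hd : d ∈ D) (x : G) :
    d * (d * x) = x := by
  rw [← mul_assoc, mul_self hD hd, one_mul]

theorem mul_right_cancel_self (hD : Cfsg.IsThreeTranspositionSet D) {d : G} (hd : d ∈ D) (x : G) :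
    x * d * d = x := by
  rw [mul_assoc, mul_self hD hd, mul_one]

theorem commute_iff_sq (hD : Cfsg.IsThreeTranspositionSet D) {d e : G} (hd : d ∈ D) (he : e ∈ D) :
    Commute d e ↔ (d * e) ^ 2 = 1 := by
  rw [pow_two, mul_eq_one_iff_eq_inv, mul_inv_rev, inv_eq hD hd, inv_eq hD he]
  rfl

theorem cube_eq_one (hD : Cfsg.IsThreeTranspositionSet D) {d e : G} (hd : d ∈ D) (he : e ∈ D)
    (h : ¬ Commute d e) : (d * e) ^ 3 = 1 :=
  (hD.2 d hd e he).resolve_left fun h2 => h ((commute_iff_sq hD hd he).2 h2)

theorem orderOf_mul_eq_three (hD : Cfsg.IsThreeTranspositionSet D) {d e : G} (hd : d ∈ D)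
    (he : e ∈ D) (h : ¬ Commute d e) : orderOf (d * e) = 3 := by
  have : Fact (Nat.Prime 3) := ⟨Nat.prime_three⟩
  refine orderOf_eq_prime (cube_eq_one hD hd he h) fun h1 => h ?_
  rw [commute_iff_sq hD hd he, h1, one_pow]

/-- The braid relation between two non-commuting members. -/
theorem braid (hD : Cfsg.IsThreeTranspositionSet D) {d e : G} (hd : d ∈ D) (he : e ∈ D)
    (h : ¬ Commute d e) : d * e * d = e * d * e := by
  have h3 : d * e * d * (e * d * e) = 1 := by
    rw [← cube_eq_one hD hd he h]
    simp only [pow_succ, pow_zero, one_mul, mul_assoc]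
  rw [eq_inv_of_mul_eq_one_left h3]
  simp only [mul_inv_rev, inv_eq hD hd, inv_eq hD he, mul_assoc]

theorem commute_of_conj_eq (hD : Cfsg.IsThreeTranspositionSet D) {d e : G} (hd : d ∈ D)
    (h : d * e * d = e) : Commute d e := by
  have h' : d * e * d * d = e * d := by rw [h]
  rwa [mul_right_cancel_self hD hd] at h'

theorem conj_eq_of_commute (hD : Cfsg.IsThreeTranspositionSet D) {d e : G} (hd : d ∈ D)
    (h : Commute d e) : d * e * d = e := by
  rw [h.eq, mul_right_cancel_self hD hd]

theorem conj_mem (hD : Cfsg.IsThreeTranspositionSet D) (hc : Invariant D) {d e : G} (hd : d ∈ D)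
    (he : e ∈ D) : d * e * d ∈ D := by
  have := hc d e he
  rwa [inv_eq hD hd] at this

theorem invariant_conj_iff (hc : Invariant D) (g x : G) : g * x * g⁻¹ ∈ D ↔ x ∈ D := by
  refine ⟨fun h => ?_, hc g x⟩
  simpa [mul_assoc] using hc g⁻¹ _ h

theorem commute_conj_iff (g a b : G) : Commute (g * a * g⁻¹) (g * b * g⁻¹) ↔ Commute a b :=
  Commute.conj_iff g

theorem commute_conj_iff' (hD : Cfsg.IsThreeTranspositionSet D) {d : G} (hd : d ∈ D) (a b : G) :
    Commute (d * a * d) (d * b * d) ↔ Commute a b := by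
  have h := commute_conj_iff d a b
  rwa [inv_eq hD hd] at h

theorem conj_conj_self (hD : Cfsg.IsThreeTranspositionSet D) {d : G} (hd : d ∈ D) (x : G) :
    d * (d * x * d) * d = x := by
  simp only [mul_assoc, mul_self hD hd, mul_one, mul_left_cancel_self hD hd]

/-- The third point of the line through non-commuting `d`, `e` commutes with neither. -/
theorem not_commute_third (hD : Cfsg.IsThreeTranspositionSet D) {d e : G} (hd : d ∈ D) (he : e ∈ D)
    (h : ¬ Commute d e) : ¬ Commute d (d * e * d) ∧ ¬ Commute e (d * e * d) := by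
  constructor
  · intro hh
    apply h
    rw [← commute_conj_iff' hD hd, mul_self hD hd, one_mul]
    exact hh
  · intro hh
    rw [braid hD hd he h] at hh
    apply h
    rw [← commute_conj_iff' hD he, mul_self hD he, one_mul]
    exact hh.symm

/-- The order conditions pass to any subset. -/
theorem set_mono (hD : Cfsg.IsThreeTranspositionSet D) {E : Set G} (h : E ⊆ D) :
    Cfsg.IsThreeTranspositionSet E :=
  ⟨fun d hd => hD.1 d (h hd), fun d hd e he => hD.2 d (h hd) e (h he)⟩

/-- The members lying in a subgroup form a set of 3-transpositions there. -/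
theorem set_subgroup (hD : Cfsg.IsThreeTranspositionSet D) (H : Subgroup G) :
    Cfsg.IsThreeTranspositionSet {x : H | (x : G) ∈ D} :=
  ⟨fun x hx => by rw [← Subgroup.orderOf_coe]; exact hD.1 _ hx,
    fun x hx y hy => by
      simpa only [Subtype.ext_iff, Subgroup.coe_pow, Subgroup.coe_mul, Subgroup.coe_one]
        using hD.2 _ hx _ hy⟩

/-- The order conditions pass to an image avoiding the identity. -/
theorem set_image {H : Type*} [Group H] (hD : Cfsg.IsThreeTranspositionSet D) (f : G →* H)
    (h1 : ∀ d ∈ D, f d ≠ 1) : Cfsg.IsThreeTranspositionSet (f '' D) := by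
  have : Fact (Nat.Prime 2) := ⟨Nat.prime_two⟩
  refine ⟨?_, ?_⟩
  · rintro _ ⟨d, hd, rfl⟩
    exact orderOf_eq_prime (by rw [← map_pow, pow_two, mul_self hD hd, map_one]) (h1 d hd)
  · rintro _ ⟨d, hd, rfl⟩ _ ⟨e, he, rfl⟩
    rw [← map_mul, ← map_pow, ← map_pow]
    exact (hD.2 d hd e he).imp (fun h => by rw [h, map_one]) (fun h => by rw [h, map_one])

end Cfsg.Agent.FischerSpace
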