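import Cfsg.Agent.Lib.FischerSpace.Width
import Cfsg.Agent.Lib.FischerSpace.Sym4

/-!
# The classes V_d and W_d

`VRel D d v`: `v` commutes with exactly the members of `D` that commute with `d`.
`WRel D d w`: the members other than `w` commuting with `w` are those other than `d` commuting with `d`.
In a class of 3-transpositions their classes are the orbits of `O₂(G)` and of `O₃(G)`.
-/

set_option autoImplicit false

namespace Cfsg.Agent.FischerSpace

variable {G : Type*} [Group G] {D : Set G}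

/-- `v` lies in V_d. -/
def VRel (D : Set G) (d v : G) : Prop := v ∈ D ∧ ∀ e ∈ D, Commute v e ↔ Commute d e

/-- `w` lies in W_d. -/
def WRel (D : Set G) (d w : G) : Prop :=
  w ∈ D ∧ {y : G | y ∈ D ∧ y ≠ d ∧ Commute d y} = {y : G | y ∈ D ∧ y ≠ w ∧ Commute w y}

theorem commute_mul_iff (hD : Cfsg.IsThreeTranspositionSet D) {a b e : G} (ha : a ∈ D) (hb : b ∈ D)
    (he : e ∈ D) (hab : a ≠ b) (hcomm : Commute a b) :
    Commute e (a * b) ↔ Commute e a ∧ Commute e b := by
  refine ⟨fun h => ?_, fun h => h.1.mul_right h.2⟩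
  by_cases hea : Commute e a
  · refine ⟨hea, ?_⟩
    have := hea.inv_right.mul_right h
    rwa [← mul_assoc, inv_mul_cancel, one_mul] at this
  by_cases heb : Commute e b
  · refine ⟨?_, heb⟩
    have := h.mul_right heb.inv_right
    rwa [mul_assoc, mul_inv_cancel, mul_one] at this
  obtain ⟨φ, hφ, h1, h2, h3⟩ := exists_sym4 hD ha he hb hab hcomm (fun h' => hea h'.symm) heb
  exfalso
  have h' : Equiv.swap (1 : Fin 4) 2 * (Equiv.swap 0 1 * Equiv.swap 2 3) =
      Equiv.swap 0 1 * Equiv.swap 2 3 * Equiv.swap 1 2 := by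
    apply hφ
    simp only [map_mul, h1, h2, h3]
    exact h
  revert h'
  decide

theorem vRel_refl {d : G} (hd : d ∈ D) : VRel D d d := ⟨hd, fun _ _ => Iff.rfl⟩

theorem vRel_symm {d v : G} (hd : d ∈ D) (h : VRel D d v) : VRel D v d :=
  ⟨hd, fun e he => (h.2 e he).symm⟩

theorem vRel_trans {a b c : G} (h1 : VRel D a b) (h2 : VRel D b c) : VRel D a c :=
  ⟨h2.1, fun e he => (h2.2 e he).trans (h1.2 e he)⟩

theorem vRel_conj (hc : Invariant D) {d v : G} (h : VRel D d v) (g : G) :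
    VRel D (g * d * g⁻¹) (g * v * g⁻¹) := by
  refine ⟨hc g v h.1, fun e he => ?_⟩
  obtain ⟨f, hf, rfl⟩ : ∃ f ∈ D, g * f * g⁻¹ = e :=
    ⟨g⁻¹ * e * g, by simpa using hc g⁻¹ e he, by group⟩
  rw [commute_conj_iff, commute_conj_iff]
  exact h.2 f hf

theorem vRel_commute {d v : G} (hd : d ∈ D) (h : VRel D d v) : Commute d v :=
  ((h.2 d hd).2 (Commute.refl d)).symm

theorem wRel_refl {d : G} (hd : d ∈ D) : WRel D d d := ⟨hd, rfl⟩

theorem wRel_symm {d w : G} (hd : d ∈ D) (h : WRel D d w) : WRel D w d := ⟨hd, h.2.symm⟩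

theorem wRel_trans {a b c : G} (h1 : WRel D a b) (h2 : WRel D b c) : WRel D a c :=
  ⟨h2.1, h1.2.trans h2.2⟩

theorem wRel_iff {d w : G} :
    WRel D d w ↔ w ∈ D ∧ ∀ y ∈ D, (y ≠ d ∧ Commute d y) ↔ (y ≠ w ∧ Commute w y) := by
  refine and_congr_right fun _ => ⟨fun h y hy => ?_, fun h => ?_⟩
  · have := Set.ext_iff.1 h y
    simp only [Set.mem_setOf_eq, hy, true_and] at this
    exact this
  · ext y
    simp only [Set.mem_setOf_eq]
    exact and_congr_right fun hy => h y hy

theorem wRel_conj (hc : Invariant D) {d w : G} (h : WRel D d w) (g : G) :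
    WRel D (g * d * g⁻¹) (g * w * g⁻¹) := by
  rw [wRel_iff] at h ⊢
  refine ⟨hc g w h.1, fun e he => ?_⟩
  obtain ⟨f, hf, rfl⟩ : ∃ f ∈ D, g * f * g⁻¹ = e :=
    ⟨g⁻¹ * e * g, by simpa using hc g⁻¹ e he, by group⟩
  rw [commute_conj_iff, commute_conj_iff]
  simp only [ne_eq, mul_left_inj, mul_right_inj]
  exact h.2 f hf

theorem wRel_not_commute {d w : G} (h : WRel D d w) (hne : w ≠ d) : ¬ Commute d w := fun hc =>
  ((wRel_iff.1 h).2 w h.1).1 ⟨hne, hc⟩ |>.1 rfl

/-- No two distinct members are both V- and W-related to a given one. -/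
theorem vRel_or_wRel_trivial {d v w : G} (hd : d ∈ D) (hv : VRel D d v) (hvd : v ≠ d)
    (hw : WRel D d w) : w = d := by
  by_contra hwd
  have h := ((wRel_iff.1 hw).2 v hv.1).1 ⟨hvd, vRel_commute hd hv⟩
  exact wRel_not_commute hw hwd ((hv.2 w hw.1).1 h.2.symm)

/-- For V-related `d`, `v`, conjugation by `d * v` fixes every V-class. -/
theorem vRel_pair_fixes (hD : Cfsg.IsThreeTranspositionSet D) (hc : Invariant D) {d v e : G}
    (hd : d ∈ D) (hv : VRel D d v) (he : e ∈ D) : VRel D e (d * v * e * (d * v)⁻¹) := by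
  rw [mul_inv_rev, inv_eq hD hd, inv_eq hD hv.1]
  by_cases hed : Commute d e
  · have hev : Commute v e := (hv.2 e he).2 hed
    have : d * v * e * (v * d) = e := by
      rw [show d * v * e * (v * d) = d * (v * e * v) * d by simp only [mul_assoc],
        conj_eq_of_commute hD hv.1 hev, conj_eq_of_commute hD hd hed]
    rw [this]; exact vRel_refl he
  · have hev : ¬ Commute v e := fun h => hed ((hv.2 e he).1 h)
    have h := vRel_conj hc (vRel_conj hc hv e) d
    rw [inv_eq hD he, inv_eq hD hd, show d * (e * d * e) * d = d * (d * e * d) * d by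
      rw [braid hD hd he hed], conj_conj_self hD hd] at h
    rwa [show d * v * e * (v * d) = d * (v * e * v) * d by simp only [mul_assoc],
      braid hD hv.1 he hev]

/-- For W-related `d`, `w`, conjugation by `d * w` fixes every W-class. -/
theorem wRel_pair_fixes (hD : Cfsg.IsThreeTranspositionSet D) (hc : Invariant D) {d w e : G}
    (hd : d ∈ D) (hw : WRel D d w) (he : e ∈ D) : WRel D e (d * w * e * (d * w)⁻¹) := by
  rw [mul_inv_rev, inv_eq hD hd, inv_eq hD hw.1,
    show d * w * e * (w * d) = d * (w * e * w) * d by simp only [mul_assoc]]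
  by_cases hwd : w = d
  · rw [hwd, conj_conj_self hD hd]; exact wRel_refl he
  have hnc := wRel_not_commute hw hwd
  -- the third point of `d, w` is related to both
  have hu : WRel D d (d * w * d) := by
    have := wRel_conj hc hw d
    rwa [inv_eq hD hd, mul_self hD hd, one_mul] at this
  by_cases hed : Commute d e
  · by_cases e1 : e = d
    · subst e1
      rw [braid hD hw.1 hd (fun h => hnc h.symm), conj_conj_self hD hd]
      exact hw
    · have hev : Commute w e := (((wRel_iff.1 hw).2 e he).1 ⟨e1, hed⟩).2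
      rw [conj_eq_of_commute hD hw.1 hev, conj_eq_of_commute hD hd hed]
      exact wRel_refl he
  by_cases e2 : e = w
  · subst e2
    rw [mul_self hD hw.1, one_mul]
    exact wRel_trans (wRel_symm hd hw) hu
  have hev : ¬ Commute w e := fun h =>
    hed (((wRel_iff.1 hw).2 e he).2 ⟨e2, h⟩).2
  -- conjugate `d, d*w*d` by the third point of `d, e`
  have h := wRel_conj hc hu (d * e * d)
  have hinv : (d * e * d)⁻¹ = d * e * d := inv_eq hD (conj_mem hD hc hd he)
  rw [hinv] at h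
  have h1 : d * e * d * d * (d * e * d) = e := by
    rw [mul_right_cancel_self hD hd, ← mul_assoc, ← mul_assoc,
      show d * e * d * e * d = d * (e * d * e) * d by simp only [mul_assoc],
      ← braid hD hd he hed, conj_conj_self hD hd]
  have h2 : d * e * d * (d * w * d) * (d * e * d) = d * (w * e * w) * d := by
    rw [braid hD hw.1 he hev]
    simp only [mul_assoc, mul_left_cancel_self hD hd]
  rwa [h1, h2] at h

/-- The subgroup of elements fixing every class of a relation. -/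
def relKernel (D : Set G) (hc : Invariant D) (R : G → G → Prop) (hrefl : ∀ d ∈ D, R d d)
    (hsymm : ∀ a ∈ D, ∀ b ∈ D, R a b → R b a)
    (htrans : ∀ a b c, R a b → R b c → R a c) : Subgroup G where
  carrier := {g | ∀ e ∈ D, R e (g * e * g⁻¹)}
  one_mem' := fun e he => by simpa using hrefl e he
  mul_mem' := by
    intro g g' hg hg' e he
    rw [show g * g' * e * (g * g')⁻¹ = g * (g' * e * g'⁻¹) * g⁻¹ by group]
    exact htrans _ _ _ (hg' e he) (hg _ (hc g' e he))
  inv_mem' := by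
    intro g hg e he
    have h := hg _ (hc g⁻¹ e he)
    have h' : g * (g⁻¹ * e * g⁻¹⁻¹) * g⁻¹ = e := by group
    rw [h'] at h
    exact hsymm _ (hc g⁻¹ e he) _ he h

/-- The products of pairs from a class of an invariant relation lie in `O_p(G)` when they fix all
classes and generate a p-group. -/
theorem pair_mem_pCore [Finite G] (hc : Invariant D) {p : ℕ} (R : G → G → Prop)
    (hrefl : ∀ d ∈ D, R d d)
    (hsymm : ∀ a ∈ D, ∀ b ∈ D, R a b → R b a) (htrans : ∀ a b c, R a b → R b c → R a c)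
    (hconj : ∀ a ∈ D, ∀ b, R a b → ∀ g : G, R (g * a * g⁻¹) (g * b * g⁻¹))
    (hmem : ∀ a ∈ D, ∀ b, R a b → b ∈ D)
    (hfix : ∀ a ∈ D, ∀ b, R a b → ∀ e ∈ D, R e (a * b * e * (a * b)⁻¹))
    {b c : G} (hb : b ∈ D) (hbc : R b c)
    (hp : IsPGroup p (Subgroup.closure {x : G | ∃ u v, R b u ∧ R b v ∧ u * v = x})) :
    b * c ∈ Cfsg.pCore p G := by
  set K := relKernel D hc R hrefl hsymm htrans with hK
  have hKn : K.Normal := ⟨fun g hg h e he => by
    have h1 := hconj _ (hc h⁻¹ e he) _ (hg _ (hc h⁻¹ e he)) h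
    rw [show h * (h⁻¹ * e * h⁻¹⁻¹) * h⁻¹ = e by group,
      show h * (g * (h⁻¹ * e * h⁻¹⁻¹) * g⁻¹) * h⁻¹ = h * g * h⁻¹ * e * (h * g * h⁻¹)⁻¹ by group] at h1
    exact h1⟩
  set P := Subgroup.closure {x : G | ∃ u v, R b u ∧ R b v ∧ u * v = x} with hP
  have hPK : P ≤ K := by
    rw [hP, Subgroup.closure_le]
    rintro _ ⟨u, v, hu, hv, rfl⟩
    exact hfix u (hmem b hb u hu) v (htrans _ _ _ (hsymm b hb u (hmem b hb u hu) hu) hv)
  have hPn : (P.subgroupOf K).Normal := ⟨fun x hx k => by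
    rw [Subgroup.mem_subgroupOf] at hx ⊢
    push_cast
    have hle : P ≤ P.comap (MulAut.conj (k : G)).toMonoidHom := by
      conv_lhs => rw [hP]
      rw [Subgroup.closure_le]
      rintro _ ⟨u, v, hu, hv, rfl⟩
      refine Subgroup.subset_closure ⟨k * u * (k : G)⁻¹, k * v * (k : G)⁻¹,
        htrans _ _ _ hu (k.2 u (hmem b hb u hu)), htrans _ _ _ hv (k.2 v (hmem b hb v hv)), ?_⟩
      simp [mul_assoc]
    exact hle hx⟩
  have h1 : P.subgroupOf K ≤ Cfsg.pCore p K :=
    Thompson.le_pCore hPn (hp.of_equiv (Subgroup.subgroupOfEquivOfLe hPK).symm)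
  have hbcP : b * c ∈ P := Subgroup.subset_closure ⟨b, c, hrefl b hb, hbc, rfl⟩
  exact Thompson.map_pCore_normal_le K ⟨⟨b * c, hPK hbcP⟩, h1 hbcP, rfl⟩

theorem exists_not_commute (hD : Cfsg.IsThreeTranspositionClass D) (hD2 : ∃ a ∈ D, ∃ b ∈ D, a ≠ b)
    {d : G} (hd : d ∈ D) : ∃ e ∈ D, ¬ Commute d e := by
  by_contra h
  push Not at h
  have hz : d ∈ Subgroup.center G := by
    have : Subgroup.closure D ≤ Subgroup.centralizer {d} := (Subgroup.closure_le _).2 fun e he =>
      Subgroup.mem_centralizer_singleton_iff.2 (h e he).eq.symm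
    rw [Subgroup.mem_center_iff]
    intro g
    exact Subgroup.mem_centralizer_singleton_iff.1 (this (by rw [hD.2.2]; exact Subgroup.mem_top g))
  obtain ⟨a, ha, b, hb, hab⟩ := hD2
  have key : ∀ x ∈ D, x = d := by
    intro x hx
    obtain ⟨g, rfl⟩ := class_isConj hD hd hx
    rw [Subgroup.mem_center_iff.1 hz g, mul_inv_cancel_right]
  exact hab ((key a ha).trans (key b hb).symm)

variable [Finite G]

theorem vRel_mul_mem_pCore (hD : Cfsg.IsThreeTranspositionSet D) (hc : Invariant D) {d v : G}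
    (hd : d ∈ D) (hv : VRel D d v) : d * v ∈ Cfsg.pCore 2 G := by
  refine pair_mem_pCore hc (VRel D) (fun _ h => vRel_refl h) (fun a ha b _ h => vRel_symm ha h)
    (fun _ _ _ => vRel_trans) (fun a _ b h g => vRel_conj hc h g) (fun _ _ _ h => h.1)
    (fun a ha b h e he => vRel_pair_fixes hD hc ha h he) hd hv ?_
  set S := {x : G | ∃ u v, VRel D d u ∧ VRel D d v ∧ u * v = x}
  have cu : ∀ u v, VRel D d u → VRel D d v → Commute u v := fun u v hu hv' =>
    vRel_commute hu.1 (vRel_trans (vRel_symm hd hu) hv')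
  have hcomm : ∀ x ∈ S, ∀ y ∈ S, x * y = y * x := by
    rintro _ ⟨u, v, hu, hv', rfl⟩ _ ⟨u', v', hu', hv'', rfl⟩
    exact (((cu u u' hu hu').mul_right (cu u v' hu hv'')).mul_left
      ((cu v u' hv' hu').mul_right (cu v v' hv' hv''))).eq
  haveI := Subgroup.isMulCommutative_closure hcomm
  rintro ⟨x, hx⟩
  refine ⟨1, ?_⟩
  rw [pow_one]
  induction hx using Subgroup.closure_induction with
  | mem x hx =>
    obtain ⟨u, v, hu, hv', rfl⟩ := hx
    apply Subtype.ext
    push_cast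
    rw [(cu u v hu hv').mul_pow, pow_two, pow_two, mul_self hD hu.1, mul_self hD hv'.1, one_mul]
  | one => exact Subtype.ext (by push_cast; simp)
  | mul x y hx hy ihx ihy =>
    have hxy : Commute (⟨x, hx⟩ : Subgroup.closure S) ⟨y, hy⟩ := mul_comm' _ _
    have e : (⟨x * y, mul_mem hx hy⟩ : Subgroup.closure S) = ⟨x, hx⟩ * ⟨y, hy⟩ := rfl
    rw [e, hxy.mul_pow, ihx, ihy, one_mul]
  | inv x hx ihx =>
    have e : (⟨x⁻¹, inv_mem hx⟩ : Subgroup.closure S) = (⟨x, hx⟩)⁻¹ := rfl
    rw [e, inv_pow, ihx, inv_one]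

theorem wRel_mul_mem_pCore (hD : Cfsg.IsThreeTranspositionSet D) (hc : Invariant D) {d w : G}
    (hd : d ∈ D) (hw : WRel D d w) : d * w ∈ Cfsg.pCore 3 G := by
  refine pair_mem_pCore hc (WRel D) (fun _ h => wRel_refl h) (fun a ha b _ h => wRel_symm ha h)
    (fun _ _ _ => wRel_trans) (fun a _ b h g => wRel_conj hc h g) (fun _ _ _ h => h.1)
    (fun a ha b h e he => wRel_pair_fixes hD hc ha h he) hd hw ?_
  set H := Subgroup.closure {u : G | WRel D d u} with hH
  have hinvH : Invariant {x : H | WRel D d (x : G)} := by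
    intro g x hx
    have hg : (g : G) ∈ Subgroup.closure {u : G | WRel D d u} := g.2
    -- the members of the class preserve it
    have key : ∀ y ∈ Subgroup.closure {u : G | WRel D d u}, ∀ x, WRel D d x → WRel D d (y * x * y⁻¹) := by
      intro y hy
      induction hy using Subgroup.closure_induction'' with
      | one => intro x hx; simpa using hx
      | mem y hy =>
        intro x hx
        have h := wRel_conj hc (wRel_trans (wRel_symm hd hy) hx) y
        rw [inv_eq hD hy.1, mul_self hD hy.1, one_mul] at h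
        rw [inv_eq hD hy.1]
        exact wRel_trans hy h
      | inv_mem y hy =>
        intro x hx
        have h := wRel_conj hc (wRel_trans (wRel_symm hd hy) hx) y
        rw [inv_eq hD hy.1, mul_self hD hy.1, one_mul] at h
        rw [inv_inv, inv_eq hD hy.1]
        exact wRel_trans hy h
      | mul y z _ _ ihy ihz =>
        intro x hx
        rw [show y * z * x * (y * z)⁻¹ = y * (z * x * z⁻¹) * y⁻¹ by group]
        exact ihy _ (ihz x hx)
    show WRel D d ((g * x * g⁻¹ : H) : G)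
    push_cast
    exact key _ hg _ hx
  have hwH : ∀ a ∈ {x : H | WRel D d (x : G)}, ∀ b ∈ {x : H | WRel D d (x : G)}, Commute a b → a = b := by
    intro a ha b hb hab
    by_contra hne
    exact wRel_not_commute (wRel_trans (wRel_symm hd ha) hb) (fun e => hne (Subtype.ext e.symm))
      (congrArg Subtype.val hab.eq)
  have hsetH : Cfsg.IsThreeTranspositionSet {x : H | WRel D d (x : G)} :=
    set_mono (set_subgroup hD H) fun x hx => hx.1
  refine (Thompson.isPGroup_pCore.map H.subtype).to_le ((Subgroup.closure_le _).2 ?_)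
  rintro _ ⟨u, v, hu, hv, rfl⟩
  exact ⟨⟨u, Subgroup.subset_closure hu⟩ * ⟨v, Subgroup.subset_closure hv⟩,
    widthOne_mul_mem_pCore hsetH hinvH hwH hu hv, rfl⟩

theorem order_dvd_of_mem_pCore {p : ℕ} [Fact p.Prime] {x : G} (hx : x ∈ Cfsg.pCore p G) :
    ∃ k, x ^ p ^ k = 1 := by
  obtain ⟨k, hk⟩ := Thompson.isPGroup_pCore (p := p) (G := G) ⟨x, hx⟩
  exact ⟨k, by simpa [Subtype.ext_iff] using hk⟩

theorem eq_one_of_pow {x : G} {m p k : ℕ} (hm : x ^ m = 1) (hk : x ^ p ^ k = 1) (hcop : Nat.Coprime m p) :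
    x = 1 :=
  orderOf_eq_one_iff.1 (Nat.eq_one_of_dvd_coprimes (hcop.pow_right k)
    (orderOf_dvd_of_pow_eq_one hm) (orderOf_dvd_of_pow_eq_one hk))

theorem vRel_of_mul_mem_pCore (hD : Cfsg.IsThreeTranspositionSet D) {d v : G} (hd : d ∈ D) (hv : v ∈ D)
    (h : d * v ∈ Cfsg.pCore 2 G) : VRel D d v := by
  haveI : Fact (Nat.Prime 2) := ⟨Nat.prime_two⟩
  have key : ∀ e ∈ D, ∀ a ∈ D, ∀ b ∈ D, a * b ∈ Cfsg.pCore 2 G → Commute a e → Commute b e := by
    intro e he a ha b hb hab hae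
    by_contra hbe
    have h3 : (b * e) ^ 3 = 1 := cube_eq_one hD hb he hbe
    have hmem : (b * e) ^ 2 ∈ Cfsg.pCore 2 G := by
      rw [← QuotientGroup.eq_one_iff, QuotientGroup.mk_pow, QuotientGroup.mk_mul]
      have e1 : (b : G ⧸ Cfsg.pCore 2 G) = (a : G ⧸ Cfsg.pCore 2 G) := by
        rw [eq_comm, QuotientGroup.eq, inv_eq hD ha]; exact hab
      rw [e1, ← QuotientGroup.mk_mul, ← QuotientGroup.mk_pow, (commute_iff_sq hD ha he).1 hae]
      rfl
    obtain ⟨k, hk⟩ := order_dvd_of_mem_pCore hmem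
    have h1 : (b * e) ^ 2 = 1 :=
      eq_one_of_pow (m := 3) (by rw [← pow_mul, mul_comm, pow_mul, h3, one_pow]) hk (by decide)
    exact hbe ((commute_iff_sq hD hb he).2 h1)
  have h' : v * d ∈ Cfsg.pCore 2 G := by
    have := inv_mem h
    rwa [mul_inv_rev, inv_eq hD hd, inv_eq hD hv] at this
  exact ⟨hv, fun e he => ⟨key e he v hv d hd h', key e he d hd v hv h⟩⟩

theorem wRel_of_mul_mem_pCore (hD : Cfsg.IsThreeTranspositionSet D) {d w : G} (hd : d ∈ D) (hw : w ∈ D)
    (h : d * w ∈ Cfsg.pCore 3 G) : WRel D d w := by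
  haveI : Fact (Nat.Prime 3) := ⟨Nat.prime_three⟩
  have small : ∀ a ∈ D, ∀ b ∈ D, a * b ∈ Cfsg.pCore 3 G → Commute a b → a = b := by
    intro a ha b hb hab hc'
    obtain ⟨k, hk⟩ := order_dvd_of_mem_pCore hab
    have := eq_one_of_pow ((commute_iff_sq hD ha hb).1 hc') hk (by decide)
    exact (mul_eq_one_iff_eq_inv.1 this).trans (inv_eq hD hb)
  have key : ∀ a ∈ D, ∀ b ∈ D, a * b ∈ Cfsg.pCore 3 G → ∀ y ∈ D, y ≠ a → Commute a y →
      y ≠ b ∧ Commute b y := by
    intro a ha b hb hab y hy hya hay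
    have hyb : y ≠ b := by
      rintro rfl
      exact hya (small a ha y hy hab hay).symm
    refine ⟨hyb, ?_⟩
    by_contra hby
    have e1 : (b : G ⧸ Cfsg.pCore 3 G) = (a : G ⧸ Cfsg.pCore 3 G) := by
      rw [eq_comm, QuotientGroup.eq, inv_eq hD ha]; exact hab
    have m2 : (b * y) ^ 2 ∈ Cfsg.pCore 3 G := by
      rw [← QuotientGroup.eq_one_iff, QuotientGroup.mk_pow, QuotientGroup.mk_mul, e1,
        ← QuotientGroup.mk_mul, ← QuotientGroup.mk_pow, (commute_iff_sq hD ha hy).1 hay]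
      rfl
    have m1 : b * y ∈ Cfsg.pCore 3 G := by
      have m3 : (b * y) ^ 3 ∈ Cfsg.pCore 3 G := by rw [cube_eq_one hD hb hy hby]; exact one_mem _
      have := mul_mem (inv_mem m2) m3
      rwa [pow_succ (b * y) 2, ← mul_assoc, inv_mul_cancel, one_mul] at this
    have may : a * y ∈ Cfsg.pCore 3 G := by
      have := mul_mem hab m1
      rwa [← mul_assoc, mul_right_cancel_self hD hb] at this
    exact hya (small a ha y hy may hay).symm
  have h' : w * d ∈ Cfsg.pCore 3 G := by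
    have := inv_mem h
    rwa [mul_inv_rev, inv_eq hD hd, inv_eq hD hw] at this
  exact wRel_iff.2 ⟨hw, fun y hy =>
    ⟨fun hh => key d hd w hw h y hy hh.1 hh.2, fun hh => key w hw d hd h' y hy hh.1 hh.2⟩⟩

theorem conj_mul_mem_pCore {p : ℕ} (hD : Cfsg.IsThreeTranspositionSet D) {d : G} (hd : d ∈ D) {g : G}
    (hg : g ∈ Cfsg.pCore p G) : d * (g * d * g⁻¹) ∈ Cfsg.pCore p G := by
  have h := mul_mem (Thompson.instPCoreNormal.conj_mem g hg d) (inv_mem hg)
  rw [inv_eq hD hd] at h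
  simpa only [mul_assoc] using h

theorem vClass_eq (hD : Cfsg.IsThreeTranspositionClass D) (hD2 : ∃ a ∈ D, ∃ b ∈ D, a ≠ b) {d : G}
    (hd : d ∈ D) :
    {v : G | VRel D d v} = {v : G | v ∈ D ∧ d⁻¹ * v ∈ Cfsg.pCore 2 G} ∧
      {v : G | VRel D d v} = {v : G | ∃ g ∈ Cfsg.pCore 2 G, v = g * d * g⁻¹} := by
  have hc := class_invariant hD
  refine ⟨?_, ?_⟩ <;> ext v <;> simp only [Set.mem_setOf_eq, inv_eq hD.1 hd]
  · exact ⟨fun h => ⟨h.1, vRel_mul_mem_pCore hD.1 hc hd h⟩,
      fun h => vRel_of_mul_mem_pCore hD.1 hd h.1 h.2⟩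
  constructor
  · intro h
    by_cases hvd : v = d
    · exact ⟨1, one_mem _, by simp [hvd]⟩
    obtain ⟨e, he, hde⟩ := exists_not_commute hD hD2 hd
    have hve : ¬ Commute v e := fun h' => hde ((h.2 e he).1 h')
    have hdv := vRel_commute hd h
    have h2 : VRel D (e * d * e) (e * v * e) := by
      have := vRel_conj hc h e
      rwa [inv_eq hD.1 he] at this
    have hu : e * d * e ∈ D := conj_mem hD.1 hc he hd
    refine ⟨(e * d * e) * (e * v * e), vRel_mul_mem_pCore hD.1 hc hu h2, ?_⟩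
    obtain ⟨φ, -, h01, h12, h23⟩ := exists_sym4 hD.1 hd he h.1 (Ne.symm hvd) hdv hde fun h' => hve h'.symm
    have key := congrArg φ (show Equiv.swap (2 : Fin 4) 3 =
        Equiv.swap 1 2 * Equiv.swap 0 1 * Equiv.swap 1 2 *
          (Equiv.swap 1 2 * Equiv.swap 2 3 * Equiv.swap 1 2) * Equiv.swap 0 1 *
          (Equiv.swap 1 2 * Equiv.swap 0 1 * Equiv.swap 1 2 *
            (Equiv.swap 1 2 * Equiv.swap 2 3 * Equiv.swap 1 2))⁻¹ by decide)
    simp only [map_mul, map_inv, h01, h12, h23] at key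
    exact key
  · rintro ⟨g, hg, rfl⟩
    exact vRel_of_mul_mem_pCore hD.1 hd (hc g d hd) (conj_mul_mem_pCore hD.1 hd hg)

theorem wClass_eq (hD : Cfsg.IsThreeTranspositionClass D) {d : G} (hd : d ∈ D) :
    {w : G | WRel D d w} = {w : G | w ∈ D ∧ d⁻¹ * w ∈ Cfsg.pCore 3 G} ∧
      {w : G | WRel D d w} = {w : G | ∃ g ∈ Cfsg.pCore 3 G, w = g * d * g⁻¹} := by
  have hc := class_invariant hD
  refine ⟨?_, ?_⟩ <;> ext w <;> simp only [Set.mem_setOf_eq, inv_eq hD.1 hd]
  · exact ⟨fun h => ⟨h.1, wRel_mul_mem_pCore hD.1 hc hd h⟩,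
      fun h => wRel_of_mul_mem_pCore hD.1 hd h.1 h.2⟩
  constructor
  · intro h
    by_cases hwd : w = d
    · exact ⟨1, one_mem _, by simp [hwd]⟩
    refine ⟨d * w, wRel_mul_mem_pCore hD.1 hc hd h, ?_⟩
    rw [mul_inv_rev, inv_eq hD.1 hd, inv_eq hD.1 h.1,
      show d * w * d * (w * d) = d * (w * d * w) * d by simp only [mul_assoc],
      ← braid hD.1 hd h.1 (wRel_not_commute h hwd), conj_conj_self hD.1 hd]
  · rintro ⟨g, hg, rfl⟩
    exact wRel_of_mul_mem_pCore hD.1 hd (hc g d hd) (conj_mul_mem_pCore hD.1 hd hg)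

end Cfsg.Agent.FischerSpace
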