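import Cfsg.Agent.Lib.FischerSpace.Classes

/-!
# A three-group complement normalized by a member

`complement_abelian`, `complement_normalized`: an involution whose products with its conjugates lie
in a normal 2-subgroup or have order dividing 3 normalizes a 3-group complement to that subgroup.
-/

set_option autoImplicit false

namespace Cfsg.Agent.FischerSpace

open scoped IsMulCommutative

variable {G : Type*} [Group G] [Finite G]

theorem eq_one_of_two_three {Q P : Subgroup G} (hQ : IsPGroup 2 Q) (hP : IsPGroup 3 P) {x : G}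
    (hxQ : x ∈ Q) (hxP : x ∈ P) : x = 1 := by
  obtain ⟨i, hi⟩ := hQ ⟨x, hxQ⟩
  obtain ⟨j, hj⟩ := hP ⟨x, hxP⟩
  exact eq_one_of_pow (m := 2 ^ i) (by simpa [Subtype.ext_iff] using hi)
    (by simpa [Subtype.ext_iff] using hj) (Nat.Coprime.pow_left i (by norm_num))

/-- A subgroup which is a 3-group modulo `M` is `M` times one of its Sylow 3-subgroups. -/
theorem le_sup_sylow (M K : Subgroup G) [M.Normal] (hM : M ≤ K)
    (hK : IsPGroup 3 (K.map (QuotientGroup.mk' M))) (P : Sylow 3 K) :
    K ≤ M ⊔ (P : Subgroup K).map K.subtype := by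
  haveI : Fact (Nat.Prime 3) := ⟨Nat.prime_three⟩
  have h1 : (M.subgroupOf K ⊔ (P : Subgroup K)).index = 1 := by
    have hd1 := Subgroup.index_dvd_of_le (H := (P : Subgroup K)) (K := M.subgroupOf K ⊔ P) le_sup_right
    have hd2 := Subgroup.index_dvd_of_le (H := M.subgroupOf K) (K := M.subgroupOf K ⊔ P) le_sup_left
    have hidx : (M.subgroupOf K).index = Nat.card (K.map (QuotientGroup.mk' M)) := by
      have := Subgroup.index_ker ((QuotientGroup.mk' M).comp K.subtype)
      rwa [MonoidHom.range_comp, Subgroup.range_subtype, ← MonoidHom.comap_ker,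
        QuotientGroup.ker_mk'] at this
    obtain ⟨k, hk⟩ := IsPGroup.iff_card.1 hK
    rw [hidx, hk] at hd2
    exact Nat.eq_one_of_dvd_coprimes
      (((Nat.Prime.coprime_iff_not_dvd Nat.prime_three).2 P.not_dvd_index).pow_left k) hd2 hd1
  have h2 := congrArg (Subgroup.map K.subtype) (Subgroup.index_eq_one.1 h1)
  rw [Subgroup.map_sup, Subgroup.map_subgroupOf_eq_of_le hM, ← MonoidHom.range_eq_map,
    Subgroup.range_subtype] at h2
  exact h2.ge

theorem regroup_six {M : Type*} [CommMonoid M] (a a' b b' c c' : M) :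
    (a * a') * (b * b') * (c * c') = (a * c') * (b * a') * (c * b') := by
  simp only [mul_comm, mul_left_comm, mul_assoc]

set_option maxHeartbeats 800000 in
/-- The case of an elementary abelian normal 2-subgroup. -/
theorem complement_abelian (M : Subgroup G) [M.Normal] (hab : ∀ x ∈ M, ∀ y ∈ M, Commute x y)
    (hsq : ∀ x ∈ M, x * x = 1) (K : Subgroup G) (hMK : M ≤ K)
    (hK : IsPGroup 3 (K.map (QuotientGroup.mk' M))) {d : G} (hd : d * d = 1)
    (hdK : d ∈ Subgroup.normalizer (K : Set G))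
    (hyp : ∀ g ∈ K, d * (g * d * g⁻¹) ∈ M ∨ (d * (g * d * g⁻¹)) ^ 3 = 1)
    (hex : ∃ g ∈ K, d * (g * d * g⁻¹) ∉ M) :
    ∃ P : Subgroup G, IsPGroup 3 P ∧ P ≤ K ∧ K ≤ M ⊔ P ∧ d ∈ Subgroup.normalizer (P : Set G) := by
  classical
  haveI : Fact (Nat.Prime 3) := ⟨Nat.prime_three⟩
  let S0 : Sylow 3 K := default
  set P := (S0 : Subgroup K).map K.subtype with hP
  have hPp : IsPGroup 3 P := S0.isPGroup'.map _
  have hPK : P ≤ K := Subgroup.map_subtype_le _
  have hsup : K ≤ M ⊔ P := le_sup_sylow M K hMK hK S0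
  have hM2 : IsPGroup 2 M := fun x => ⟨1, Subtype.ext (by simpa [pow_two] using hsq x x.2)⟩
  have hMP : ∀ x ∈ M, x ∈ P → x = 1 := fun x hx hx' => eq_one_of_two_three hM2 hPp hx hx'
  -- an element of `M d` normalizing `P`
  obtain ⟨m0, hm0, hn0⟩ : ∃ m ∈ M, m * d ∈ Subgroup.normalizer (P : Set G) := by
    let H := Subgroup.normalizer (K : Set G)
    have hKH : K ≤ H := Subgroup.le_normalizer
    let e := Subgroup.subgroupOfEquivOfLe hKH
    let S : Sylow 3 (K.subgroupOf H) := S0.comapOfInjective e.toMonoidHom e.injective (by simp)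
    have h := Sylow.normalizer_sup_eq_top S
    obtain ⟨y, hy, k, hk, hyk⟩ :=
      Subgroup.mem_sup_of_normal_right.1 (h.ge (Subgroup.mem_top (⟨d, hdK⟩ : H)))
    have hyP : (y : G) ∈ Subgroup.normalizer (P : Set G) := by
      rw [Subgroup.mem_normalizer_iff] at hy ⊢
      have hmem : ∀ x : G, x ∈ P ↔
          ∃ hx : x ∈ H, (⟨x, hx⟩ : H) ∈ (S : Subgroup (K.subgroupOf H)).map (K.subgroupOf H).subtype := by
        intro x
        constructor
        · intro hx
          refine ⟨hKH (hPK hx), ⟨⟨x, hKH (hPK hx)⟩, Subgroup.mem_subgroupOf.2 (hPK hx)⟩, ?_, rfl⟩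
          obtain ⟨z, hz, rfl⟩ := hx
          exact hz
        · rintro ⟨hx, z, hz, hzx⟩
          refine ⟨e z, hz, ?_⟩
          exact congrArg Subtype.val hzx
      intro x
      rw [hmem, hmem]
      constructor
      · rintro ⟨hx, h'⟩
        exact ⟨mul_mem (mul_mem y.2 hx) (inv_mem y.2), (hy _).1 h'⟩
      · rintro ⟨hx, h'⟩
        have hx' : x ∈ H := by simpa [mul_assoc] using mul_mem (mul_mem (inv_mem y.2) hx) y.2
        exact ⟨hx', (hy ⟨x, hx'⟩).2 h'⟩
    have hd' : (y : G) * (k : G) = d := congrArg Subtype.val hyk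
    obtain ⟨m, hm, p, hp, hmp⟩ := Subgroup.mem_sup_of_normal_left.1 (hsup (Subgroup.mem_subgroupOf.1 hk))
    refine ⟨(y * m * (y : G)⁻¹)⁻¹, inv_mem (‹M.Normal›.conj_mem m hm y), ?_⟩
    rw [← hd', ← hmp, show ((y : G) * m * (y : G)⁻¹)⁻¹ * (y * (m * p)) = y * p by group]
    exact mul_mem hyP (Subgroup.le_normalizer hp)
  -- averaging over `P`
  haveI : IsMulCommutative M := ⟨⟨fun x y => Subtype.ext (hab x x.2 y y.2).eq⟩⟩
  haveI : Fintype P := Fintype.ofFinite P
  let cj : G → M → M := fun g a => ⟨g * a * g⁻¹, ‹M.Normal›.conj_mem a a.2 g⟩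
  have cj_mul : ∀ g a b, cj g (a * b) = cj g a * cj g b := fun g a b =>
    Subtype.ext (by simp [cj, mul_assoc])
  have cj_cj : ∀ g h a, cj g (cj h a) = cj (g * h) a := fun g h a =>
    Subtype.ext (by simp [cj, mul_assoc])
  have cj_prod : ∀ g (f : P → M), cj g (∏ x, f x) = ∏ x, cj g (f x) := fun g f =>
    map_prod (MonoidHom.mk' (cj g) (cj_mul g)) f Finset.univ
  have Msq : ∀ a : M, a * a = 1 := fun a => Subtype.ext (hsq a a.2)
  have oddpow : ∀ a : M, a ^ Fintype.card P = a := by
    intro a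
    obtain ⟨k, hk⟩ := IsPGroup.iff_card.1 hPp
    rw [← Nat.card_eq_fintype_card, hk]
    obtain ⟨j, hj⟩ : Odd (3 ^ k) := Odd.pow (by decide)
    rw [hj, pow_add, pow_mul, pow_two, Msq, one_pow, one_mul, pow_one]
  let A : M → M := fun a => ∏ x : P, cj x a
  have A_mul : ∀ a b, A (a * b) = A a * A b := fun a b => by
    simp only [A, cj_mul, Finset.prod_mul_distrib]
  have A_fix : ∀ (a : M) (p : P), cj p (A a) = A a := by
    intro a p
    simp only [A, cj_prod, cj_cj]
    exact Fintype.prod_equiv (Equiv.mulLeft p) _ _ fun x => rfl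
  have A_id : ∀ a : M, (∀ p : P, cj p a = a) → A a = a := fun a ha => by
    simp only [A, ha, Finset.prod_const, Finset.card_univ, oddpow]
  have A_norm : ∀ g ∈ Subgroup.normalizer (P : Set G), ∀ a, A (cj g a) = cj g (A a) := by
    intro g hg a
    simp only [A, cj_prod, cj_cj]
    let σ : P ≃ P :=
      { toFun := fun x => ⟨g⁻¹ * x * g, by
          have := (Subgroup.mem_normalizer_iff.1 (inv_mem hg) x).1 x.2
          simpa using this⟩
        invFun := fun x => ⟨g * x * g⁻¹, (Subgroup.mem_normalizer_iff.1 hg x).1 x.2⟩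
        left_inv := fun x => Subtype.ext (by simp [mul_assoc])
        right_inv := fun x => Subtype.ext (by simp [mul_assoc]) }
    refine Fintype.prod_equiv σ _ _ fun x => ?_
    simp [σ, mul_assoc]
  -- shift so that the average vanishes
  set n0 := m0 * d with hn0d
  let μ : M := ⟨m0, hm0⟩
  set u0 := A μ with hu0
  have hdecomp : d = m0 * n0 := by rw [hn0d, ← mul_assoc, hsq m0 hm0, one_mul]
  have hn0sq : n0 * n0 ∈ M := by
    rw [hn0d, show m0 * d * (m0 * d) = m0 * (d * m0 * d) by simp only [mul_assoc]]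
    refine mul_mem hm0 ?_
    have hdi : d⁻¹ = d := inv_eq_of_mul_eq_one_left hd
    have := ‹M.Normal›.conj_mem m0 hm0 d
    rwa [hdi] at this
  have hc0 : ∀ p : P, cj p (⟨n0 * n0, hn0sq⟩ : M) = ⟨n0 * n0, hn0sq⟩ := by
    intro p
    apply Subtype.ext
    show (p : G) * (n0 * n0) * (p : G)⁻¹ = n0 * n0
    have hN : (n0 * n0) * p * (n0 * n0)⁻¹ ∈ P :=
      (Subgroup.mem_normalizer_iff.1 (mul_mem hn0 hn0) p).1 p.2
    have h1 := hMP ((n0 * n0) * p * (n0 * n0)⁻¹ * (p : G)⁻¹)
      (by simpa [mul_assoc] using mul_mem hn0sq (‹M.Normal›.conj_mem _ (inv_mem hn0sq) p))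
      (mul_mem hN (inv_mem p.2))
    rw [mul_inv_eq_one, mul_inv_eq_iff_eq_mul] at h1
    rw [← h1, mul_inv_cancel_right]
  set n : G := u0 * n0 with hn
  set m : M := μ * u0 with hm
  have hAm : A m = 1 := by rw [hm, A_mul, A_id u0 (A_fix μ), Msq]
  have hdn : d = m * n := by
    rw [hn, hm, Subgroup.coe_mul, mul_assoc, ← mul_assoc (u0 : G) u0 n0, hsq u0 u0.2, one_mul]
    exact hdecomp
  have hnN : n ∈ Subgroup.normalizer (P : Set G) := by
    refine mul_mem ?_ hn0
    rw [Subgroup.mem_normalizer_iff]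
    intro x
    have hu : ∀ p ∈ P, (u0 : G) * p * (u0 : G)⁻¹ = p := by
      intro p hp
      have : p * u0 * p⁻¹ = (u0 : G) := congrArg Subtype.val (A_fix μ ⟨p, hp⟩)
      rw [mul_inv_eq_iff_eq_mul] at this ⊢
      exact this.symm
    refine ⟨fun hx => by rw [hu x hx]; exact hx, fun hx => ?_⟩
    have h2 := hu _ hx
    rw [show (u0 : G) * (u0 * x * (u0 : G)⁻¹) * (u0 : G)⁻¹ = (u0 * u0) * x * ((u0 : G) * u0)⁻¹ by group,
      hsq u0 u0.2, one_mul, inv_one, mul_one] at h2
    rwa [h2]
  have hnn : n * n = 1 := by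
    have hmid : μ * cj n0 μ * ⟨n0 * n0, hn0sq⟩ = 1 := by
      apply Subtype.ext
      simp only [Subgroup.coe_mul, μ, cj, Subgroup.coe_one]
      rw [show m0 * (n0 * m0 * n0⁻¹) * (n0 * n0) = (m0 * n0) * (m0 * n0) by group, ← hdecomp, hd]
    have key := congrArg A hmid
    rw [A_mul, A_mul, A_norm n0 hn0, A_id _ hc0, A_id 1 (fun p => Subtype.ext (by simp [cj]))] at key
    have key' := congrArg Subtype.val key
    simp only [Subgroup.coe_mul, cj, Subgroup.coe_one, ← hu0] at key'
    rw [hn]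
    simpa [mul_assoc] using key'
  have hni : n⁻¹ = n := inv_eq_of_mul_eq_one_left hnn
  have hmfix : n * (m : G) * n = m := by
    have h1 : (m : G) * (n * m * n) = 1 := by
      rw [← hd, hdn]; simp only [mul_assoc]
    rw [eq_inv_of_mul_eq_one_right h1]
    exact inv_eq_of_mul_eq_one_left (hsq m m.2)
  clear_value n m
  -- the subgroup of commutators with `n`
  let δ : M →* M := MonoidHom.mk' (fun w => w * cj n w) fun a b => by rw [cj_mul, mul_mul_mul_comm]
  set q := QuotientGroup.mk' δ.range with hq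
  have hqn : ∀ a : M, q (cj n a) = q a := by
    intro a
    rw [hq, QuotientGroup.mk'_apply, QuotientGroup.mk'_apply, QuotientGroup.eq]
    refine ⟨a, ?_⟩
    show a * cj n a = (cj n a)⁻¹ * a
    rw [inv_eq_of_mul_eq_one_left (Msq (cj n a)), mul_comm]
  -- a nontrivial element of `P` inverted by `n`
  obtain ⟨y, hyP, hy1, hyn⟩ : ∃ y ∈ P, y ≠ 1 ∧ n * y * n = y⁻¹ := by
    obtain ⟨g, hg, hgM⟩ := hex
    obtain ⟨a, ha, p, hp, rfl⟩ := Subgroup.mem_sup_of_normal_left.1 (hsup hg)
    refine ⟨n * p * n * p⁻¹,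
      mul_mem (by simpa [hni] using (Subgroup.mem_normalizer_iff.1 hnN p).1 hp) (inv_mem hp), ?_, ?_⟩
    · intro h1
      apply hgM
      rw [← QuotientGroup.eq_one_iff]
      have hd1 : (d : G ⧸ M) = n := by
        rw [hdn, QuotientGroup.mk_mul, (QuotientGroup.eq_one_iff _).2 m.2, one_mul]
      simp only [QuotientGroup.mk_mul, QuotientGroup.mk_inv, hd1, (QuotientGroup.eq_one_iff a).2 ha,
        one_mul]
      rw [← QuotientGroup.mk_inv, ← QuotientGroup.mk_mul, ← QuotientGroup.mk_mul, ← QuotientGroup.mk_mul,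
        show n * (p * n * p⁻¹) = n * p * n * p⁻¹ by simp only [mul_assoc], h1]
      rfl
    · rw [mul_inv_rev, mul_inv_rev, mul_inv_rev, inv_inv, hni]
      simp only [mul_assoc]
      rw [← mul_assoc n n (p * _), hnn, one_mul]
  -- conjugates by the centralizer of `n` agree with `m` modulo the commutators
  have hclass : ∀ c : P, n * c * n = c → q (cj c m) = q m := by
    intro c hc
    have hcn : n * c = c * n := by
      conv_rhs => rw [← hc]
      rw [mul_assoc, hnn, mul_one]
    set m' := cj c m with hm'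
    have hm'fix : n * (m' : G) * n = m' := by
      show n * (c * m * (c : G)⁻¹) * n = c * m * (c : G)⁻¹
      have hci : (c : G)⁻¹ * n = n * (c : G)⁻¹ := (Commute.inv_left (Commute.symm hcn)).eq
      calc n * (c * m * (c : G)⁻¹) * n = (n * c) * m * ((c : G)⁻¹ * n) := by simp only [mul_assoc]
        _ = c * (n * m * n) * (c : G)⁻¹ := by rw [hcn, hci]; simp only [mul_assoc]
        _ = _ := by rw [hmfix]
    have hny : n * y⁻¹ = y * n := by rw [← hyn]; simp only [← mul_assoc, hnn, one_mul]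
    have hyny : n * y = y⁻¹ * n := by rw [← hyn, mul_assoc, hnn, mul_one]
    set b : M := m * cj y⁻¹ m' with hb
    have hprod : d * (y * c * d * (y * (c : G))⁻¹) = (b : G) * (y⁻¹ * y⁻¹) := by
      have h2 : y * c * d * (y * (c : G))⁻¹ = y * m' * y * n := by
        rw [hdn, hm']
        simp only [cj, mul_inv_rev]
        calc y * c * (↑m * n) * ((c : G)⁻¹ * y⁻¹) = y * c * m * (n * (c : G)⁻¹) * y⁻¹ := by
              simp only [mul_assoc]
          _ = y * (c * m * (c : G)⁻¹) * (n * y⁻¹) := by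
              rw [(Commute.inv_right (show Commute n (c : G) from hcn)).eq]; simp only [mul_assoc]
          _ = _ := by rw [hny]; simp only [mul_assoc]
      rw [h2, hdn, hb]
      simp only [cj, Subgroup.coe_mul, inv_inv]
      calc (m : G) * n * (y * m' * y * n) = m * (n * y) * m' * (y * n) := by simp only [mul_assoc]
        _ = m * (y⁻¹ * n) * m' * (n * y⁻¹) := by rw [hyny, hny]
        _ = m * y⁻¹ * (n * m' * n) * y⁻¹ := by simp only [mul_assoc]
        _ = _ := by rw [hm'fix]; group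
    have hnot : d * (y * c * d * (y * (c : G))⁻¹) ∉ M := by
      rw [hprod]
      intro h
      have h' : y⁻¹ * y⁻¹ ∈ M := by simpa [mul_assoc] using mul_mem (inv_mem b.2) h
      have h1 := hMP _ h' (mul_mem (inv_mem hyP) (inv_mem hyP))
      obtain ⟨k, hk⟩ := hPp ⟨y, hyP⟩
      refine hy1 (eq_one_of_pow (m := 2) ?_ (by simpa [Subtype.ext_iff] using hk) (by decide))
      rw [pow_two, ← inv_inj, mul_inv_rev, h1, inv_one]
    have hcube := (hyp (y * c) (mul_mem (hPK hyP) (hPK c.2))).resolve_left hnot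
    rw [hprod] at hcube
    have hy6 : (y⁻¹ * y⁻¹) ^ 3 = 1 := by
      refine hMP _ ?_ (pow_mem (mul_mem (inv_mem hyP) (inv_mem hyP)) 3)
      rw [← QuotientGroup.eq_one_iff]
      have := congrArg (QuotientGroup.mk' M) hcube
      simpa [(QuotientGroup.eq_one_iff (b : G)).2 b.2] using this
    have hy3 : y ^ 3 = 1 := by
      obtain ⟨k, hk⟩ := hPp ⟨y ^ 3, pow_mem hyP 3⟩
      refine eq_one_of_pow (m := 2) ?_ (by simpa [Subtype.ext_iff] using hk) (by decide)
      rw [← pow_mul, show 3 * 2 = 2 * 3 by rfl, pow_mul, ← inv_inj, ← inv_pow, ← inv_pow, inv_one,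
        pow_two]
      exact hy6
    have hyy : y⁻¹ * y⁻¹ = y := by
      rw [← mul_inv_rev]
      exact inv_eq_of_mul_eq_one_right (by rw [← hy3]; simp [pow_succ, mul_assoc])
    rw [hyy] at hcube
    have hE : b * cj y b * cj y⁻¹ b = 1 := by
      apply Subtype.ext
      simp only [Subgroup.coe_mul, cj, Subgroup.coe_one, inv_inv]
      have hyy' : y * y = y⁻¹ := by
        apply eq_inv_of_mul_eq_one_left
        rw [← hy3]; simp [pow_succ, mul_assoc]
      rw [← hcube, show ((b : G) * y) ^ 3 = b * y * (b * y) * (b * y) by simp [pow_succ, mul_assoc]]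
      calc (b : G) * (y * b * y⁻¹) * (y⁻¹ * b * y) = b * y * b * (y⁻¹ * y⁻¹) * b * y := by
            simp only [mul_assoc]
        _ = _ := by rw [hyy]; simp only [mul_assoc]
    have hyy2 : cj y (cj y⁻¹ m') = m' := Subtype.ext (by simp [cj, mul_assoc])
    have hyy3 : cj y⁻¹ (cj y⁻¹ m') = cj y m' := by rw [cj_cj, hyy]
    have hsum : (m * m') * cj y (m * m') * cj y⁻¹ (m * m') = 1 := by
      rw [← hE, hb]
      simp only [cj_mul, hyy2, hyy3]
      exact regroup_six m m' (cj y m) (cj y m') (cj y⁻¹ m) (cj y⁻¹ m')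
    have hrange : m * m' ∈ δ.range := by
      refine ⟨cj y (m * m'), ?_⟩
      show cj y (m * m') * cj n (cj y (m * m')) = m * m'
      have e1 : cj n (cj y (m * m')) = cj y⁻¹ (m * m') := by
        rw [cj_cj, hyny, ← cj_cj]
        congr 1
        apply Subtype.ext
        simp only [cj, Subgroup.coe_mul, hni]
        calc n * (↑m * ↑m') * n = (n * m * n) * (n * m' * n) := by
              simp only [mul_assoc]; rw [← mul_assoc n n (↑m' * n), hnn, one_mul]
          _ = _ := by rw [hmfix, hm'fix]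
      rw [e1]
      have := eq_inv_of_mul_eq_one_right (by rwa [mul_assoc] at hsum)
      rw [this]
      exact inv_eq_of_mul_eq_one_left (Msq _)
    rw [hq, QuotientGroup.mk'_apply, QuotientGroup.mk'_apply, QuotientGroup.eq,
      inv_eq_of_mul_eq_one_left (Msq m'), mul_comm]
    exact hrange
  -- pair `x` with `n x n`
  have hmem : m ∈ δ.range := by
    have hprod : ∏ x : P, (q (cj x m) * q m) = 1 := by
      refine Finset.prod_involution (fun x _ => (⟨n * x * n,
        by simpa [hni] using (Subgroup.mem_normalizer_iff.1 hnN x).1 x.2⟩ : P)) ?_ ?_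
        (fun x _ => Finset.mem_univ _) ?_
      · intro x _
        have e : cj (n * x * n) m = cj n (cj x m) := by
          apply Subtype.ext
          simp only [cj, mul_inv_rev, hni]
          calc n * (x : G) * n * m * (n * ((x : G)⁻¹ * n)) = n * x * (n * m * n) * ((x : G)⁻¹ * n) := by
                simp only [mul_assoc]
            _ = _ := by rw [hmfix]; simp only [mul_assoc]
        rw [e, hqn, ← map_mul, ← map_mul, Msq, map_one]
      · intro x _ hx heq
        apply hx
        rw [hclass x (congrArg Subtype.val heq), ← map_mul, Msq, map_one]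
      · intro x _
        apply Subtype.ext
        show n * (n * x * n) * n = x
        simp only [mul_assoc, hnn, mul_one]
        rw [← mul_assoc, hnn, one_mul]
    rw [Finset.prod_mul_distrib, ← map_prod, show (∏ x : P, cj x m) = A m from rfl, hAm, map_one, one_mul,
      Finset.prod_const, Finset.card_univ, ← map_pow, oddpow, hq, QuotientGroup.mk'_apply,
      QuotientGroup.eq_one_iff] at hprod
    exact hprod
  obtain ⟨w, hw⟩ := hmem
  have hw' : (w : G) * (n * w * n) = m := by
    have := congrArg Subtype.val hw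
    simpa [δ, cj, hni] using this
  have hwinv : (w : G)⁻¹ = w := inv_eq_of_mul_eq_one_left (hsq w w.2)
  have hdw : d = w * n * (w : G)⁻¹ := by
    rw [hdn, ← hw', hwinv]
    simp only [mul_assoc, hnn, mul_one]
  refine ⟨P.map (MulAut.conj (w : G)).toMonoidHom, hPp.map _, ?_, ?_, ?_⟩
  · rintro _ ⟨p, hp, rfl⟩
    exact mul_mem (mul_mem (hMK w.2) (hPK hp)) (inv_mem (hMK w.2))
  · refine hsup.trans (sup_le le_sup_left fun p hp => ?_)
    have h1 : (w : G) * p * (w : G)⁻¹ ∈ M ⊔ P.map (MulAut.conj (w : G)).toMonoidHom :=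
      Subgroup.mem_sup_right ⟨p, hp, rfl⟩
    have := mul_mem (mul_mem (Subgroup.mem_sup_left (inv_mem w.2)) h1) (Subgroup.mem_sup_left w.2)
    simpa [mul_assoc] using this
  · rw [Subgroup.mem_normalizer_iff]
    intro x
    simp only [Subgroup.mem_map_equiv, MulAut.conj_symm_apply]
    rw [hdw, show (w : G)⁻¹ * (w * n * (w : G)⁻¹ * x * (w * n * (w : G)⁻¹)⁻¹) * w =
      n * ((w : G)⁻¹ * x * w) * n⁻¹ by group]
    exact Subgroup.mem_normalizer_iff.1 hnN _

/-- An involution normalizes some 3-group complement of a normal 2-subgroup. -/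
theorem complement_normalized {H : Type*} [Group H] [Finite H] (Q K : Subgroup H) [Q.Normal] [K.Normal]
    (hQ : IsPGroup 2 Q) (hQK : Q ≤ K) (hK : IsPGroup 3 (K.map (QuotientGroup.mk' Q))) {d : H}
    (hd : d * d = 1)
    (hyp : ∀ g ∈ K, d * (g * d * g⁻¹) ∈ Q ∨ (d * (g * d * g⁻¹)) ^ 3 = 1)
    (hex : ∃ g ∈ K, d * (g * d * g⁻¹) ∉ Q) :
    ∃ P : Subgroup H, IsPGroup 3 P ∧ P ≤ K ∧ K ≤ Q ⊔ P ∧ d ∈ Subgroup.normalizer (P : Set H) := by
  suffices ∀ (N : ℕ) (H : Type _) [Group H] [Finite H] (Q K : Subgroup H) [Q.Normal] [K.Normal] (d : H),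
      Nat.card H ≤ N → IsPGroup 2 Q → Q ≤ K → IsPGroup 3 (K.map (QuotientGroup.mk' Q)) → d * d = 1 →
      (∀ g ∈ K, d * (g * d * g⁻¹) ∈ Q ∨ (d * (g * d * g⁻¹)) ^ 3 = 1) →
      (∃ g ∈ K, d * (g * d * g⁻¹) ∉ Q) →
      ∃ P : Subgroup H, IsPGroup 3 P ∧ P ≤ K ∧ K ≤ Q ⊔ P ∧ d ∈ Subgroup.normalizer (P : Set H) from
    this _ H Q K d le_rfl hQ hQK hK hd hyp hex
  intro N
  induction N with
  | zero =>
    intro H _ _ Q K _ _ d h
    exact absurd h (by have := Nat.card_pos (α := H); omega)
  | succ N ih =>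
    intro H _ _ Q K _ _ d hN hQ hQK hK hd hyp hex
    by_cases hQbot : Q = ⊥
    · refine ⟨K, ?_, le_rfl, le_sup_right, by rw [Subgroup.normalizer_eq_top]; exact Subgroup.mem_top d⟩
      refine hK.of_injective (((QuotientGroup.mk' Q).comp K.subtype).codRestrict
        (K.map (QuotientGroup.mk' Q)) fun x => ⟨x, x.2, rfl⟩) ?_
      rw [injective_iff_map_eq_one]
      intro x hx
      have h1 : ((x : H) : H ⧸ Q) = 1 := congrArg Subtype.val hx
      rw [QuotientGroup.eq_one_iff] at h1
      exact Subtype.ext (by simpa [hQbot] using h1)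
    let M : Subgroup H :=
      { carrier := {x | x ∈ Q ∧ x * x = 1 ∧ ∀ q ∈ Q, Commute x q}
        one_mem' := ⟨one_mem Q, one_mul 1, fun q _ => Commute.one_left q⟩
        mul_mem' := fun {x y} hx hy => ⟨mul_mem hx.1 hy.1, by
          rw [← pow_two, (hx.2.2 y hy.1).mul_pow, pow_two, pow_two, hx.2.1, hy.2.1, one_mul],
          fun q hq => (hx.2.2 q hq).mul_left (hy.2.2 q hq)⟩
        inv_mem' := fun {x} hx => ⟨inv_mem hx.1, by rw [← mul_inv_rev, hx.2.1, inv_one],
          fun q hq => (hx.2.2 q hq).inv_left⟩ }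
    haveI : M.Normal := ⟨fun x hx g => ⟨‹Q.Normal›.conj_mem x hx.1 g, by
      rw [show g * x * g⁻¹ * (g * x * g⁻¹) = g * (x * x) * g⁻¹ by group, hx.2.1]; group,
      fun q hq => by
        have := (commute_conj_iff g x (g⁻¹ * q * g)).2
          (hx.2.2 _ (by simpa using ‹Q.Normal›.conj_mem q hq g⁻¹))
        rwa [show g * (g⁻¹ * q * g) * g⁻¹ = q by group] at this⟩⟩
    have hMQ : M ≤ Q := fun x hx => hx.1
    have hMne : M ≠ ⊥ := by
      haveI : Fact (Nat.Prime 2) := ⟨Nat.prime_two⟩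
      haveI : Nontrivial Q := (Subgroup.nontrivial_iff_ne_bot Q).2 hQbot
      haveI := hQ.center_nontrivial
      obtain ⟨z, hz⟩ := exists_prime_orderOf_dvd_card' (G := Subgroup.center Q) 2
        (by
          obtain ⟨k, hk0, hk⟩ := (hQ.to_subgroup (Subgroup.center Q)).nontrivial_iff_card.1 inferInstance
          rw [hk]; exact dvd_pow_self 2 hk0.ne')
      intro hbot
      have h2 : ((z : Q) : H) ∈ M := by
        refine ⟨(z : Q).2, ?_, fun q hq => ?_⟩
        · have := pow_orderOf_eq_one z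
          rw [hz, pow_two] at this
          exact congrArg (fun t : Subgroup.center Q => ((t : Q) : H)) this
        · exact (congrArg Subtype.val (Subgroup.mem_center_iff.1 z.2 ⟨q, hq⟩)).symm
      rw [hbot, Subgroup.mem_bot] at h2
      have : z = 1 := Subtype.ext (Subtype.ext h2)
      simp [this] at hz
    have hlt : Nat.card (H ⧸ M) ≤ N := by
      have h1 := Subgroup.card_eq_card_quotient_mul_card_subgroup M
      have h2 : 1 < Nat.card M := Subgroup.one_lt_card_iff_ne_bot M |>.2 hMne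
      have h3 := Nat.card_pos (α := H ⧸ M)
      nlinarith
    set π := QuotientGroup.mk' M with hπ
    have hπs : Function.Surjective π := QuotientGroup.mk'_surjective M
    haveI hQn : (Q.map π).Normal := Subgroup.Normal.map inferInstance π hπs
    haveI hKn : (K.map π).Normal := Subgroup.Normal.map inferInstance π hπs
    have hback : ∀ x, π x ∈ Q.map π → x ∈ Q := by
      intro x hx
      have h' : x ∈ (Q.map π).comap π := hx
      rwa [Subgroup.comap_map_eq, QuotientGroup.ker_mk', sup_eq_left.2 hMQ] at h'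
    have hKbar : IsPGroup 3 ((K.map π).map (QuotientGroup.mk' (Q.map π))) := by
      rintro ⟨_, _, ⟨x, hx, rfl⟩, rfl⟩
      obtain ⟨k, hk⟩ := hK ⟨QuotientGroup.mk' Q x, x, hx, rfl⟩
      refine ⟨k, Subtype.ext ?_⟩
      have hk' : x ^ 3 ^ k ∈ Q := by
        rw [← QuotientGroup.eq_one_iff]
        simpa [Subtype.ext_iff] using hk
      have := (QuotientGroup.eq_one_iff (π (x ^ 3 ^ k))).2 (Subgroup.mem_map_of_mem π hk')
      simpa using this
    have hyp' : ∀ g ∈ K.map π, π d * (g * π d * g⁻¹) ∈ Q.map π ∨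
        (π d * (g * π d * g⁻¹)) ^ 3 = 1 := by
      rintro _ ⟨g, hg, rfl⟩
      rw [← map_inv, ← map_mul, ← map_mul, ← map_mul]
      refine (hyp g hg).imp (Subgroup.mem_map_of_mem π) fun h => ?_
      rw [← map_pow, h, map_one]
    have hex' : ∃ g ∈ K.map π, π d * (g * π d * g⁻¹) ∉ Q.map π := by
      obtain ⟨g, hg, hne⟩ := hex
      refine ⟨π g, Subgroup.mem_map_of_mem π hg, fun h => hne (hback _ ?_)⟩
      simpa using h
    obtain ⟨P', hP', hP'K, hKP', hdP'⟩ := ih (H ⧸ M) (Q.map π) (K.map π) (π d) hlt (hQ.map π)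
      (Subgroup.map_mono hQK) hKbar (by rw [← map_mul, hd, map_one]) hyp' hex'
    set K1 := P'.comap π with hK1
    have hK1K : K1 ≤ K := by
      intro x hx
      have h' : x ∈ (K.map π).comap π := hP'K hx
      rwa [Subgroup.comap_map_eq, QuotientGroup.ker_mk', sup_eq_left.2 (hMQ.trans hQK)] at h'
    have hMK1 : M ≤ K1 := fun x hx => by
      rw [hK1, Subgroup.mem_comap, hπ, QuotientGroup.mk'_apply, (QuotientGroup.eq_one_iff x).2 hx]
      exact one_mem _
    have hmap : K1.map π = P' := Subgroup.map_comap_eq_self_of_surjective hπs P'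
    have hdK1 : d ∈ Subgroup.normalizer (K1 : Set H) := by
      rw [Subgroup.mem_normalizer_iff] at hdP' ⊢
      intro x
      simp only [hK1, Subgroup.mem_comap, map_mul, map_inv]
      exact hdP' (π x)
    have hfac : ∀ g ∈ K, ∃ q ∈ Q, ∃ k ∈ K1, q * k = g := by
      intro g hg
      obtain ⟨qb, ⟨q, hq, rfl⟩, p, hp, hqp⟩ :=
        Subgroup.mem_sup_of_normal_left.1 (hKP' (Subgroup.mem_map_of_mem π hg))
      refine ⟨q, hq, q⁻¹ * g, ?_, mul_inv_cancel_left q g⟩
      rw [hK1, Subgroup.mem_comap, map_mul, map_inv, ← hqp, inv_mul_cancel_left]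
      exact hp
    have hyp1 : ∀ g ∈ K1, d * (g * d * g⁻¹) ∈ M ∨ (d * (g * d * g⁻¹)) ^ 3 = 1 := by
      intro g hg
      refine (hyp g (hK1K hg)).imp (fun h => ?_) id
      have hd' : d⁻¹ = d := inv_eq_of_mul_eq_one_left hd
      have hmem : d * (g * d * g⁻¹) ∈ K1 := by
        have h1 : d * g * d⁻¹ ∈ K1 := (Subgroup.mem_normalizer_iff.1 hdK1 g).1 hg
        have h2 := mul_mem h1 (inv_mem hg)
        rw [hd'] at h2
        simpa only [mul_assoc] using h2
      have h1 := eq_one_of_two_three (hQ.map π) hP' (Subgroup.mem_map_of_mem π h) hmem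
      rwa [hπ, QuotientGroup.mk'_apply, QuotientGroup.eq_one_iff] at h1
    have hex1 : ∃ g ∈ K1, d * (g * d * g⁻¹) ∉ M := by
      obtain ⟨g, hg, hne⟩ := hex
      obtain ⟨q, hq, k, hk, rfl⟩ := hfac g hg
      refine ⟨k, hk, fun h => hne ?_⟩
      rw [← QuotientGroup.eq_one_iff]
      have h' := (QuotientGroup.eq_one_iff (N := Q) _).2 (hMQ h)
      simpa [(QuotientGroup.eq_one_iff (N := Q) q).2 hq] using h'
    obtain ⟨P, hP, hPK, hK1P, hdP⟩ := complement_abelian M (fun x hx y hy => hx.2.2 y hy.1)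
      (fun x hx => hx.2.1) K1 hMK1 (by rw [← hπ, hmap]; exact hP') hd hdK1 hyp1 hex1
    refine ⟨P, hP, hPK.trans hK1K, fun g hg => ?_, hdP⟩
    obtain ⟨q, hq, k, hk, rfl⟩ := hfac g hg
    exact mul_mem (Subgroup.mem_sup_left hq) (sup_le_sup_right hMQ P (hK1P hk))

end Cfsg.Agent.FischerSpace
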