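import Cfsg.Agent.Lib.FischerSpace.Basic

/-!
# Four members of a set of 3-transpositions of width one

When no two distinct members commute, the conjugates generated by four members are the images of the
81 points of the commutative Moufang loop of exponent three on three generators, compatibly with the
point reflections. A kernel-checked derivation from braid relations and distributivity proves this.
-/

set_option autoImplicit false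

namespace Cfsg.Agent.FischerSpace.FourPoints

/-- A digit of a point code. -/
def digit (n i : ℕ) : ℕ := n / 3 ^ i % 3

/-- Point reflection on codes below 81. -/
def rfl81 (x y : ℕ) : ℕ :=
  let a := fun i => digit x i
  let b := fun i => digit y i
  let s := fun i => (2 * (a i + b i)) % 3
  let t := (a 2 + 2 * b 2) * (a 0 * b 1 + 2 * (a 1 * b 0))
  s 0 + 3 * s 1 + 9 * s 2 + 27 * ((s 3 + t) % 3)

/-- The bit recording the pair `(p, q)`. -/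
def code (p q : ℕ) : ℕ := 128 * p + q

/-- Has the pair been derived? -/
def has (K p q : ℕ) : Bool := K.testBit (code p q)

/-- Record a pair. -/
def ins (K p q : ℕ) : ℕ := K ||| 2 ^ code p q

/-- The generation tree: `(g, x, y)` defines point `y` as the image of `x` under the reflection in `g`. -/
def tree : List (ℕ × ℕ × ℕ) :=
  [(1, 0, 2), (3, 0, 6), (9, 0, 18), (3, 1, 8), (9, 1, 20), (9, 3, 24), (3, 2, 7), (9, 2, 19), (1, 6, 5), (9, 6, 21), (1, 18, 11), (3, 18, 15), (0, 8, 4), (9, 8, 22),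
   (0, 20, 10), (3, 20, 43), (0, 24, 12), (1, 24, 68), (9, 7, 23), (3, 19, 71), (9, 5, 25), (1, 21, 44), (3, 11, 79), (1, 15, 50), (9, 4, 26), (0, 22, 17), (3, 10, 53), (0, 43, 77),
   (1, 12, 80), (0, 68, 52), (0, 23, 16), (1, 23, 42), (3, 23, 40), (0, 71, 49), (1, 71, 75), (0, 25, 14), (1, 25, 67), (3, 25, 65), (0, 44, 76), (3, 44, 46), (0, 79, 41), (1, 79, 13),
   (9, 79, 32), (0, 50, 70), (9, 50, 61), (1, 26, 66), (3, 26, 37), (1, 17, 48), (3, 17, 73), (1, 53, 39), (9, 53, 58), (1, 77, 69), (9, 77, 34), (3, 80, 64), (9, 80, 31), (3, 52, 38),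
   (9, 52, 59), (3, 16, 47), (3, 42, 72), (9, 49, 62), (9, 75, 33), (1, 14, 78), (1, 65, 45), (9, 76, 35), (9, 46, 56), (1, 41, 51), (1, 32, 60), (3, 70, 74), (3, 61, 29), (1, 47, 63),
   (9, 47, 55), (0, 72, 36), (9, 72, 27), (1, 62, 30), (3, 62, 28), (0, 33, 57), (3, 33, 54)]

/-- The derivation: `(kind, r, p, q)`. -/
def derivation : List (ℕ × ℕ × ℕ × ℕ) :=
  [(0, 1, 0, 0), (0, 3, 0, 0), (0, 9, 0, 0), (0, 3, 1, 0), (0, 9, 1, 0), (0, 9, 3, 0), (0, 3, 2, 0), (0, 9, 2, 0), (0, 1, 6, 0), (0, 9, 6, 0),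
   (0, 1, 18, 0), (0, 3, 18, 0), (0, 0, 8, 0), (0, 9, 8, 0), (0, 0, 20, 0), (0, 3, 20, 0), (0, 0, 24, 0), (0, 1, 24, 0), (0, 9, 7, 0), (0, 3, 19, 0),
   (0, 9, 5, 0), (0, 1, 21, 0), (0, 3, 11, 0), (0, 1, 15, 0), (0, 9, 4, 0), (0, 0, 22, 0), (0, 3, 10, 0), (0, 0, 43, 0), (0, 1, 12, 0), (0, 0, 68, 0),
   (0, 0, 23, 0), (0, 1, 23, 0), (0, 3, 23, 0), (0, 0, 71, 0), (0, 1, 71, 0), (0, 0, 25, 0), (0, 1, 25, 0), (0, 3, 25, 0), (0, 0, 44, 0), (0, 3, 44, 0),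
   (0, 0, 79, 0), (0, 1, 79, 0), (0, 9, 79, 0), (0, 0, 50, 0), (0, 9, 50, 0), (0, 1, 26, 0), (0, 3, 26, 0), (0, 1, 17, 0), (0, 3, 17, 0), (0, 1, 53, 0),
   (0, 9, 53, 0), (0, 1, 77, 0), (0, 9, 77, 0), (0, 3, 80, 0), (0, 9, 80, 0), (0, 3, 52, 0), (0, 9, 52, 0), (0, 3, 16, 0), (0, 3, 42, 0), (0, 9, 49, 0),
   (0, 9, 75, 0), (0, 1, 14, 0), (0, 1, 65, 0), (0, 9, 76, 0), (0, 9, 46, 0), (0, 1, 41, 0), (0, 1, 32, 0), (0, 3, 70, 0), (0, 3, 61, 0), (0, 1, 47, 0),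
   (0, 9, 47, 0), (0, 0, 72, 0), (0, 9, 72, 0), (0, 1, 62, 0), (0, 3, 62, 0), (0, 0, 33, 0), (0, 3, 33, 0), (1, 0, 0, 0), (1, 1, 0, 0), (1, 3, 0, 0),
   (1, 9, 0, 0), (2, 1, 0, 0), (3, 1, 0, 0), (2, 3, 0, 0), (3, 3, 0, 0), (2, 9, 0, 0), (3, 9, 0, 0), (2, 3, 1, 0), (3, 3, 1, 0), (2, 9, 1, 0),
   (3, 9, 1, 0), (2, 9, 3, 0), (3, 9, 3, 0), (2, 3, 2, 0), (3, 3, 2, 0), (2, 9, 2, 0), (3, 9, 2, 0), (2, 1, 6, 0), (3, 1, 6, 0), (2, 9, 6, 0),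
   (3, 9, 6, 0), (2, 1, 18, 0), (3, 1, 18, 0), (2, 3, 18, 0), (3, 3, 18, 0), (2, 0, 8, 0), (3, 0, 8, 0), (2, 9, 8, 0), (3, 9, 8, 0), (2, 0, 20, 0),
   (3, 0, 20, 0), (2, 3, 20, 0), (3, 3, 20, 0), (2, 0, 24, 0), (3, 0, 24, 0), (2, 1, 24, 0), (3, 1, 24, 0), (2, 9, 7, 0), (3, 9, 7, 0), (2, 3, 19, 0),
   (3, 3, 19, 0), (2, 9, 5, 0), (3, 9, 5, 0), (2, 1, 21, 0), (3, 1, 21, 0), (2, 3, 11, 0), (3, 3, 11, 0), (2, 1, 15, 0), (3, 1, 15, 0), (2, 9, 4, 0),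
   (3, 9, 4, 0), (2, 0, 22, 0), (3, 0, 22, 0), (2, 3, 10, 0), (3, 3, 10, 0), (2, 0, 43, 0), (3, 0, 43, 0), (2, 1, 12, 0), (3, 1, 12, 0), (2, 0, 68, 0),
   (3, 0, 68, 0), (2, 0, 23, 0), (3, 0, 23, 0), (2, 1, 23, 0), (3, 1, 23, 0), (2, 3, 23, 0), (3, 3, 23, 0), (2, 0, 71, 0), (3, 0, 71, 0), (2, 1, 71, 0),
   (3, 1, 71, 0), (2, 0, 25, 0), (3, 0, 25, 0), (2, 1, 25, 0), (3, 1, 25, 0), (2, 3, 25, 0), (3, 3, 25, 0), (2, 0, 44, 0), (3, 0, 44, 0), (2, 3, 44, 0),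
   (3, 3, 44, 0), (2, 0, 79, 0), (3, 0, 79, 0), (2, 1, 79, 0), (3, 1, 79, 0), (2, 9, 79, 0), (3, 9, 79, 0), (2, 0, 50, 0), (3, 0, 50, 0), (3, 9, 50, 0),
   (3, 1, 26, 0), (3, 3, 26, 0), (3, 1, 17, 0), (3, 3, 17, 0), (3, 1, 53, 0), (2, 9, 53, 0), (3, 9, 53, 0), (3, 1, 77, 0), (3, 9, 77, 0), (3, 3, 80, 0),
   (3, 9, 80, 0), (3, 3, 52, 0), (3, 9, 52, 0), (2, 3, 16, 0), (3, 3, 16, 0), (2, 3, 42, 0), (3, 3, 42, 0), (2, 9, 49, 0), (3, 9, 49, 0), (2, 9, 75, 0),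
   (3, 9, 75, 0), (2, 1, 14, 0), (3, 1, 14, 0), (2, 1, 65, 0), (3, 1, 65, 0), (3, 9, 76, 0), (3, 9, 46, 0), (2, 1, 41, 0), (3, 1, 41, 0), (2, 1, 32, 0),
   (3, 1, 32, 0), (3, 3, 70, 0), (3, 3, 61, 0), (2, 1, 47, 0), (3, 1, 47, 0), (3, 9, 47, 0), (2, 0, 72, 0), (3, 0, 72, 0), (3, 9, 72, 0), (3, 1, 62, 0),
   (3, 3, 62, 0), (3, 0, 33, 0), (3, 3, 33, 0), (4, 3, 1, 0), (4, 9, 1, 0), (4, 1, 3, 0), (4, 9, 3, 0), (4, 1, 9, 0), (4, 3, 9, 0), (4, 9, 3, 1),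
   (4, 0, 3, 1), (4, 3, 9, 1), (4, 0, 9, 1), (4, 1, 9, 3), (4, 0, 9, 3), (5, 1, 3, 2), (4, 9, 3, 2), (5, 1, 9, 2), (4, 3, 9, 2), (5, 3, 1, 6),
   (4, 9, 1, 6), (4, 1, 9, 6), (5, 3, 9, 6), (4, 3, 1, 18), (5, 9, 1, 18), (4, 1, 3, 18), (5, 9, 3, 18), (5, 3, 0, 8), (4, 9, 0, 8), (5, 3, 9, 8),
   (4, 3, 0, 20), (5, 9, 0, 20), (5, 9, 3, 20), (4, 1, 0, 24), (5, 9, 0, 24), (5, 9, 1, 24), (4, 0, 1, 24), (4, 3, 9, 7), (5, 9, 3, 19), (4, 1, 9, 5),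
   (5, 9, 1, 21), (4, 1, 3, 11), (5, 3, 1, 15), (4, 3, 0, 23), (4, 3, 1, 23), (5, 9, 3, 23), (4, 1, 0, 25), (5, 9, 1, 25), (4, 1, 3, 25), (4, 1, 0, 79),
   (5, 3, 1, 79), (4, 1, 9, 79), (4, 1, 0, 1), (4, 3, 0, 1), (4, 9, 0, 1), (4, 3, 1, 2), (4, 1, 0, 3), (4, 3, 0, 3), (4, 9, 0, 3), (4, 1, 0, 9),
   (4, 3, 0, 9), (4, 9, 0, 9), (4, 1, 9, 18), (4, 3, 9, 18), (4, 3, 1, 3), (4, 9, 1, 3), (4, 0, 1, 3), (4, 0, 3, 8), (4, 3, 1, 9), (4, 9, 1, 9),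
   (4, 0, 1, 9), (4, 0, 9, 20), (4, 1, 3, 9), (4, 9, 3, 9), (4, 0, 3, 9), (4, 1, 9, 24), (4, 0, 9, 24), (4, 3, 2, 3), (4, 9, 2, 3), (4, 9, 3, 7),
   (4, 3, 2, 9), (4, 9, 2, 9), (4, 3, 9, 19), (4, 1, 6, 1), (4, 9, 6, 1), (4, 1, 6, 9), (4, 9, 6, 9), (4, 3, 18, 1), (4, 1, 18, 3), (4, 3, 18, 3),
   (4, 9, 8, 0), (4, 9, 8, 9), (4, 0, 8, 9), (4, 3, 20, 0), (4, 0, 20, 0), (4, 3, 20, 3), (4, 0, 20, 3), (4, 1, 24, 0), (4, 0, 24, 0), (4, 1, 0, 12),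
   (4, 1, 24, 1), (4, 0, 24, 1), (4, 1, 5, 9), (4, 1, 11, 3), (4, 3, 11, 3), (4, 1, 3, 79), (4, 9, 4, 9), (5, 0, 4, 9), (5, 9, 22, 0), (4, 3, 10, 3),
   (5, 0, 10, 3), (5, 3, 43, 0), (4, 1, 12, 1), (5, 0, 12, 1), (5, 1, 68, 0), (4, 3, 23, 0), (4, 3, 23, 1), (4, 3, 23, 3), (4, 1, 25, 1), (4, 1, 79, 1),
   (4, 1, 79, 9), (3, 0, 1, 0), (3, 0, 3, 0), (3, 0, 9, 0), (3, 1, 3, 0), (3, 1, 9, 0), (3, 3, 9, 0), (3, 2, 3, 0), (3, 6, 1, 0), (3, 18, 1, 0),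
   (3, 8, 0, 0), (3, 20, 0, 0), (3, 24, 0, 0), (3, 19, 3, 0), (3, 10, 3, 0), (3, 23, 3, 0), (3, 71, 0, 0), (3, 71, 1, 0), (3, 25, 1, 0), (3, 79, 0, 0),
   (3, 79, 1, 0), (3, 1, 7, 0), (2, 1, 19, 0), (3, 1, 19, 0), (2, 3, 5, 0), (2, 3, 21, 0), (3, 3, 21, 0), (2, 9, 11, 0), (2, 9, 15, 0), (2, 3, 4, 0),
   (3, 3, 22, 0), (2, 9, 10, 0), (2, 9, 43, 0), (2, 9, 68, 0), (2, 9, 71, 0), (2, 9, 40, 0), (2, 9, 67, 0), (2, 3, 13, 0), (3, 2, 1, 0), (3, 6, 8, 0),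
   (3, 18, 20, 0), (2, 8, 7, 0), (3, 2, 8, 0), (3, 6, 3, 0), (3, 18, 24, 0), (3, 2, 20, 0), (3, 6, 24, 0), (3, 18, 9, 0), (3, 8, 3, 0), (2, 6, 4, 0),
   (3, 8, 24, 0), (3, 20, 9, 0), (2, 18, 10, 0), (3, 8, 20, 0), (3, 24, 9, 0), (3, 6, 18, 0), (2, 20, 68, 0), (2, 18, 12, 0), (3, 7, 3, 0), (3, 19, 9, 0),
   (2, 24, 71, 0), (3, 5, 1, 0), (3, 21, 9, 0), (3, 15, 3, 0), (3, 22, 9, 0), (3, 10, 0, 0), (3, 43, 3, 0), (3, 6, 20, 0), (3, 18, 8, 0), (3, 79, 3, 0),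
   (2, 8, 13, 0), (3, 26, 9, 0), (3, 0, 26, 0), (3, 9, 17, 0), (3, 53, 3, 0), (2, 0, 53, 0), (3, 0, 53, 0), (3, 3, 77, 0), (3, 80, 1, 0), (3, 0, 80, 0),
   (3, 1, 52, 0), (4, 12, 1, 0), (4, 68, 1, 0), (4, 20, 3, 0), (4, 43, 3, 0), (4, 22, 9, 0), (4, 2, 3, 1), (4, 6, 3, 1), (4, 15, 3, 1), (4, 18, 9, 1),
   (4, 21, 9, 1), (4, 18, 9, 3), (4, 19, 9, 3), (4, 20, 9, 3), (5, 0, 3, 2), (5, 0, 9, 2), (5, 0, 9, 6), (5, 1, 9, 8), (5, 10, 3, 20), (4, 1, 9, 7),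
   (5, 2, 9, 7), (4, 1, 3, 19), (4, 3, 9, 5), (5, 6, 9, 5), (4, 3, 1, 21), (4, 9, 3, 11), (5, 18, 3, 11), (4, 9, 1, 15), (4, 1, 9, 4), (4, 3, 9, 4),
   (5, 8, 9, 4), (4, 3, 0, 22), (4, 1, 3, 10), (4, 9, 3, 10), (5, 20, 3, 10), (4, 9, 0, 43), (4, 3, 1, 12), (4, 9, 1, 12), (5, 24, 1, 12), (4, 3, 0, 68),
   (4, 9, 0, 68), (5, 9, 1, 23), (4, 9, 0, 71), (5, 3, 1, 71), (4, 9, 1, 71), (5, 19, 1, 71), (5, 9, 3, 25), (4, 9, 0, 44), (5, 1, 3, 44), (4, 9, 3, 44),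
   (5, 3, 9, 79), (4, 3, 0, 50), (5, 1, 9, 50), (4, 3, 9, 50), (5, 9, 1, 26), (5, 0, 1, 26), (5, 9, 3, 26), (5, 0, 3, 26), (5, 9, 1, 17), (5, 9, 3, 17),
   (5, 0, 3, 17), (5, 3, 1, 53), (5, 0, 1, 53), (5, 3, 9, 53), (5, 0, 9, 53), (5, 10, 9, 53), (5, 3, 1, 77), (5, 3, 9, 77), (5, 0, 9, 77), (5, 1, 3, 80),
   (5, 0, 3, 80), (5, 1, 9, 80), (5, 0, 9, 80), (5, 1, 3, 52), (5, 0, 3, 52), (5, 1, 9, 52), (5, 0, 9, 52), (4, 8, 0, 3), (5, 5, 3, 6), (4, 24, 0, 9),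
   (5, 15, 9, 18), (4, 24, 1, 9), (5, 43, 9, 20), (4, 68, 9, 20), (5, 53, 3, 9), (4, 6, 9, 24), (4, 8, 9, 24), (4, 18, 8, 9), (4, 6, 20, 3), (4, 1, 7, 9),
   (4, 1, 19, 3), (4, 1, 4, 9), (4, 3, 4, 9), (4, 1, 10, 3), (4, 9, 10, 3), (4, 3, 12, 1), (4, 3, 68, 0), (4, 9, 71, 0), (4, 9, 44, 0), (4, 9, 44, 3),
   (4, 3, 50, 0), (5, 71, 49, 9), (5, 71, 75, 9), (5, 79, 41, 1), (4, 24, 8, 6), (4, 18, 24, 20), (4, 6, 24, 8), (4, 2, 20, 8), (4, 9, 1, 7), (5, 18, 24, 19),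
   (4, 3, 1, 19), (5, 6, 24, 7), (4, 9, 3, 5), (5, 18, 20, 21), (5, 6, 8, 15), (5, 24, 8, 15), (5, 20, 8, 11), (4, 0, 3, 22), (5, 8, 6, 43), (5, 8, 2, 68),
   (5, 20, 2, 68), (4, 0, 9, 68), (5, 6, 2, 12), (4, 2, 20, 6), (4, 8, 20, 6), (4, 2, 8, 18), (4, 20, 8, 18), (4, 1, 6, 40), (4, 9, 6, 40), (5, 0, 6, 40),
   (5, 1, 8, 40), (4, 9, 8, 40), (4, 0, 8, 40), (4, 0, 9, 40), (5, 0, 2, 67), (5, 6, 2, 67), (5, 3, 8, 67), (5, 0, 2, 13), (5, 18, 2, 13), (5, 9, 20, 13),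
   (5, 18, 20, 13), (4, 24, 6, 8), (4, 9, 2, 8), (4, 3, 2, 20), (4, 8, 2, 20), (4, 3, 20, 11), (4, 0, 8, 20), (4, 2, 8, 20), (5, 13, 8, 20), (4, 1, 4, 18),
   (4, 1, 10, 6), (4, 3, 68, 2), (4, 3, 12, 2), (4, 8, 6, 20), (4, 20, 18, 8), (4, 9, 40, 6), (4, 9, 40, 8), (4, 0, 40, 3), (4, 0, 67, 1), (4, 0, 13, 1),
   (5, 79, 11, 9), (4, 0, 40, 9), (4, 0, 67, 9), (4, 0, 13, 3), (4, 24, 6, 7), (4, 24, 7, 8), (4, 0, 8, 68), (4, 2, 8, 68), (4, 1, 71, 24), (4, 2, 18, 13),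
   (5, 79, 9, 13), (5, 25, 0, 67), (5, 25, 3, 67), (5, 23, 0, 40), (5, 23, 1, 40), (2, 19, 75, 0), (3, 0, 37, 0), (3, 9, 73, 0), (3, 0, 58, 0), (3, 10, 58, 0),
   (3, 3, 34, 0), (3, 0, 31, 0), (3, 1, 59, 0), (3, 71, 62, 0), (3, 71, 33, 0), (2, 79, 51, 0), (2, 6, 79, 0), (3, 6, 78, 0), (3, 18, 51, 0), (2, 13, 68, 0),
   (2, 15, 71, 0), (2, 5, 80, 0), (2, 25, 53, 0), (5, 2, 9, 8), (5, 2, 3, 20), (4, 0, 9, 7), (4, 0, 3, 19), (4, 21, 3, 19), (4, 0, 9, 5), (4, 0, 1, 21),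
   (4, 0, 3, 11), (5, 5, 3, 11), (4, 0, 1, 15), (5, 43, 1, 15), (5, 4, 3, 10), (5, 7, 0, 43), (5, 15, 0, 43), (4, 5, 0, 68), (5, 9, 0, 23), (5, 2, 0, 23),
   (5, 0, 1, 23), (5, 24, 1, 23), (5, 3, 0, 71), (5, 2, 0, 71), (5, 0, 1, 71), (5, 24, 1, 71), (5, 9, 0, 25), (5, 6, 0, 25), (5, 0, 3, 25), (5, 1, 0, 44),
   (5, 6, 0, 44), (5, 0, 3, 44), (5, 3, 0, 79), (5, 18, 0, 79), (5, 0, 9, 79), (5, 1, 0, 50), (5, 18, 0, 50), (5, 0, 9, 50), (5, 8, 1, 26), (5, 1, 3, 26),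
   (5, 0, 1, 17), (5, 8, 1, 17), (5, 1, 3, 17), (5, 20, 1, 53), (5, 1, 9, 53), (5, 8, 9, 53), (5, 0, 1, 77), (5, 20, 1, 77), (5, 1, 9, 77), (5, 2, 3, 80),
   (5, 20, 3, 80), (5, 24, 3, 80), (5, 3, 9, 80), (5, 2, 9, 80), (5, 4, 3, 52), (5, 24, 3, 52), (5, 3, 9, 52), (4, 3, 9, 75), (5, 1, 9, 46), (5, 3, 1, 32),
   (5, 0, 1, 47), (5, 3, 0, 72), (5, 3, 9, 72), (5, 0, 1, 62), (5, 9, 0, 33), (5, 9, 3, 33), (4, 13, 0, 3), (4, 67, 0, 9), (5, 43, 79, 0), (5, 68, 1, 13),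
   (4, 22, 8, 6), (4, 11, 3, 4), (4, 6, 8, 18), (5, 3, 2, 67), (5, 0, 8, 67), (5, 3, 2, 13), (4, 21, 6, 8), (4, 19, 2, 8), (4, 7, 2, 20), (4, 18, 6, 20),
   (4, 6, 9, 17), (4, 19, 3, 68), (4, 19, 2, 5), (4, 7, 2, 11), (4, 26, 4, 6), (4, 53, 10, 18), (4, 80, 12, 18), (4, 18, 10, 43), (4, 0, 2, 23), (5, 43, 8, 10),
   (4, 0, 6, 25), (4, 0, 18, 79), (5, 6, 20, 15), (4, 1, 18, 40), (4, 3, 18, 40), (4, 3, 20, 40), (4, 0, 20, 40), (5, 3, 18, 67), (5, 1, 6, 13), (5, 1, 24, 13),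
   (5, 0, 24, 13), (4, 71, 21, 15), (4, 71, 22, 43), (5, 80, 5, 24), (5, 5, 11, 24), (4, 1, 40, 18), (5, 53, 24, 25), (5, 79, 6, 17), (5, 9, 68, 7), (5, 0, 68, 19),
   (5, 75, 68, 19), (5, 3, 5, 52), (5, 3, 21, 71), (5, 1, 22, 71), (5, 1, 4, 80), (5, 24, 18, 80), (4, 0, 79, 10), (5, 9, 25, 53), (5, 20, 23, 80), (5, 18, 23, 52),
   (5, 8, 71, 80), (5, 6, 71, 52), (5, 10, 51, 79), (4, 0, 79, 6), (5, 9, 18, 75), (2, 3, 27, 0), (2, 43, 41, 0), (3, 1, 29, 0), (3, 0, 29, 0), (3, 53, 26, 0),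
   (2, 75, 60, 0), (2, 3, 55, 0), (3, 9, 78, 0), (4, 15, 9, 7), (5, 11, 9, 5), (5, 18, 3, 25), (5, 24, 0, 79), (5, 20, 0, 50), (5, 53, 3, 80), (5, 79, 3, 52),
   (5, 1, 9, 76), (5, 0, 9, 46), (5, 9, 3, 70), (5, 20, 1, 47), (5, 1, 9, 47), (5, 18, 0, 72), (5, 0, 9, 72), (5, 8, 1, 62), (5, 1, 3, 62), (5, 9, 3, 62),
   (5, 0, 3, 62), (5, 1, 0, 33), (5, 6, 0, 33), (5, 0, 3, 33), (5, 27, 3, 15), (4, 41, 20, 3), (5, 55, 3, 43), (5, 9, 47, 1), (5, 9, 72, 0), (5, 3, 11, 52),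
   (5, 3, 10, 80)]

/-- Check that the tree defines each point only from known ones, and only once. -/
def treeOk : List (ℕ × ℕ × ℕ) → ℕ → Bool
  | [], _ => true
  | (g, x, y) :: l, K =>
    K.testBit g && K.testBit x && !K.testBit y && (rfl81 g x == y) && treeOk l (K ||| 2 ^ y)

/-- Run the derivation on the set of derived pairs. -/
def run : List (ℕ × ℕ × ℕ × ℕ) → ℕ → Option ℕ
  | [], K => some K
  | (k, r, p, q) :: l, K =>
    if q < 128 ∧ p < 128 then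
      if k = 0 then
        if tree.contains (r, p, rfl81 r p) then run l (ins K r p) else none
      else if k = 1 then
        if rfl81 r r = r then run l (ins K r r) else none
      else if k = 2 then
        if r < 128 ∧ (has K r p && (rfl81 p r == rfl81 r p)) = true then run l (ins K p r) else none
      else if k = 3 then
        if has K r p && (rfl81 r (rfl81 r p) == p) then run l (ins K r (rfl81 r p)) else none
      else if k = 4 then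
        if has K r p && has K r q && has K r (rfl81 p q) && has K p q &&
            (rfl81 r (rfl81 p q) == rfl81 (rfl81 r p) (rfl81 r q))
        then run l (ins K (rfl81 r p) (rfl81 r q)) else none
      else
        if has K r p && has K r q && has K (rfl81 r p) (rfl81 r q) && has K p q &&
            (rfl81 r (rfl81 p q) == rfl81 (rfl81 r p) (rfl81 r q))
        then run l (ins K r (rfl81 p q)) else none
    else none

theorem rfl81_lt (x y : ℕ) : rfl81 x y < 128 := by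
  simp only [rfl81]
  omega

theorem code_inj {p q p' q' : ℕ} (hq : q < 128) (hq' : q' < 128) (h : code p q = code p' q') :
    p = p' ∧ q = q' := by
  simp only [code] at h
  omega

section Semantics

variable {α : Type*} {T : α → α → α}

theorem tree_exists (T : α → α → α) : ∀ (l : List (ℕ × ℕ × ℕ)) (K : ℕ) (f : ℕ → α), treeOk l K = true →
    ∃ f' : ℕ → α, (∀ k, K.testBit k = true → f' k = f k) ∧
      ∀ e ∈ l, T (f' e.1) (f' e.2.1) = f' e.2.2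
  | [], _, f, _ => ⟨f, fun _ _ => rfl, by simp⟩
  | (g, x, y) :: l, K, f, h => by
    simp only [treeOk, Bool.and_eq_true, Bool.not_eq_true', beq_iff_eq] at h
    obtain ⟨⟨⟨⟨hg, hx⟩, hy⟩, -⟩, hl⟩ := h
    obtain ⟨f', h1, h2⟩ := tree_exists T l _ (Function.update f y (T (f g) (f x))) hl
    have keep : ∀ k, K.testBit k = true → f' k = f k := by
      intro k hk
      have hne : k ≠ y := fun e => by rw [e, hy] at hk; exact Bool.false_ne_true hk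
      rw [h1 k (by simp [Nat.testBit_lor, hk]), Function.update_of_ne hne]
    refine ⟨f', keep, ?_⟩
    rintro e he
    rcases List.mem_cons.1 he with rfl | he
    · rw [keep g hg, keep x hx, h1 y (by simp [Nat.testBit_lor, Nat.testBit_two_pow]),
        Function.update_self]
    · exact h2 e he

/-- All recorded pairs satisfy the reflection law. -/
def Sound (T : α → α → α) (f : ℕ → α) (K : ℕ) : Prop :=
  ∀ p q, q < 128 → has K p q = true → T (f p) (f q) = f (rfl81 p q)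

theorem sound_ins {f : ℕ → α} {K p q : ℕ} (h : Sound T f K) (hq : q < 128)
    (he : T (f p) (f q) = f (rfl81 p q)) : Sound T f (ins K p q) := by
  intro p' q' hq' hh
  simp only [has, ins, Nat.testBit_lor, Nat.testBit_two_pow, Bool.or_eq_true, decide_eq_true_eq] at hh
  rcases hh with hh | hh
  · exact h p' q' hq' hh
  · obtain ⟨rfl, rfl⟩ := code_inj hq hq' hh
    exact he

theorem run_sound {f : ℕ → α} (hself : ∀ x, T x x = x) (hsymm : ∀ x y, T x y = T y x)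
    (hinv : ∀ x y, T x (T x y) = y) (hdist : ∀ x y z, T x (T y z) = T (T x y) (T x z))
    (htree : ∀ e ∈ tree, T (f e.1) (f e.2.1) = f e.2.2) :
    ∀ (l : List (ℕ × ℕ × ℕ × ℕ)) (K K' : ℕ), run l K = some K' → Sound T f K → Sound T f K'
  | [], K, K', h, hK => by cases h; exact hK
  | (k, r, p, q) :: l, K, K', h, hK => by
    have IH := run_sound hself hsymm hinv hdist htree l
    rw [run] at h
    by_cases c0 : q < 128 ∧ p < 128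
    swap
    · rw [if_neg c0] at h; cases h
    rw [if_pos c0] at h
    by_cases k0 : k = 0
    · rw [if_pos k0] at h
      by_cases c : tree.contains (r, p, rfl81 r p) = true
      · rw [if_pos c] at h
        exact IH _ K' h (sound_ins hK c0.2 (htree (r, p, rfl81 r p) (by simpa using c)))
      · rw [if_neg c] at h; cases h
    rw [if_neg k0] at h
    by_cases k1 : k = 1
    · rw [if_pos k1] at h
      by_cases c : rfl81 r r = r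
      · rw [if_pos c] at h
        by_cases hr : r < 128
        · exact IH _ K' h (sound_ins hK hr (by rw [hself, c]))
        · exfalso
          have := rfl81_lt r r
          omega
      · rw [if_neg c] at h; cases h
    rw [if_neg k1] at h
    by_cases k2 : k = 2
    · rw [if_pos k2] at h
      by_cases c : r < 128 ∧ (has K r p && (rfl81 p r == rfl81 r p)) = true
      · rw [if_pos c] at h
        obtain ⟨hr, c⟩ := c
        rw [Bool.and_eq_true, beq_iff_eq] at c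
        exact IH _ K' h (sound_ins hK hr (by rw [hsymm, hK r p c0.2 c.1, c.2]))
      · rw [if_neg c] at h; cases h
    rw [if_neg k2] at h
    by_cases k3 : k = 3
    · rw [if_pos k3] at h
      by_cases c : (has K r p && (rfl81 r (rfl81 r p) == p)) = true
      · rw [if_pos c] at h
        rw [Bool.and_eq_true, beq_iff_eq] at c
        refine IH _ K' h (sound_ins hK (rfl81_lt _ _) ?_)
        rw [c.2, ← hK r p c0.2 c.1, hinv]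
      · rw [if_neg c] at h; cases h
    rw [if_neg k3] at h
    by_cases k4 : k = 4
    · rw [if_pos k4] at h
      by_cases c : (has K r p && has K r q && has K r (rfl81 p q) && has K p q &&
          (rfl81 r (rfl81 p q) == rfl81 (rfl81 r p) (rfl81 r q))) = true
      · rw [if_pos c] at h
        simp only [Bool.and_eq_true, beq_iff_eq] at c
        obtain ⟨⟨⟨⟨a1, a2⟩, a3⟩, a4⟩, a5⟩ := c
        refine IH _ K' h (sound_ins hK (rfl81_lt _ _) ?_)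
        rw [← a5, ← hK r p c0.2 a1, ← hK r q c0.1 a2, ← hdist, hK p q c0.1 a4,
          hK r _ (rfl81_lt _ _) a3]
      · rw [if_neg c] at h; cases h
    rw [if_neg k4] at h
    by_cases c : (has K r p && has K r q && has K (rfl81 r p) (rfl81 r q) && has K p q &&
        (rfl81 r (rfl81 p q) == rfl81 (rfl81 r p) (rfl81 r q))) = true
    · rw [if_pos c] at h
      simp only [Bool.and_eq_true, beq_iff_eq] at c
      obtain ⟨⟨⟨⟨a1, a2⟩, a3⟩, a4⟩, a5⟩ := c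
      refine IH _ K' h (sound_ins hK (rfl81_lt _ _) ?_)
      rw [← hK p q c0.1 a4, hdist, hK r p c0.2 a1, hK r q c0.1 a2, hK _ _ (rfl81_lt _ _) a3, a5]
    · rw [if_neg c] at h; cases h

/-- The pairs derived from nothing. -/
def derived : ℕ := (run derivation 0).getD 0

theorem tree_ok : treeOk tree (2 ^ 0 + 2 ^ 1 + 2 ^ 3 + 2 ^ 9) = true := by decide +kernel

theorem run_ok : (run derivation 0).isSome = true := by decide +kernel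

theorem derived_rows : ∀ y : Fin 81, has derived 0 y = true ∧ has derived 1 y = true ∧
    has derived 3 y = true ∧ has derived 9 y = true := by decide +kernel

/-- Four points generate the 81 points, with the conjugation by each generator given by the model. -/
theorem exists_model (hself : ∀ x : α, T x x = x) (hsymm : ∀ x y, T x y = T y x)
    (hinv : ∀ x y, T x (T x y) = y) (hdist : ∀ x y z, T x (T y z) = T (T x y) (T x z)) (a b c d : α) :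
    ∃ f : ℕ → α, f 0 = a ∧ f 1 = b ∧ f 3 = c ∧ f 9 = d ∧ ∀ y : Fin 81,
      T a (f y) = f (rfl81 0 y) ∧ T b (f y) = f (rfl81 1 y) ∧
      T c (f y) = f (rfl81 3 y) ∧ T d (f y) = f (rfl81 9 y) := by
  obtain ⟨f, hf, htree⟩ := tree_exists T tree _
    (fun k => if k = 0 then a else if k = 1 then b else if k = 3 then c else d) tree_ok
  have ha : f 0 = a := by rw [hf 0 (by decide)]; rfl
  have hb : f 1 = b := by rw [hf 1 (by decide)]; rfl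
  have hc : f 3 = c := by rw [hf 3 (by decide)]; rfl
  have hd : f 9 = d := by rw [hf 9 (by decide)]; rfl
  obtain ⟨K, hK⟩ := Option.isSome_iff_exists.1 run_ok
  have hs : Sound T f derived := by
    rw [derived, hK]
    exact run_sound hself hsymm hinv hdist htree derivation 0 K hK
      (fun p q _ h => by simp [has] at h)
  refine ⟨f, ha, hb, hc, hd, fun y => ?_⟩
  obtain ⟨r0, r1, r3, r9⟩ := derived_rows y
  refine ⟨?_, ?_, ?_, ?_⟩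
  · rw [← ha]; exact hs 0 y (by omega) r0
  · rw [← hb]; exact hs 1 y (by omega) r1
  · rw [← hc]; exact hs 3 y (by omega) r3
  · rw [← hd]; exact hs 9 y (by omega) r9

end Semantics

end Cfsg.Agent.FischerSpace.FourPoints
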