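import Mathlib
import Cfsg.Prelude.Def_FischerSpaces

/-!
# Line systems with three-point lines: generated planes and the maps t(x)
-/

set_option autoImplicit false

namespace Cfsg.Agent.FischerSpace

open Cfsg.LineSystem

variable {X M : Type*} {L : Set (Set X)} {model : Set (Set M)}

theorem subset_span (S : Set X) : S ⊆ span L S :=
  Set.subset_sInter fun _ h => h.1

theorem span_minimal {S T : Set X} (hST : S ⊆ T) (hT : IsSubspace L T) : span L S ⊆ T :=
  Set.sInter_subset_of_mem ⟨hST, hT⟩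

theorem isSubspace_span (S : Set X) : IsSubspace L (span L S) := by
  intro l hl x hx y hy hxy hxl hyl
  exact Set.subset_sInter fun T hT =>
    hT.2 l hl x (Set.sInter_subset_of_mem hT hx) y (Set.sInter_subset_of_mem hT hy) hxy hxl hyl

/-- An injective map of a line system whose image is a closed plane containing `S` and contained in every
subspace containing `S` identifies the subspace generated by `S` with that line system. -/
theorem isomorphic_span (hL : IsPartialLinear L) (f : M → X) (hf : Function.Injective f) {S : Set X}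
    (hS : S ⊆ Set.range f) (hline : ∀ s ∈ model, f '' s ∈ L)
    (hcol : ∀ u v : M, Collinear L (f u) (f v) → ∃ s ∈ model, u ∈ s ∧ v ∈ s)
    (htwo : ∀ l ∈ L, ∃ x ∈ l, ∃ y ∈ l, x ≠ y)
    (hgen : ∀ T, S ⊆ T → IsSubspace L T → ∀ u, f u ∈ T) :
    Isomorphic (restrict L (span L S)) model := by
  have hsub : IsSubspace L (Set.range f) := by
    rintro l hl _ ⟨u, rfl⟩ _ ⟨v, rfl⟩ huv hul hvl
    obtain ⟨s, hs, hus, hvs⟩ := hcol u v ⟨huv, l, hl, hul, hvl⟩
    rw [← hL _ (hline s hs) l hl _ _ huv ⟨u, hus, rfl⟩ ⟨v, hvs, rfl⟩ hul hvl]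
    exact Set.image_subset_range _ _
  have hspan : span L S = Set.range f := by
    refine subset_antisymm (span_minimal hS hsub) ?_
    rintro _ ⟨u, rfl⟩
    exact hgen _ (subset_span S) (isSubspace_span S) u
  rw [hspan]
  refine ⟨(Equiv.ofInjective f hf).symm, fun m => ?_⟩
  have key : (Equiv.ofInjective f hf).symm '' m = (fun u => (⟨f u, u, rfl⟩ : Set.range f)) ⁻¹' m := by
    rw [Equiv.image_eq_preimage_symm]
    rfl
  rw [key]
  constructor
  · rintro ⟨l, hl, hlS, rfl⟩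
    obtain ⟨x, hx, y, hy, hxy⟩ := htwo l hl
    obtain ⟨u, rfl⟩ := hlS hx
    obtain ⟨v, rfl⟩ := hlS hy
    obtain ⟨s, hs, hus, hvs⟩ := hcol u v ⟨hxy, l, hl, hx, hy⟩
    have hls := hL _ (hline s hs) l hl _ _ hxy ⟨u, hus, rfl⟩ ⟨v, hvs, rfl⟩ hx hy
    have hs' : f ⁻¹' l = s := by rw [← hls, Set.preimage_image_eq _ hf]
    show (f ⁻¹' l) ∈ model
    rwa [hs']
  · intro hm
    refine ⟨f '' ((fun u => (⟨f u, u, rfl⟩ : Set.range f)) ⁻¹' m), hline _ hm,
      Set.image_subset_range _ _, ?_⟩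
    ext ⟨x, u, rfl⟩
    exact ⟨fun h => ⟨u, h, rfl⟩, fun ⟨v, hv, hvu⟩ => by cases hf hvu; exact hv⟩

theorem three_of_ncard {l : Set X} (hl : l.ncard = 3) {x : X} (hx : x ∈ l) :
    ∃ y z, x ≠ y ∧ x ≠ z ∧ y ≠ z ∧ l = {x, y, z} := by
  obtain ⟨a, b, c, hab, hac, hbc, rfl⟩ := Set.ncard_eq_three.1 hl
  rcases hx with rfl | rfl | rfl
  · exact ⟨b, c, hab, hac, hbc, rfl⟩
  · exact ⟨a, c, hab.symm, hbc, hac, Set.insert_comm _ _ _⟩
  · refine ⟨a, b, hac.symm, hbc.symm, hab, ?_⟩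
    rw [Set.pair_comm b x, Set.insert_comm]

theorem two_of_ncard {l : Set X} (hl : l.ncard = 3) : ∃ x ∈ l, ∃ y ∈ l, x ≠ y := by
  obtain ⟨a, b, c, hab, -, -, rfl⟩ := Set.ncard_eq_three.1 hl
  exact ⟨a, by simp, b, by simp, hab⟩

/-- The third point on a line through two given points. -/
theorem exists_third {l : Set X} (hl : l.ncard = 3) {x y : X} (hx : x ∈ l) (hy : y ∈ l) (hxy : x ≠ y) :
    ∃ z, z ≠ x ∧ z ≠ y ∧ l = {x, y, z} := by
  obtain ⟨a, b, hxa, hxb, hab, rfl⟩ := three_of_ncard hl hx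
  rcases hy with rfl | rfl | rfl
  · exact absurd rfl hxy
  · exact ⟨b, hxb.symm, hab.symm, rfl⟩
  · exact ⟨a, hxa.symm, hab, by rw [Set.pair_comm]⟩

theorem lineMap_of_line (hL : IsPartialLinear L) {x y z : X} (hxy : x ≠ y) (hzx : z ≠ x) (hzy : z ≠ y)
    (h : ({x, y, z} : Set X) ∈ L) : lineMap L x y = z := by
  classical
  have hex : ∃ w : X, w ≠ x ∧ w ≠ y ∧ x ≠ y ∧ ({x, y, w} : Set X) ∈ L := ⟨z, hzx, hzy, hxy, h⟩
  obtain ⟨h1, h2, -, h3⟩ := hex.choose_spec
  have : hex.choose ∈ ({x, y, z} : Set X) := by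
    rw [← hL _ h3 _ h x y hxy (by simp) (by simp) (by simp) (by simp)]
    simp
  rw [lineMap, dif_pos hex]
  rcases this with e | e | e
  · exact absurd e h1
  · exact absurd e h2
  · exact e

theorem lineMap_of_not_collinear {x y : X} (h : ¬ Collinear L x y) : lineMap L x y = y := by
  classical
  rw [lineMap, dif_neg]
  rintro ⟨z, -, -, hxy, hl⟩
  exact h ⟨hxy, _, hl, by simp, by simp⟩

theorem lineMap_self (x : X) : lineMap L x x = x :=
  lineMap_of_not_collinear fun h => h.1 rfl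

end Cfsg.Agent.FischerSpace
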