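import Cfsg.Agent.Lib.FischerSpace.Sym4
import Cfsg.Agent.Lib.FischerSpace.LineSpace

/-!
# The line system of a set of 3-transpositions is a Fischer space
-/

set_option autoImplicit false

namespace Cfsg.Agent.FischerSpace

open Cfsg.LineSystem

variable {G : Type*} [Group G] {D : Set G}

/-- The third point of the line through `x` and `y`. -/
def third (hD : Cfsg.IsThreeTranspositionSet D) (hc : Invariant D) (x y : D) : D :=
  ⟨(x : G) * y * x, conj_mem hD hc x.2 y.2⟩

theorem third_coe (hD : Cfsg.IsThreeTranspositionSet D) (hc : Invariant D) (x y : D) :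
    (third hD hc x y : G) = (x : G) * y * x := rfl

variable (hD : Cfsg.IsThreeTranspositionSet D) (hc : Invariant D)

include hD hc

theorem line_eq {x y : D} (h : ¬ Commute (x : G) y) :
    {z : D | (z : G) = x ∨ (z : G) = y ∨ (z : G) = (y : G) * (x : G) * (y : G)⁻¹} =
      {x, y, third hD hc x y} := by
  ext z
  simp only [Set.mem_setOf_eq, Set.mem_insert_iff, Set.mem_singleton_iff, Subtype.ext_iff, third_coe,
    inv_eq hD y.2, braid hD x.2 y.2 h]

theorem mem_lines {l : Set D} :
    l ∈ Cfsg.threeTranspositionLines D ↔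
      ∃ x y : D, ¬ Commute (x : G) y ∧ l = {x, y, third hD hc x y} := by
  constructor
  · rintro ⟨x, y, h, rfl⟩
    exact ⟨x, y, h, line_eq hD hc h⟩
  · rintro ⟨x, y, h, rfl⟩
    exact ⟨x, y, h, (line_eq hD hc h).symm⟩

theorem third_props {x y : D} (h : ¬ Commute (x : G) y) :
    third hD hc x y ≠ x ∧ third hD hc x y ≠ y ∧ x ≠ y ∧ ¬ Commute (x : G) (third hD hc x y) ∧
      ¬ Commute (y : G) (third hD hc x y) := by
  obtain ⟨h1, h2⟩ := not_commute_third hD x.2 y.2 h
  refine ⟨fun e => h1 ?_, fun e => h2 ?_, fun e => h (e ▸ Commute.refl _), h1, h2⟩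
  · rw [← third_coe hD hc, e]
  · rw [← third_coe hD hc, e]

theorem third_comm {x y : D} (h : ¬ Commute (x : G) y) : third hD hc x y = third hD hc y x :=
  Subtype.ext (braid hD x.2 y.2 h)

theorem third_involutive (x y : D) : third hD hc x (third hD hc x y) = y :=
  Subtype.ext (conj_conj_self hD x.2 _)

theorem line_swap {x y : D} (h : ¬ Commute (x : G) y) :
    ({x, y, third hD hc x y} : Set D) = {y, x, third hD hc y x} := by
  rw [third_comm hD hc h, Set.insert_comm]

theorem line_rotate {x y : D} (h : ¬ Commute (x : G) y) :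
    ({x, y, third hD hc x y} : Set D) = {x, third hD hc x y, third hD hc x (third hD hc x y)} := by
  rw [third_involutive, Set.pair_comm]

/-- Two different points of a line do not commute and determine it. -/
theorem line_unique {x y u v : D} (h : ¬ Commute (x : G) y)
    (hu : u ∈ ({x, y, third hD hc x y} : Set D)) (hv : v ∈ ({x, y, third hD hc x y} : Set D))
    (huv : u ≠ v) :
    ¬ Commute (u : G) v ∧ ({x, y, third hD hc x y} : Set D) = {u, v, third hD hc u v} := by
  obtain ⟨-, -, -, h1, h2⟩ := third_props hD hc h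
  have hyx : ¬ Commute (y : G) x := fun e => h e.symm
  have exy := line_swap hD hc h
  have ext := line_rotate hD hc h
  have eyt := (exy.trans (line_rotate hD hc hyx))
  rw [← third_comm hD hc h] at eyt
  rcases hu with rfl | rfl | rfl <;> rcases hv with rfl | rfl | rfl <;>
    first
    | exact absurd rfl huv
    | exact ⟨h, rfl⟩
    | exact ⟨hyx, exy⟩
    | exact ⟨h1, ext⟩
    | exact ⟨fun e => h1 e.symm, ext.trans (line_swap hD hc h1)⟩
    | exact ⟨h2, eyt⟩
    | exact ⟨fun e => h2 e.symm, eyt.trans (line_swap hD hc h2)⟩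

theorem lines_partialLinear : IsPartialLinear (Cfsg.threeTranspositionLines D) := by
  intro l hl m hm u v huv hul hvl hum hvm
  obtain ⟨x, y, h, rfl⟩ := (mem_lines hD hc).1 hl
  obtain ⟨x', y', h', rfl⟩ := (mem_lines hD hc).1 hm
  rw [(line_unique hD hc h hul hvl huv).2, (line_unique hD hc h' hum hvm huv).2]

theorem lines_ncard {l : Set D} (hl : l ∈ Cfsg.threeTranspositionLines D) : l.ncard = 3 := by
  obtain ⟨x, y, h, rfl⟩ := (mem_lines hD hc).1 hl
  obtain ⟨h1, h2, h3, -⟩ := third_props hD hc h
  exact Set.ncard_eq_three.2 ⟨x, y, _, h3, h1.symm, h2.symm, rfl⟩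

theorem collinear_iff {x y : D} :
    Collinear (Cfsg.threeTranspositionLines D) x y ↔ ¬ Commute (x : G) y := by
  constructor
  · rintro ⟨hne, l, hl, hx, hy⟩
    obtain ⟨a, b, h, rfl⟩ := (mem_lines hD hc).1 hl
    exact (line_unique hD hc h hx hy hne).1
  · intro h
    exact ⟨(third_props hD hc h).2.2.1, _, (mem_lines hD hc).2 ⟨x, y, h, rfl⟩, by simp, by simp⟩

theorem subspace_third {T : Set D} (hT : IsSubspace (Cfsg.threeTranspositionLines D) T) {x y : D}
    (hx : x ∈ T) (hy : y ∈ T) (h : ¬ Commute (x : G) y) : third hD hc x y ∈ T :=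
  hT _ ((mem_lines hD hc).2 ⟨x, y, h, rfl⟩) x hx y hy (third_props hD hc h).2.2.1 (by simp) (by simp)
    (by simp)

omit hD hc in
/-- Point reflection in `u` of the affine plane of order three. -/
theorem refl_comp : ∀ w s v : Fin 2 → ZMod 3,
    -(-w - s) - v = -w - (-s - (-w - v)) := by
  intro w s v
  funext i
  simp only [Pi.sub_apply, Pi.neg_apply]
  generalize w i = a
  generalize s i = b
  generalize v i = c
  revert a b c
  decide

omit hD hc in
theorem refl_self (u : Fin 2 → ZMod 3) : -u - u = u := by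
  funext i
  simp only [Pi.sub_apply, Pi.neg_apply]
  generalize u i = a
  revert a
  decide

/-- The points of the plane of three pairwise non-commuting members with `a b a` not commuting with `c`
as a function on the affine plane of order three. -/
def affPt (a b c : D) (v : Fin 2 → ZMod 3) : D :=
  match v 0, v 1 with
  | 0, 0 => a
  | 1, 0 => b
  | 2, 0 => third hD hc a b
  | 0, 1 => c
  | 0, 2 => third hD hc a c
  | 2, 2 => third hD hc b c
  | 1, 1 => third hD hc a (third hD hc b c)
  | 2, 1 => third hD hc b (third hD hc a c)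
  | 1, 2 => third hD hc a (third hD hc b (third hD hc a c))

/-- The local plane when all four pairs across two lines through a point do not commute. -/
theorem affine_case {a b c : D} (hab : ¬ Commute (a : G) b) (hac : ¬ Commute (a : G) c)
    (hbc : ¬ Commute (b : G) c) (hb'c : ¬ Commute ((third hD hc a b : D) : G) c)
    (hlm : ({a, b, third hD hc a b} : Set D) ≠ {a, c, third hD hc a c}) :
    Isomorphic (restrict (Cfsg.threeTranspositionLines D)
      (span (Cfsg.threeTranspositionLines D)
        ({a, b, third hD hc a b} ∪ {a, c, third hD hc a c}))) Cfsg.affinePlaneThree := by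
  set p : (Fin 2 → ZMod 3) → D := affPt hD hc a b c with hp
  -- braid relations
  have eab : (b : G) * a * b = a * b * a := (braid hD a.2 b.2 hab).symm
  have eac : (c : G) * a * c = a * c * a := (braid hD a.2 c.2 hac).symm
  have ebc : (c : G) * b * c = b * c * b := (braid hD b.2 c.2 hbc).symm
  have eb'c : (c : G) * (a * b * a) * c = (a * b * a) * c * (a * b * a) :=
    (braid hD (third hD hc a b).2 c.2 hb'c).symm
  -- conjugation by a, b, c acts as the point reflection
  set T := third hD hc with hTdef
  have inv := third_involutive hD hc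
  have self : ∀ x : D, T x x = x := fun x => Subtype.ext (by
    rw [hTdef, third_coe, mul_self hD x.2, one_mul])
  have tab : T b a = T a b := (third_comm hD hc hab).symm
  have tac : T c a = T a c := (third_comm hD hc hac).symm
  have tbc : T c b = T b c := (third_comm hD hc hbc).symm
  have kb : T b (T a (T b c)) = T a (T b (T a c)) := by
    apply Subtype.ext
    simp only [hTdef, third_coe]
    calc (b : G) * (a * (b * c * b) * a) * b = (b * a * b) * c * (b * a * b) := by
          simp only [mul_assoc]
      _ = a * (b * (a * c * a) * b) * a := by rw [eab]; simp only [mul_assoc]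
  have kc1 : T c (T a b) = T a (T b (T a c)) := by
    apply Subtype.ext
    simp only [hTdef, third_coe, eb'c]
    simp only [mul_assoc]
  have kc2 : T c (T a (T b c)) = T b (T a c) := by
    apply Subtype.ext
    have k1 := congrArg Subtype.val kc1
    simp only [hTdef, third_coe] at k1 ⊢
    calc (c : G) * (a * (b * c * b) * a) * c = c * (a * (c * b * c) * a) * c := by rw [ebc]
      _ = (c * a * c) * b * (c * a * c) := by simp only [mul_assoc]
      _ = a * (c * (a * b * a) * c) * a := by rw [eac]; simp only [mul_assoc]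
      _ = b * (a * c * a) * b := by rw [k1, conj_conj_self hD a.2]
  have all9 : ∀ v : Fin 2 → ZMod 3, ∃ i j : ZMod 3, v = ![i, j] := fun v =>
    ⟨v 0, v 1, by funext i; fin_cases i <;> rfl⟩
  have Ra : ∀ v, T a (p v) = p (-0 - v) := by
    intro v
    obtain ⟨i, j, rfl⟩ := all9 v
    fin_cases i <;> fin_cases j <;>
      first | exact self a | exact inv a _ | rfl
  have Rb : ∀ v, T b (p v) = p (-![1, 0] - v) := by
    intro v
    obtain ⟨i, j, rfl⟩ := all9 v
    fin_cases i <;> fin_cases j <;>
      first
      | exact self b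
      | exact tab
      | (refine Eq.trans ?_ (inv b a); exact congrArg (T b) tab.symm)
      | exact kb
      | (refine Eq.trans (congrArg (T b) kb.symm) ?_; exact inv b _)
      | exact inv b _
      | rfl
  have Rc : ∀ v, T c (p v) = p (-![0, 1] - v) := by
    intro v
    obtain ⟨i, j, rfl⟩ := all9 v
    fin_cases i <;> fin_cases j <;>
      first
      | exact self c
      | exact tac
      | exact tbc
      | exact kc1
      | exact kc2
      | (refine Eq.trans (congrArg (T c) tac.symm) ?_; exact inv c _)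
      | (refine Eq.trans (congrArg (T c) tbc.symm) ?_; exact inv c _)
      | (refine Eq.trans (congrArg (T c) kc1.symm) ?_; exact inv c _)
      | (refine Eq.trans (congrArg (T c) kc2.symm) ?_; exact inv c _)
  -- hence every conjugation in the plane is a point reflection
  have step : ∀ w s : Fin 2 → ZMod 3, (∀ v, third hD hc (p w) (p v) = p (-w - v)) →
      (∀ v, third hD hc (p s) (p v) = p (-s - v)) →
      ∀ v, third hD hc (p (-w - s)) (p v) = p (-(-w - s) - v) := by
    intro w s hw hs v
    rw [refl_comp, ← hw (-s - (-w - v)), ← hs (-w - v), ← hw v, ← hw s]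
    apply Subtype.ext
    simp only [third_coe, mul_assoc]
  have R0 : ∀ v, third hD hc (p 0) (p v) = p (-0 - v) := Ra
  have R10 : ∀ v, third hD hc (p ![1, 0]) (p v) = p (-![1, 0] - v) := Rb
  have R01 : ∀ v, third hD hc (p ![0, 1]) (p v) = p (-![0, 1] - v) := Rc
  have R20 := step _ _ R0 R10
  have R02 := step _ _ R0 R01
  have R22 := step _ _ R10 R01
  have R11 := step _ _ R0 R22
  have R21 := step _ _ R10 R02
  have R12 := step _ _ R0 R21
  have R : ∀ u v, third hD hc (p u) (p v) = p (-u - v) := by
    intro u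
    obtain ⟨i, j, rfl⟩ := all9 u
    fin_cases i <;> fin_cases j <;>
      first
      | (convert R0 using 0; congr! <;> decide)
      | (convert R10 using 0; congr! <;> decide)
      | (convert R01 using 0; congr! <;> decide)
      | (convert R20 using 0; congr! <;> decide)
      | (convert R02 using 0; congr! <;> decide)
      | (convert R22 using 0; congr! <;> decide)
      | (convert R11 using 0; congr! <;> decide)
      | (convert R21 using 0; congr! <;> decide)
      | (convert R12 using 0; congr! <;> decide)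
  -- injectivity
  have hinj : Function.Injective p := by
    intro u v huv
    have shift : ∀ w, p (u + w) = p (v + w) := by
      intro w
      have h1 : ∀ z, p (z + w) = third hD hc (p (-w)) (third hD hc (p 0) (p z)) := by
        intro z
        rw [R 0 z, R]
        congr 1
        funext i
        simp only [Pi.add_apply, Pi.sub_apply, Pi.neg_apply, Pi.zero_apply]
        generalize z i = a'
        generalize w i = b'
        revert a' b'
        decide
      rw [h1 u, h1 v, huv]
    have h0 : p 0 = p (v - u) := by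
      have := shift (-u)
      rwa [add_neg_cancel, ← sub_eq_add_neg] at this
    by_contra hne
    have hd : v - u ≠ 0 := fun h => hne (sub_eq_zero.1 h).symm
    have hneg : p (-(v - u)) = p 0 := by
      have := R 0 (v - u)
      rw [← h0, R 0 0] at this
      simpa using this.symm
    -- representatives of the four directions
    have hdir : ∀ d : Fin 2 → ZMod 3, d ≠ 0 → d = ![1, 0] ∨ d = ![0, 1] ∨ d = ![1, 1] ∨ d = ![2, 1] ∨
        -d = ![1, 0] ∨ -d = ![0, 1] ∨ -d = ![1, 1] ∨ -d = ![2, 1] := by decide
    have n1 : p ![1, 0] ≠ p 0 := fun e => hab (by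
      have e' : b = a := e
      rw [e'])
    have n2 : p ![0, 1] ≠ p 0 := fun e => hac (by
      have e' : c = a := e
      rw [e'])
    have n3 : p ![1, 1] ≠ p 0 := by
      intro e
      apply hlm
      have e' : third hD hc a (third hD hc b c) = a := e
      have e'' : third hD hc b c = a := by
        rw [← third_involutive hD hc a (third hD hc b c), e']
        exact Subtype.ext (by rw [third_coe, mul_self hD a.2, one_mul])
      have hc' : c = third hD hc a b := by
        rw [third_comm hD hc hab, ← e'', third_involutive]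
      rw [hc']
      exact line_rotate hD hc hab
    have n4 : p ![2, 1] ≠ p 0 := by
      intro e
      apply hlm
      have e' : third hD hc b (third hD hc a c) = a := e
      have hc' : third hD hc a c = third hD hc a b := by
        rw [third_comm hD hc hab, ← third_involutive hD hc b (third hD hc a c), e']
      have hcb : c = b := by
        rw [← third_involutive hD hc a c, hc', third_involutive]
      rw [hcb]
    rcases hdir _ hd with e | e | e | e | e | e | e | e
    · exact n1 (by rw [← e, ← h0])
    · exact n2 (by rw [← e, ← h0])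
    · exact n3 (by rw [← e, ← h0])
    · exact n4 (by rw [← e, ← h0])
    · exact n1 (by rw [← e, hneg])
    · exact n2 (by rw [← e, hneg])
    · exact n3 (by rw [← e, hneg])
    · exact n4 (by rw [← e, hneg])
  have hnc : ∀ u v, u ≠ v → ¬ Commute (p u : G) (p v) := by
    intro u v huv h
    apply huv
    have hfix : third hD hc (p u) (p v) = p v := Subtype.ext (conj_eq_of_commute hD (p u).2 h)
    rw [R] at hfix
    have := hinj hfix
    funext i
    have hi := congrFun this i
    simp only [Pi.sub_apply, Pi.neg_apply] at hi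
    revert hi
    generalize u i = a'
    generalize v i = b'
    revert a' b'
    decide
  refine isomorphic_span (lines_partialLinear hD hc) p hinj ?_ ?_ ?_
    (fun l hl => two_of_ncard (lines_ncard hD hc hl)) ?_
  · rintro x ((rfl | rfl | rfl) | (rfl | rfl | rfl))
    · exact ⟨![0, 0], rfl⟩
    · exact ⟨![1, 0], rfl⟩
    · exact ⟨![2, 0], rfl⟩
    · exact ⟨![0, 0], rfl⟩
    · exact ⟨![0, 1], rfl⟩
    · exact ⟨![0, 2], rfl⟩
  · rintro s ⟨v, w, hw, rfl⟩
    refine (mem_lines hD hc).2 ⟨p v, p (v + w), hnc _ _ (fun e => hw (by simpa using e.symm)), ?_⟩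
    rw [R]
    have hm : -v - (v + w) = v + (2 : ZMod 3) • w := by
      funext i
      simp only [Pi.sub_apply, Pi.neg_apply, Pi.add_apply, Pi.smul_apply, smul_eq_mul]
      generalize v i = a'
      generalize w i = b'
      revert a' b'
      decide
    rw [hm]
    ext x
    simp only [Set.mem_image, Set.mem_setOf_eq, Set.mem_insert_iff, Set.mem_singleton_iff]
    constructor
    · rintro ⟨_, ⟨k, rfl⟩, rfl⟩
      rcases (by decide : ∀ k : ZMod 3, k = 0 ∨ k = 1 ∨ k = 2) k with rfl | rfl | rfl <;> simp
    · rintro (rfl | rfl | rfl)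
      · exact ⟨v, ⟨0, by simp⟩, rfl⟩
      · exact ⟨_, ⟨1, by simp⟩, rfl⟩
      · exact ⟨_, ⟨2, rfl⟩, rfl⟩
  · intro u v huv
    exact ⟨_, ⟨u, v - u, sub_ne_zero.2 fun e => huv.1 (by rw [e]), rfl⟩, ⟨0, by simp⟩, ⟨1, by simp⟩⟩
  · intro T hST hT u
    have t0 : p 0 ∈ T := hST (Or.inl (Or.inl rfl))
    have t1 : p ![1, 0] ∈ T := hST (Or.inl (Or.inr (Or.inl rfl)))
    have t2 : p ![0, 1] ∈ T := hST (Or.inr (Or.inr (Or.inl rfl)))
    have close : ∀ x y, p x ∈ T → p y ∈ T → p (-x - y) ∈ T := by
      intro x y hx hy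
      by_cases e : x = y
      · subst e; rwa [refl_self]
      · rw [← R]; exact subspace_third hD hc hT hx hy (hnc _ _ e)
    have t3 := close _ _ t0 t1
    have t4 := close _ _ t0 t2
    have t5 := close _ _ t1 t2
    have t6 := close _ _ t0 t5
    have t7 := close _ _ t1 t4
    have t8 := close _ _ t0 t7
    obtain ⟨i, j, rfl⟩ := all9 u
    fin_cases i <;> fin_cases j <;>
      first
      | (convert t0 using 3; decide)
      | exact t1
      | exact t2
      | (convert t3 using 3; decide)
      | (convert t4 using 3; decide)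
      | (convert t5 using 3; decide)
      | (convert t6 using 3; decide)
      | (convert t7 using 3; decide)
      | (convert t8 using 3; decide)

/-- The local plane when some pair across two lines through a point commutes. -/
theorem dual_case {a b c : D} (hbc : b ≠ c) (hcomm : Commute (b : G) c) (hab : ¬ Commute (a : G) b)
    (hac : ¬ Commute (a : G) c) :
    Isomorphic (restrict (Cfsg.threeTranspositionLines D)
      (span (Cfsg.threeTranspositionLines D)
        ({a, b, third hD hc a b} ∪ {a, c, third hD hc a c}))) Cfsg.dualAffinePlaneTwo := by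
  obtain ⟨φ, hφ, h01, h12, h23⟩ :=
    exists_sym4 hD b.2 a.2 c.2 (fun e => hbc (Subtype.ext e)) hcomm (fun h => hab h.symm) hac
  let tr : Cfsg.DualAffinePoint → Equiv.Perm (Fin 4) := fun s =>
    if h : ∃ i j, i < j ∧ s.1 = {i, j} then Equiv.swap h.choose h.choose_spec.choose else 1
  have trspec : ∀ s : Cfsg.DualAffinePoint, ∃ i j, i ≠ j ∧ tr s = Equiv.swap i j ∧ s.1 = {i, j} := by
    intro s
    have h : ∃ i j, i < j ∧ s.1 = {i, j} := by
      revert s
      decide
    exact ⟨_, _, ne_of_lt h.choose_spec.choose_spec.1, by simp only [tr, dif_pos h],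
      h.choose_spec.choose_spec.2⟩
  have genD : ∀ i j, i ≠ j → φ (Equiv.swap i j) ∈ D := by
    intro i j hij
    obtain ⟨ρ, hρ⟩ := isConj_iff.1
      (Equiv.Perm.isConj_swap (show (0 : Fin 4) ≠ 1 by decide) hij)
    rw [← hρ, map_mul, map_mul, map_inv, h01]
    exact hc _ _ b.2
  let f : Cfsg.DualAffinePoint → D := fun s => ⟨φ (tr s), by
    obtain ⟨i, j, hij, e, -⟩ := trspec s
    rw [e]
    exact genD i j hij⟩
  have fval : ∀ s i j, i ≠ j → s.1 = ({i, j} : Finset (Fin 4)) → (f s : G) = φ (Equiv.swap i j) := by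
    intro s i j hij hs
    obtain ⟨k, l, hkl, e, hs'⟩ := trspec s
    show φ (tr s) = _
    rw [e]
    congr 1
    have key : ∀ i j k l : Fin 4, i ≠ j → k ≠ l → ({i, j} : Finset (Fin 4)) = {k, l} →
        Equiv.swap k l = Equiv.swap i j := by decide
    exact key i j k l hij hkl (hs.symm.trans hs')
  let pt : (i j : Fin 4) → i ≠ j → Cfsg.DualAffinePoint := fun i j h => ⟨{i, j}, Finset.card_pair h⟩
  have ptv : ∀ i j (h : i ≠ j), (f (pt i j h) : G) = φ (Equiv.swap i j) := fun i j h => fval _ i j h rfl
  have hfinj : Function.Injective f := by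
    intro s t hst
    obtain ⟨i, j, hij, e, hs⟩ := trspec s
    obtain ⟨k, l, hkl, e', ht⟩ := trspec t
    have he : Equiv.swap i j = Equiv.swap k l := by
      apply hφ
      rw [← fval s i j hij hs, ← fval t k l hkl ht, hst]
    apply Subtype.ext
    rw [hs, ht]
    have key : ∀ i j k l : Fin 4, i ≠ j → k ≠ l → Equiv.swap i j = Equiv.swap k l →
        ({i, j} : Finset (Fin 4)) = {k, l} := by decide
    exact key i j k l hij hkl he
  have tri : ∀ i j k : Fin 4, i ≠ j → j ≠ k → i ≠ k →
      ¬ Commute (φ (Equiv.swap i j)) (φ (Equiv.swap j k)) ∧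
        φ (Equiv.swap i j) * φ (Equiv.swap j k) * φ (Equiv.swap i j) = φ (Equiv.swap i k) := by
    intro i j k h1 h2 h3
    have key : ∀ i j k : Fin 4, i ≠ j → j ≠ k → i ≠ k →
        Equiv.swap i j * Equiv.swap j k ≠ Equiv.swap j k * Equiv.swap i j ∧
          Equiv.swap i j * Equiv.swap j k * Equiv.swap i j = Equiv.swap i k := by decide
    refine ⟨fun h => (key i j k h1 h2 h3).1 (hφ (by simpa only [map_mul] using h.eq)), ?_⟩
    rw [← map_mul, ← map_mul, (key i j k h1 h2 h3).2]
  have n01 : (0 : Fin 4) ≠ 1 := by decide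
  have n02 : (0 : Fin 4) ≠ 2 := by decide
  have n03 : (0 : Fin 4) ≠ 3 := by decide
  have n12 : (1 : Fin 4) ≠ 2 := by decide
  have n13 : (1 : Fin 4) ≠ 3 := by decide
  have n23 : (2 : Fin 4) ≠ 3 := by decide
  refine isomorphic_span (lines_partialLinear hD hc) f hfinj ?_ ?_ ?_
    (fun l hl => two_of_ncard (lines_ncard hD hc hl)) ?_
  · rintro x ((rfl | rfl | rfl) | (rfl | rfl | rfl))
    · exact ⟨pt 1 2 n12, Subtype.ext (by rw [ptv 1 2 n12, h12])⟩
    · exact ⟨pt 0 1 n01, Subtype.ext (by rw [ptv 0 1 n01, h01])⟩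
    · refine ⟨pt 0 2 n02, Subtype.ext ?_⟩
      rw [ptv 0 2 n02, third_coe, ← h12, ← h01, ← map_mul, ← map_mul]
      congr 1
      decide
    · exact ⟨pt 1 2 n12, Subtype.ext (by rw [ptv 1 2 n12, h12])⟩
    · exact ⟨pt 2 3 n23, Subtype.ext (by rw [ptv 2 3 n23, h23])⟩
    · refine ⟨pt 1 3 n13, Subtype.ext ?_⟩
      rw [ptv 1 3 n13, third_coe, ← h12, ← h23, ← map_mul, ← map_mul]
      congr 1
      decide
  · rintro s ⟨m, rfl⟩
    obtain ⟨i, j, k, h1, h2, h3, hall⟩ :
        ∃ i j k : Fin 4, i ≠ j ∧ j ≠ k ∧ i ≠ k ∧ ∀ s : Cfsg.DualAffinePoint,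
          m ∉ s.1 ↔ (s.1 = {i, j} ∨ s.1 = {j, k} ∨ s.1 = {i, k}) := by
      revert m
      decide
    refine (mem_lines hD hc).2 ⟨f (pt i j h1), f (pt j k h2), ?_, ?_⟩
    · rw [ptv i j h1, ptv j k h2]; exact (tri i j k h1 h2 h3).1
    · have hth : third hD hc (f (pt i j h1)) (f (pt j k h2)) = f (pt i k h3) := by
        apply Subtype.ext
        rw [third_coe, ptv i j h1, ptv j k h2, ptv i k h3, (tri i j k h1 h2 h3).2]
      rw [hth]
      ext x
      simp only [Set.mem_image, Set.mem_setOf_eq, hall, Set.mem_insert_iff, Set.mem_singleton_iff]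
      constructor
      · rintro ⟨s, hs | hs | hs, rfl⟩
        · exact Or.inl (congrArg f (Subtype.ext hs))
        · exact Or.inr (Or.inl (congrArg f (Subtype.ext hs)))
        · exact Or.inr (Or.inr (congrArg f (Subtype.ext hs)))
      · rintro (rfl | rfl | rfl)
        · exact ⟨_, Or.inl rfl, rfl⟩
        · exact ⟨_, Or.inr (Or.inl rfl), rfl⟩
        · exact ⟨_, Or.inr (Or.inr rfl), rfl⟩
  · intro s t hst
    rw [collinear_iff hD hc] at hst
    obtain ⟨i, j, hij, -, hs⟩ := trspec s
    obtain ⟨k, l, hkl, -, ht⟩ := trspec t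
    rw [fval s i j hij hs, fval t k l hkl ht] at hst
    have key : ∀ i j k l : Fin 4, Equiv.swap i j * Equiv.swap k l = Equiv.swap k l * Equiv.swap i j ∨
        ∃ m : Fin 4, m ∉ ({i, j} : Finset (Fin 4)) ∧ m ∉ ({k, l} : Finset (Fin 4)) := by decide
    rcases key i j k l with h | ⟨m, h1, h2⟩
    · exact absurd (show Commute _ _ by
        rw [commute_iff_eq, ← map_mul, ← map_mul, h]) hst
    · exact ⟨_, ⟨m, rfl⟩, by simp [hs, h1] , by simp [ht, h2]⟩
  · intro T hST hT s
    have ta : a ∈ T := hST (Or.inl (Or.inl rfl))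
    have tb : b ∈ T := hST (Or.inl (Or.inr (Or.inl rfl)))
    have tc : c ∈ T := hST (Or.inr (Or.inr (Or.inl rfl)))
    have t01 : f (pt 0 1 n01) ∈ T := by
      convert tb; exact Subtype.ext (by rw [ptv 0 1 n01, h01])
    have t12 : f (pt 1 2 n12) ∈ T := by
      convert ta; exact Subtype.ext (by rw [ptv 1 2 n12, h12])
    have t23 : f (pt 2 3 n23) ∈ T := by
      convert tc; exact Subtype.ext (by rw [ptv 2 3 n23, h23])
    have close : ∀ i j k (h1 : i ≠ j) (h2 : j ≠ k) (h3 : i ≠ k),
        f (pt i j h1) ∈ T → f (pt j k h2) ∈ T → f (pt i k h3) ∈ T := by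
      intro i j k h1 h2 h3 hx hy
      have hth : third hD hc (f (pt i j h1)) (f (pt j k h2)) = f (pt i k h3) := by
        apply Subtype.ext
        rw [third_coe, ptv i j h1, ptv j k h2, ptv i k h3, (tri i j k h1 h2 h3).2]
      rw [← hth]
      refine subspace_third hD hc hT hx hy ?_
      rw [ptv i j h1, ptv j k h2]
      exact (tri i j k h1 h2 h3).1
    have t02 := close 0 1 2 n01 n12 n02 t01 t12
    have t13 := close 1 2 3 n12 n23 n13 t12 t23
    have t03 := close 0 2 3 n02 n23 n03 t02 t23
    have hs : ∀ s : Cfsg.DualAffinePoint, s.1 = {0, 1} ∨ s.1 = {1, 2} ∨ s.1 = {2, 3} ∨ s.1 = {0, 2} ∨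
        s.1 = {1, 3} ∨ s.1 = {0, 3} := by decide
    rcases hs s with e | e | e | e | e | e
    · exact (Subtype.ext e : s = pt 0 1 n01) ▸ t01
    · exact (Subtype.ext e : s = pt 1 2 n12) ▸ t12
    · exact (Subtype.ext e : s = pt 2 3 n23) ▸ t23
    · exact (Subtype.ext e : s = pt 0 2 n02) ▸ t02
    · exact (Subtype.ext e : s = pt 1 3 n13) ▸ t13
    · exact (Subtype.ext e : s = pt 0 3 n03) ▸ t03

/-- The lines of a conjugation-invariant set of 3-transpositions form a Fischer space. -/
theorem lines_fischerSpace : Cfsg.IsFischerSpace (Cfsg.threeTranspositionLines D) := by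
  refine ⟨lines_partialLinear hD hc, fun l hl => lines_ncard hD hc hl, ?_⟩
  intro l hl m hm hlm hne
  obtain ⟨a, hal, ham⟩ := hne
  obtain ⟨x, y, h, rfl⟩ := (mem_lines hD hc).1 hl
  obtain ⟨x', y', h', rfl⟩ := (mem_lines hD hc).1 hm
  obtain ⟨b, hb, hba⟩ : ∃ b ∈ ({x, y, third hD hc x y} : Set D), b ≠ a := by
    by_cases e : x = a
    · exact ⟨y, by simp, fun e' => (third_props hD hc h).2.2.1 (e.trans e'.symm)⟩
    · exact ⟨x, by simp, e⟩
  obtain ⟨c, hcm, hca⟩ : ∃ c ∈ ({x', y', third hD hc x' y'} : Set D), c ≠ a := by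
    by_cases e : x' = a
    · exact ⟨y', by simp, fun e' => (third_props hD hc h').2.2.1 (e.trans e'.symm)⟩
    · exact ⟨x', by simp, e⟩
  obtain ⟨hab, el⟩ := line_unique hD hc h hal hb hba.symm
  obtain ⟨hac, em⟩ := line_unique hD hc h' ham hcm hca.symm
  rw [el, em] at hlm ⊢
  by_cases hbc : Commute (b : G) c
  · refine Or.inl (dual_case hD hc (fun e => hlm ?_) hbc hab hac)
    rw [e]
  by_cases hb'c : Commute ((third hD hc a b : D) : G) c
  · have hab' := (third_props hD hc hab).2.2.2.1
    rw [line_rotate hD hc hab] at hlm ⊢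
    refine Or.inl (dual_case hD hc (fun e => hlm ?_) hb'c hab' hac)
    rw [e]
  · exact Or.inr (affine_case hD hc hab hac hbc hb'c hlm)

end Cfsg.Agent.FischerSpace
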