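import Cfsg.Agent.Lib.FischerSpace.LineSpace

/-!
# The involutions t(x) of a Fischer space
-/

set_option autoImplicit false

namespace Cfsg.Agent.FischerSpace

open Cfsg.LineSystem

variable {X : Type*} {L : Set (Set X)}

/-- What a three-point plane must provide: point reflections preserving lines. -/
structure HasReflections {M : Type*} (model : Set (Set M)) (R : M → M → M) : Prop where
  line_image : ∀ x, ∀ l ∈ model, R x '' l ∈ model
  of_line : ∀ x y z, x ≠ y → z ≠ x → z ≠ y → ({x, y, z} : Set M) ∈ model → R x y = z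
  of_not_collinear : ∀ x y, ¬ Collinear model x y → R x y = y

/-- Point reflection of the affine plane of order three. -/
def affRefl (x y : Fin 2 → ZMod 3) : Fin 2 → ZMod 3 := -x - y

theorem aff_scalar : ∀ a b : ZMod 3, -a - a = a ∧ a + (b - a) = b ∧ a + 2 * (b - a) = -a - b ∧
    a + (2 : ZMod 3) * b = a + -b := by decide

theorem aff_hasReflections : HasReflections Cfsg.affinePlaneThree affRefl := by
  have diag : ∀ x : Fin 2 → ZMod 3, affRefl x x = x := fun x => funext fun i => (aff_scalar _ 0).1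
  refine ⟨?_, ?_, ?_⟩
  · rintro x l ⟨v, w, hw, rfl⟩
    refine ⟨affRefl x v, -w, neg_ne_zero.2 hw, ?_⟩
    ext y
    simp only [Set.mem_image, Set.mem_setOf_eq, affRefl]
    constructor
    · rintro ⟨_, ⟨c, rfl⟩, rfl⟩
      exact ⟨c, by rw [smul_neg]; abel⟩
    · rintro ⟨c, rfl⟩
      exact ⟨_, ⟨c, rfl⟩, by rw [smul_neg]; abel⟩
  · rintro x y z hxy hzx hzy ⟨v, w, hw, h⟩
    have hm : ∀ u ∈ ({x, y, z} : Set (Fin 2 → ZMod 3)), ∃ c : ZMod 3, u = v + c • w := by
      rw [h]; exact fun u hu => hu
    obtain ⟨a, rfl⟩ := hm x (by simp)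
    obtain ⟨b, rfl⟩ := hm y (by simp)
    obtain ⟨c, rfl⟩ := hm z (by simp)
    have key : ∀ a b c : ZMod 3, a ≠ b → c ≠ a → c ≠ b → ∀ v w : ZMod 3,
        -(v + a * w) - (v + b * w) = v + c * w := by decide
    funext i
    simpa [affRefl] using key a b c (fun e => hxy (by rw [e])) (fun e => hzx (by rw [e]))
      (fun e => hzy (by rw [e])) (v i) (w i)
  · intro x y h
    have hxy : x = y := by
      by_contra hne
      exact h ⟨hne, _, ⟨x, y - x, sub_ne_zero.2 (Ne.symm hne), rfl⟩, ⟨0, by simp⟩, ⟨1, by simp⟩⟩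
    rw [hxy, diag]

/-- Point reflection of the dual affine plane of order two: the transposition attached to the point. -/
def dualRefl (x y : Cfsg.DualAffinePoint) : Cfsg.DualAffinePoint :=
  if h : ((x.1 \ y.1) ∪ (y.1 \ x.1)).card = 2 then ⟨(x.1 \ y.1) ∪ (y.1 \ x.1), h⟩ else y

theorem dual_image_key : ∀ (x : Cfsg.DualAffinePoint) (i : Fin 4), ∃ j : Fin 4,
    (∀ y : Cfsg.DualAffinePoint, (i ∉ y.1 ↔ j ∉ (dualRefl x y).1)) ∧
      ∀ y, dualRefl x (dualRefl x y) = y := by
  decide

theorem dual_hasReflections : HasReflections Cfsg.dualAffinePlaneTwo dualRefl := by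
  refine ⟨?_, ?_, ?_⟩
  · rintro x l ⟨i, rfl⟩
    obtain ⟨j, hj, hinv⟩ := dual_image_key x i
    refine ⟨j, ?_⟩
    ext y
    simp only [Set.mem_image, Set.mem_setOf_eq]
    constructor
    · rintro ⟨z, hz, rfl⟩; exact (hj z).1 hz
    · intro hy
      exact ⟨dualRefl x y, (hj _).2 (by rwa [hinv]), hinv y⟩
  · rintro x y z hxy hzx hzy ⟨i, h⟩
    have hm : ∀ u ∈ ({x, y, z} : Set Cfsg.DualAffinePoint), i ∉ u.1 := by
      rw [h]; exact fun u hu => hu
    have key : ∀ x y : Cfsg.DualAffinePoint, x ≠ y → ∀ i, i ∉ x.1 → i ∉ y.1 →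
        ∀ z : Cfsg.DualAffinePoint, i ∉ z.1 → z ≠ x → z ≠ y → dualRefl x y = z := by decide +kernel
    exact key x y hxy i (hm x (by simp)) (hm y (by simp)) z (hm z (by simp)) hzx hzy
  · intro x y h
    have key : ∀ x y : Cfsg.DualAffinePoint, dualRefl x y = y ∨
        (x ≠ y ∧ ∃ i, i ∉ x.1 ∧ i ∉ y.1) := by decide
    rcases key x y with e | ⟨hne, i, hix, hiy⟩
    · exact e
    · exact absurd ⟨hne, _, ⟨i, rfl⟩, hix, hiy⟩ h

/-- The image of a line of a plane under t(x), for x a point of that plane. -/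
theorem lineMap_line_in_plane {M : Type*} {model : Set (Set M)} {R : M → M → M}
    (hR : HasReflections model R) (hL : IsPartialLinear L) (h3 : ∀ l ∈ L, l.ncard = 3) {S : Set X}
    (hS : IsSubspace L S) (hiso : Isomorphic (restrict L S) model) {n : Set X} (hn : n ∈ L)
    (hnS : n ⊆ S) {x : X} (hx : x ∈ S) : lineMap L x '' n ∈ L := by
  obtain ⟨e, he⟩ := hiso
  have hmap : ∀ u : S, lineMap L x u = e.symm (R (e ⟨x, hx⟩) (e u)) := by
    intro u
    by_cases hcol : Collinear L x u
    · obtain ⟨hne, l, hl, hxl, hul⟩ := hcol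
      obtain ⟨z, hzx, hzu, rfl⟩ := exists_third (h3 l hl) hxl hul hne
      have hlS : ({x, (u : X), z} : Set X) ⊆ S := hS _ hl x hx u u.2 hne (by simp) (by simp)
      have hz : z ∈ S := hlS (by simp)
      have hm := (he {w : S | (w : X) ∈ ({x, (u : X), z} : Set X)}).1 ⟨_, hl, hlS, rfl⟩
      have hset : {w : S | (w : X) ∈ ({x, (u : X), z} : Set X)} = {⟨x, hx⟩, u, ⟨z, hz⟩} := by
        ext w; simp [Subtype.ext_iff]
      rw [hset, Set.image_insert_eq, Set.image_insert_eq, Set.image_singleton] at hm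
      rw [lineMap_of_line hL hne hzx hzu hl, hR.of_line _ _ (e ⟨z, hz⟩) ?_ ?_ ?_ hm,
        e.symm_apply_apply]
      · exact fun h => hne (Subtype.ext_iff.1 (e.injective h))
      · exact fun h => hzx (Subtype.ext_iff.1 (e.injective h))
      · exact fun h => hzu (Subtype.ext_iff.1 (e.injective h))
    · rw [lineMap_of_not_collinear hcol, hR.of_not_collinear, e.symm_apply_apply]
      rintro ⟨hne, m, hm, hxm, hum⟩
      have hm' := (he (e ⁻¹' m)).2 (by rwa [Equiv.image_preimage])
      obtain ⟨l, hl, -, hlm⟩ := hm'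
      exact hcol ⟨fun h => hne (congrArg e (Subtype.ext h)), l, hl,
        (Set.ext_iff.1 hlm ⟨x, hx⟩).1 hxm, (Set.ext_iff.1 hlm u).1 hum⟩
  have hm := hR.line_image (e ⟨x, hx⟩) _ ((he {w : S | (w : X) ∈ n}).1 ⟨n, hn, hnS, rfl⟩)
  have hm' := (he (e ⁻¹' (R (e ⟨x, hx⟩) '' (e '' {w : S | (w : X) ∈ n})))).2
    (by rwa [Equiv.image_preimage])
  obtain ⟨l, hl, hlS, hlm⟩ := hm'
  have : lineMap L x '' n = l := by
    ext y
    constructor
    · rintro ⟨u, hu, rfl⟩
      rw [hmap ⟨u, hnS hu⟩]
      refine (Set.ext_iff.1 hlm _).1 ?_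
      exact ⟨e ⟨u, hnS hu⟩, ⟨_, hu, rfl⟩, (e.apply_symm_apply _).symm⟩
    · intro hy
      obtain ⟨-, ⟨w, hw, rfl⟩, hyw⟩ := (Set.ext_iff.1 hlm ⟨y, hlS hy⟩).2 hy
      refine ⟨w, hw, ?_⟩
      rw [hmap w, hyw, e.symm_apply_apply]
  rwa [this]

variable (hL : Cfsg.IsFischerSpace L)

include hL

theorem lineMap_involutive (x : X) : Function.Involutive (lineMap L x) := by
  intro y
  by_cases h : Collinear L x y
  · obtain ⟨hne, l, hl, hx, hy⟩ := h
    obtain ⟨z, hzx, hzy, rfl⟩ := exists_third (hL.2.1 l hl) hx hy hne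
    rw [lineMap_of_line hL.1 hne hzx hzy hl,
      lineMap_of_line hL.1 hzx.symm hne.symm hzy.symm (z := y) (by rwa [Set.pair_comm])]
  · rw [lineMap_of_not_collinear h, lineMap_of_not_collinear h]

theorem lineMap_line {x : X} {n : Set X} (hn : n ∈ L) : lineMap L x '' n ∈ L := by
  by_cases hxn : x ∈ n
  · obtain ⟨y, z, hxy, hxz, hyz, rfl⟩ := three_of_ncard (hL.2.1 n hn) hxn
    rw [Set.image_insert_eq, Set.image_insert_eq, Set.image_singleton, lineMap_self,
      lineMap_of_line hL.1 hxy hxz.symm hyz.symm hn,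
      lineMap_of_line hL.1 hxz hxy.symm hyz (z := y) (by rwa [Set.pair_comm]), Set.pair_comm]
    exact hn
  by_cases hc : ∃ p ∈ n, Collinear L x p
  · obtain ⟨p, hp, -, l, hl, hxl, hpl⟩ := hc
    have hln : l ≠ n := fun e => hxn (e ▸ hxl)
    have hsub := isSubspace_span (L := L) (l ∪ n)
    rcases hL.2.2 l hl n hn hln ⟨p, hpl, hp⟩ with h | h
    · exact lineMap_line_in_plane dual_hasReflections hL.1 hL.2.1 hsub h hn
        (Set.subset_union_right.trans (subset_span _)) (subset_span _ (Or.inl hxl))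
    · exact lineMap_line_in_plane aff_hasReflections hL.1 hL.2.1 hsub h hn
        (Set.subset_union_right.trans (subset_span _)) (subset_span _ (Or.inl hxl))
  · push Not at hc
    convert hn
    ext y
    constructor
    · rintro ⟨u, hu, rfl⟩; rwa [lineMap_of_not_collinear (hc u hu)]
    · exact fun hy => ⟨y, hy, lineMap_of_not_collinear (hc y hy)⟩

/-- The permutation t(x). -/
noncomputable def linePerm (x : X) : Equiv.Perm X := (lineMap_involutive hL x).toPerm _

theorem linePerm_apply (x y : X) : linePerm hL x y = lineMap L x y := rfl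

theorem linePerm_isIso (x : X) : IsIso L L (linePerm hL x) := by
  intro l
  refine ⟨fun hl => lineMap_line hL hl, fun hl => ?_⟩
  have h : linePerm hL x '' (linePerm hL x '' l) ∈ L := lineMap_line hL (x := x) hl
  have e : linePerm hL x '' (linePerm hL x '' l) = l := by
    rw [Set.image_image]
    simp only [linePerm_apply, lineMap_involutive hL x _, Set.image_id']
  rwa [e] at h

theorem linePerm_mul_self (x : X) : linePerm hL x * linePerm hL x = 1 :=
  Equiv.ext fun y => lineMap_involutive hL x y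

theorem linePerm_inv (x : X) : (linePerm hL x)⁻¹ = linePerm hL x :=
  inv_eq_of_mul_eq_one_left (linePerm_mul_self hL x)

theorem linePerm_ne_one (hnd : IsNondegenerate L) (x : X) : linePerm hL x ≠ 1 := by
  obtain ⟨l, hl, hx⟩ := hnd x
  obtain ⟨y, z, hxy, hxz, hyz, rfl⟩ := three_of_ncard (hL.2.1 l hl) hx
  intro h
  have := congrArg (fun σ => σ y) h
  simp only [linePerm_apply, lineMap_of_line hL.1 hxy hxz.symm hyz.symm hl, Equiv.Perm.one_apply] at this
  exact hyz this.symm

theorem linePerm_conj (x y : X) :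
    linePerm hL x * linePerm hL y * linePerm hL x = linePerm hL (linePerm hL x y) := by
  refine Equiv.ext fun u => ?_
  obtain ⟨v, rfl⟩ := (linePerm hL x).surjective u
  have hinv : linePerm hL x (linePerm hL x v) = v := lineMap_involutive hL x v
  rw [Equiv.Perm.mul_apply, Equiv.Perm.mul_apply, hinv]
  have hiso := linePerm_isIso hL x
  show linePerm hL x (lineMap L y v) = lineMap L (linePerm hL x y) (linePerm hL x v)
  by_cases h : Collinear L y v
  · obtain ⟨hne, l, hl, hy, hv⟩ := h
    obtain ⟨z, hzy, hzv, rfl⟩ := exists_third (hL.2.1 l hl) hy hv hne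
    have := (hiso _).1 hl
    rw [Set.image_insert_eq, Set.image_insert_eq, Set.image_singleton] at this
    rw [lineMap_of_line hL.1 hne hzy hzv hl, lineMap_of_line hL.1 ((linePerm hL x).injective.ne hne)
      ((linePerm hL x).injective.ne hzy) ((linePerm hL x).injective.ne hzv) this]
  · rw [lineMap_of_not_collinear h, lineMap_of_not_collinear]
    rintro ⟨hne, m, hm, hym, hvm⟩
    have hm' := (hiso (linePerm hL x ⁻¹' m)).2 (by rwa [Equiv.image_preimage])
    exact h ⟨fun e => hne (by rw [e]), _, hm', hym, hvm⟩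

theorem linePerm_pair (x y : X) :
    (linePerm hL x * linePerm hL y) ^ 2 = 1 ∨ (linePerm hL x * linePerm hL y) ^ 3 = 1 := by
  by_cases h : Collinear L x y
  · obtain ⟨hne, l, hl, hx, hy⟩ := h
    obtain ⟨z, hzx, hzy, rfl⟩ := exists_third (hL.2.1 l hl) hx hy hne
    have h1 : linePerm hL x y = z := lineMap_of_line hL.1 hne hzx hzy hl
    have h2 : linePerm hL y x = z :=
      lineMap_of_line hL.1 hne.symm hzy hzx (by rwa [Set.insert_comm])
    have b : linePerm hL x * linePerm hL y * linePerm hL x =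
        linePerm hL y * linePerm hL x * linePerm hL y := by
      rw [linePerm_conj, linePerm_conj, h1, h2]
    refine Or.inr ?_
    calc (linePerm hL x * linePerm hL y) ^ 3
        = (linePerm hL x * linePerm hL y * linePerm hL x) *
          (linePerm hL y * linePerm hL x * linePerm hL y) := by
          simp only [pow_succ, pow_zero, one_mul, mul_assoc]
      _ = (linePerm hL y * linePerm hL x * linePerm hL y) *
          (linePerm hL y * linePerm hL x * linePerm hL y)⁻¹ := by
          rw [mul_inv_rev, mul_inv_rev, linePerm_inv, linePerm_inv, b]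
          simp only [mul_assoc]
      _ = 1 := mul_inv_cancel _
  · refine Or.inl ?_
    have hx : linePerm hL x y = y := lineMap_of_not_collinear h
    calc (linePerm hL x * linePerm hL y) ^ 2
        = (linePerm hL x * linePerm hL y * linePerm hL x) * linePerm hL y := by
          simp only [pow_succ, pow_zero, one_mul, mul_assoc]
      _ = 1 := by rw [linePerm_conj, hx, linePerm_mul_self]

end Cfsg.Agent.FischerSpace
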