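import Cfsg.Agent.Lib.FischerSpace.Classes

/-!
# A perfect subgroup centralizing the product of two members centralizes each of them
-/

set_option autoImplicit false

namespace Cfsg.Agent.FischerSpace

variable {G : Type*} [Group G] {D : Set G}

/-- `E` centralizes every solvable subgroup that it normalizes. -/
def CentralizesSolvable (E : Subgroup G) : Prop :=
  ∀ H : Subgroup G, Group.IsSolvable H → E ≤ Subgroup.normalizer (H : Set G) →
    E ≤ Subgroup.centralizer (H : Set G)

theorem closure_normalized {E : Subgroup G} {S : Set G} (h : ∀ g ∈ E, ∀ x ∈ S, g * x * g⁻¹ ∈ S) :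
    E ≤ Subgroup.normalizer ((Subgroup.closure S : Subgroup G) : Set G) := by
  have key : ∀ g ∈ E, ∀ x ∈ Subgroup.closure S, g * x * g⁻¹ ∈ Subgroup.closure S := by
    intro g hg x hx
    have hle : Subgroup.closure S ≤ (Subgroup.closure S).comap (MulAut.conj g).toMonoidHom :=
      (Subgroup.closure_le _).2 fun y hy => Subgroup.subset_closure (h g hg y hy)
    exact hle hx
  intro g hg
  rw [Subgroup.mem_normalizer_iff]
  intro x
  refine ⟨key g hg x, fun hx => ?_⟩
  have := key g⁻¹ (inv_mem hg) _ hx
  simpa [mul_assoc] using this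

/-- If a member's orbit under a perfect group `E` consists of pairwise commuting members, or of
pairwise non-commuting ones, then `E` centralizes that member. -/
theorem centralizes_of_orbit [Finite G] (hD : Cfsg.IsThreeTranspositionSet D) (hc : Invariant D)
    {E : Subgroup G} (hperf : ⁅E, E⁆ = E) (hE : CentralizesSolvable E) {d : G} (hd : d ∈ D)
    (hnorm : d ∈ Subgroup.normalizer (E : Set G))
    (h : (∀ g ∈ E, Commute d (g * d * g⁻¹)) ∨ ∀ g ∈ E, Commute d (g * d * g⁻¹) → g * d * g⁻¹ = d) :
    ∀ g ∈ E, Commute g d := by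
  let O : Set G := {x | ∃ g ∈ E, g * d * g⁻¹ = x}
  let S : Set G := {x | ∃ a ∈ O, ∃ b ∈ O, a * b = x}
  have hO : O ⊆ D := by rintro _ ⟨g, -, rfl⟩; exact hc g d hd
  have hOE : ∀ k ∈ E, ∀ x ∈ O, k * x * k⁻¹ ∈ O := by
    rintro k hk _ ⟨g, hg, rfl⟩
    exact ⟨k * g, mul_mem hk hg, by group⟩
  have hS : ∀ k ∈ E, ∀ x ∈ S, k * x * k⁻¹ ∈ S := by
    rintro k hk _ ⟨a, ha, b, hb, rfl⟩
    exact ⟨_, hOE k hk a ha, _, hOE k hk b hb, by group⟩
  -- transfer the hypothesis to all pairs of the orbit
  have pairTo : ∀ a ∈ O, ∀ b ∈ O, ∃ g ∈ E, ∃ k ∈ E, k * d * k⁻¹ = a ∧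
      k * (g * d * g⁻¹) * k⁻¹ = b := by
    rintro _ ⟨k, hk, rfl⟩ _ ⟨l, hl, rfl⟩
    exact ⟨k⁻¹ * l, mul_mem (inv_mem hk) hl, k, hk, rfl, by group⟩
  haveI : Fact (Nat.Prime 3) := ⟨Nat.prime_three⟩
  have hsol : Group.IsSolvable (Subgroup.closure S) := by
    rcases h with hcm | hw
    · have hOc : ∀ a ∈ O, ∀ b ∈ O, Commute a b := by
        intro a ha b hb
        obtain ⟨g, hg, k, -, rfl, rfl⟩ := pairTo a ha b hb
        exact (commute_conj_iff k _ _).2 (hcm g hg)
      haveI := Subgroup.isMulCommutative_closure (k := S) (by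
        rintro _ ⟨a, ha, b, hb, rfl⟩ _ ⟨a', ha', b', hb', rfl⟩
        exact (((hOc a ha a' ha').mul_right (hOc a ha b' hb')).mul_left
          ((hOc b hb a' ha').mul_right (hOc b hb b' hb'))).eq)
      exact isSolvable_of_comm fun a b => mul_comm' a b
    · set H := Subgroup.closure O with hH
      have hOw : ∀ a ∈ {x : H | (x : G) ∈ O}, ∀ b ∈ {x : H | (x : G) ∈ O}, Commute a b → a = b := by
        intro a ha b hb hab
        obtain ⟨g, hg, k, -, hka, hkb⟩ := pairTo a ha b hb
        have hab' : Commute (a : G) b := congrArg Subtype.val hab.eq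
        rw [← hka, ← hkb, commute_conj_iff] at hab'
        apply Subtype.ext
        rw [← hka, ← hkb, hw g hg hab']
      have hOH : ∀ x ∈ O, ∀ y ∈ O, x * y * x ∈ O := by
        intro x hx y hy
        obtain ⟨g, hg, k, hk, rfl, rfl⟩ := pairTo x hx y hy
        have e1 : d * (g * d * g⁻¹) * d ∈ O := by
          refine ⟨d * g * d⁻¹, (Subgroup.mem_normalizer_iff.1 hnorm g).1 hg, ?_⟩
          rw [inv_eq hD hd, mul_inv_rev, mul_inv_rev, inv_eq hD hd]
          simp only [mul_assoc, mul_left_cancel_self hD hd]
        have := hOE k hk _ e1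
        simpa [mul_assoc] using this
      have hinvH : Invariant {x : H | (x : G) ∈ O} := by
        intro g x hx
        have key : ∀ y ∈ Subgroup.closure O, ∀ z ∈ O, y * z * y⁻¹ ∈ O := by
          intro y hy
          induction hy using Subgroup.closure_induction'' with
          | one => intro z hz; simpa using hz
          | mem y hy => intro z hz; rw [inv_eq hD (hO hy)]; exact hOH y hy z hz
          | inv_mem y hy =>
            intro z hz; rw [inv_inv, inv_eq hD (hO hy)]; exact hOH y hy z hz
          | mul y y' _ _ ihy ihy' =>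
            intro z hz
            rw [show y * y' * z * (y * y')⁻¹ = y * (y' * z * y'⁻¹) * y⁻¹ by group]
            exact ihy _ (ihy' z hz)
        show ((g * x * g⁻¹ : H) : G) ∈ O
        push_cast
        exact key _ g.2 _ hx
      have hsetH : Cfsg.IsThreeTranspositionSet {x : H | (x : G) ∈ O} :=
        set_mono (set_subgroup hD H) fun x hx => hO hx
      have hle : Subgroup.closure S ≤ (Cfsg.pCore 3 H).map H.subtype := by
        rw [Subgroup.closure_le]
        rintro _ ⟨a, ha, b, hb, rfl⟩
        exact ⟨⟨a, Subgroup.subset_closure ha⟩ * ⟨b, Subgroup.subset_closure hb⟩,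
          widthOne_mul_mem_pCore hsetH hinvH hOw ha hb, rfl⟩
      have hp : IsPGroup 3 (Subgroup.closure S) := (Thompson.isPGroup_pCore.map H.subtype).to_le hle
      haveI := hp.isNilpotent
      infer_instance
  have hcen := hE _ hsol (closure_normalized hS)
  -- the map `g ↦ d * (g d g⁻¹)` is a homomorphism into an abelian group
  let φ : G → G := fun g => d * (g * d * g⁻¹)
  have hφS : ∀ g ∈ E, φ g ∈ Subgroup.closure S := fun g hg =>
    Subgroup.subset_closure ⟨d, ⟨1, one_mem _, by simp⟩, _, ⟨g, hg, rfl⟩, rfl⟩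
  have hφE : ∀ g ∈ E, φ g ∈ E := by
    intro g hg
    have h1 : d * g * d⁻¹ ∈ E := (Subgroup.mem_normalizer_iff.1 hnorm g).1 hg
    rw [inv_eq hD hd] at h1
    have := mul_mem h1 (inv_mem hg)
    simpa [φ, mul_assoc] using this
  have hφcomm : ∀ g ∈ E, ∀ x ∈ E, Commute x (φ g) := fun g hg x hx =>
    ((Subgroup.mem_centralizer_iff.1 (hcen hx) (φ g) (hφS g hg)).symm : x * φ g = φ g * x)
  have hmul : ∀ g ∈ E, ∀ k ∈ E, φ (g * k) = φ g * φ k := by
    intro g hg k hk
    have e : φ g * φ k = φ g * (g * φ k * g⁻¹) := by rw [(hφcomm k hk g hg).eq, mul_inv_cancel_right]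
    rw [e]
    simp only [φ, mul_inv_rev, mul_assoc, inv_mul_cancel_left, mul_left_cancel_self hD hd]
  have hker : ∀ g ∈ E, φ g = 1 := by
    let ψ : E →* G := MonoidHom.mk' (fun g => φ g) fun g k => hmul g g.2 k k.2
    have hcomm : commutator E ≤ ψ.ker := by
      rw [commutator_def, Subgroup.commutator_le]
      intro a _ b _
      rw [MonoidHom.mem_ker, map_commutatorElement, commutatorElement_eq_one_iff_mul_comm]
      exact (hφcomm b b.2 (φ a) (hφE a a.2)).eq
    have htop : commutator E = ⊤ := by
      apply Subgroup.map_injective E.subtype_injective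
      rw [Subgroup.map_subtype_commutator, hperf, ← MonoidHom.range_eq_map, Subgroup.range_subtype]
    intro g hg
    exact hcomm (x := ⟨g, hg⟩) (by rw [htop]; exact Subgroup.mem_top _)
  intro g hg
  have h2 : d * (d * (g * d * g⁻¹)) = d * 1 := congrArg (d * ·) (hker g hg)
  rw [mul_left_cancel_self hD hd, mul_one] at h2
  exact mul_inv_eq_iff_eq_mul.1 h2

/-- If a perfect group `E` centralizes the product of two distinct members then it centralizes both. -/
theorem centralizes_of_pair [Finite G] (hD : Cfsg.IsThreeTranspositionSet D) (hc : Invariant D)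
    {E : Subgroup G} (hperf : ⁅E, E⁆ = E) (hE : CentralizesSolvable E) {d v : G} (hd : d ∈ D) (hv : v ∈ D)
    (hne : v ≠ d) (hnorm : d ∈ Subgroup.normalizer (E : Set G))
    (hx : ∀ g ∈ E, Commute g (d * v)) : ∀ g ∈ E, Commute g d := by
  refine centralizes_of_orbit hD hc hperf hE hd hnorm ?_
  by_cases hdv : Commute d v
  · left
    intro g hg
    have h1 : Commute (g * d * g⁻¹) (d * v) := by
      have h2 : Commute (g * d * g⁻¹) (g * (d * v) * g⁻¹) :=
        (commute_conj_iff g _ _).2 ((Commute.refl d).mul_right hdv)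
      rwa [(hx g hg).eq, mul_inv_cancel_right] at h2
    exact (((commute_mul_iff hD hd hv (hc g d hd) hne.symm hdv).1 h1).1).symm
  · right
    intro g hg hde
    set e := g * d * g⁻¹ with he'
    have he : e ∈ D := hc g d hd
    by_contra hed
    have hinv : d * (e * v * e) = v * d := by
      have h1 : g * (d * (d * v) * d) * g⁻¹ = e * (d * v) * e := by
        conv_rhs => rw [show d * v = g * (d * v) * g⁻¹ by rw [(hx g hg).eq, mul_inv_cancel_right]]
        simp only [he', mul_assoc, inv_mul_cancel_left]
      have h2 : d * (d * v) * d = v * d := by rw [mul_left_cancel_self hD hd]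
      have h3 : g * (v * d) * g⁻¹ = v * d := by
        have : Commute g (v * d) := by
          have := (hx g hg).inv_right
          rwa [mul_inv_rev, inv_eq hD hd, inv_eq hD hv] at this
        rw [this.eq, mul_inv_cancel_right]
      rw [h2, h3] at h1
      rw [h1]
      calc d * (e * v * e) = d * e * v * e := by simp only [mul_assoc]
        _ = e * d * v * e := by rw [hde.eq]
        _ = e * (d * v) * e := by simp only [mul_assoc]
    have h4 : e * v * e = d * v * d := by
      have h' := congrArg (d * ·) hinv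
      simp only [mul_left_cancel_self hD hd] at h'
      rw [h']
      simp only [mul_assoc]
    by_cases hev : Commute e v
    · rw [conj_eq_of_commute hD he hev] at h4
      exact hdv (commute_of_conj_eq hD hd h4.symm)
    · rw [braid hD he hv hev, braid hD hd hv hdv] at h4
      exact hed (mul_left_cancel (mul_right_cancel h4))

end Cfsg.Agent.FischerSpace
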