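import Cfsg.Agent.Lib.FischerSpace.Complement

/-!
# Groups in which commuting members are V-related

`eq_two_group_complement`, `sym4_of_pairs`.
-/

set_option autoImplicit false

namespace Cfsg.Agent.FischerSpace

variable {G : Type*} [Group G] {D : Set G}

theorem commute_imp_vRel (hD : Cfsg.IsThreeTranspositionClass D) {d : G} (hd : d ∈ D)
    (hV : {y : G | y ∈ D ∧ Commute d y} = {v : G | v ∈ D ∧ ∀ e ∈ D, Commute v e ↔ Commute d e})
    {a b : G} (ha : a ∈ D) (hb : b ∈ D) (hab : Commute a b) : VRel D a b := by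
  have hc := class_invariant hD
  obtain ⟨g, rfl⟩ := class_isConj hD hd ha
  obtain ⟨f, hf, rfl⟩ : ∃ f ∈ D, g * f * g⁻¹ = b :=
    ⟨g⁻¹ * b * g, by simpa using hc g⁻¹ b hb, by group⟩
  exact vRel_conj hc ((Set.ext_iff.1 hV f).1 ⟨hf, (commute_conj_iff g _ _).1 hab⟩) g

theorem zpowers_involution (hD : Cfsg.IsThreeTranspositionSet D) {d y : G} (hd : d ∈ D)
    (hy : y ∈ Subgroup.zpowers d) : y = 1 ∨ y = d := by
  obtain ⟨i, rfl⟩ := Subgroup.mem_zpowers_iff.1 hy
  rcases Int.even_or_odd' i with ⟨j, rfl | rfl⟩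
  · left; rw [zpow_mul, zpow_two, mul_self hD hd, one_zpow]
  · right; rw [zpow_add, zpow_mul, zpow_two, mul_self hD hd, one_zpow, one_mul, zpow_one]

variable [Finite G]

theorem exists_sylow_normalized (hD : Cfsg.IsThreeTranspositionClass D)
    (hD2 : ∃ a ∈ D, ∃ b ∈ D, a ≠ b) {d : G} (hd : d ∈ D)
    (hperp : ∀ a ∈ D, ∀ b ∈ D, Commute a b → VRel D a b) :
    ∃ P : Sylow 3 G, d ∈ Subgroup.normalizer (P : Set G) ∧
      Subgroup.zpowers d ⊔ (P : Subgroup G) ⊔ Cfsg.pCore 2 G = ⊤ := by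
  haveI : Fact (Nat.Prime 2) := ⟨Nat.prime_two⟩
  haveI : Fact (Nat.Prime 3) := ⟨Nat.prime_three⟩
  have hc := class_invariant hD
  set Q := Cfsg.pCore 2 G
  haveI hQn : Q.Normal := Thompson.instPCoreNormal
  set π := QuotientGroup.mk' Q with hπ
  have hπs : Function.Surjective π := QuotientGroup.mk'_surjective Q
  obtain ⟨e0, he0, hde0⟩ := exists_not_commute hD hD2 hd
  have hsep : ∀ a ∈ D, ∀ b ∈ D, a * b ∈ Q → Commute a b := fun a ha b hb h =>
    vRel_commute ha (vRel_of_mul_mem_pCore hD.1 ha hb h)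
  have hne : ∀ a ∈ D, π a ≠ 1 := by
    intro a ha h1
    obtain ⟨e, he, hae⟩ := exists_not_commute hD hD2 ha
    refine hae (hsep a ha e he (mul_mem ((QuotientGroup.eq_one_iff a).1 h1) ?_))
    obtain ⟨g, rfl⟩ := class_isConj hD ha he
    exact hQn.conj_mem a ((QuotientGroup.eq_one_iff a).1 h1) g
  have hinv' : Invariant (π '' D) := by
    intro x y hy
    obtain ⟨g, rfl⟩ := hπs x
    obtain ⟨a, ha, rfl⟩ := hy
    exact ⟨g * a * g⁻¹, hc g a ha, by simp⟩
  have hw : ∀ x ∈ π '' D, ∀ y ∈ π '' D, Commute x y → x = y := by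
    rintro _ ⟨a, ha, rfl⟩ _ ⟨b, hb, rfl⟩ h
    have hab : Commute a b := by
      by_contra hne'
      apply hne'
      apply hsep a ha b hb
      rw [← QuotientGroup.eq_one_iff]
      have h2 : (π a * π b) ^ 2 = 1 := by
        rw [h.mul_pow, pow_two, pow_two, ← map_mul, ← map_mul, mul_self hD.1 ha, mul_self hD.1 hb,
          map_one, one_mul]
      have h3 : (π a * π b) ^ 3 = 1 := by
        rw [← map_mul, ← map_pow, cube_eq_one hD.1 ha hb hne', map_one]
      rw [pow_succ, h2, one_mul] at h3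
      exact h3
    have hmem := vRel_mul_mem_pCore hD.1 hc ha (hperp a ha b hb hab)
    rw [← inv_eq hD.1 ha] at hmem
    exact QuotientGroup.eq.2 hmem
  set O := Cfsg.pCore 3 (G ⧸ Q)
  haveI hOn : O.Normal := Thompson.instPCoreNormal
  set K := O.comap π with hK
  have hQK : Q ≤ K := fun x hx => by
    rw [hK, Subgroup.mem_comap, hπ, QuotientGroup.mk'_apply, (QuotientGroup.eq_one_iff x).2 hx]
    exact one_mem _
  have hKmap : K.map π = O := Subgroup.map_comap_eq_self_of_surjective hπs O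
  have hdK : ∀ a ∈ D, d * a ∈ K := fun a ha => by
    rw [hK, Subgroup.mem_comap, map_mul]
    exact widthOne_mul_mem_pCore (set_image hD.1 π hne) hinv' hw ⟨d, hd, rfl⟩ ⟨a, ha, rfl⟩
  haveI hKn : K.Normal := hOn.comap π
  have htop : ∀ g : G, ∃ y ∈ Subgroup.zpowers d, ∃ k ∈ K, y * k = g := by
    intro g
    refine Subgroup.mem_sup_of_normal_right.1 ?_
    have : Subgroup.closure D ≤ Subgroup.zpowers d ⊔ K := (Subgroup.closure_le _).2 fun a ha => by
      have := mul_mem (Subgroup.mem_sup_left (T := K) (Subgroup.mem_zpowers d))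
        (Subgroup.mem_sup_right (hdK a ha))
      rwa [mul_left_cancel_self hD.1 hd] at this
    exact this (by rw [hD.2.2]; exact Subgroup.mem_top g)
  have hyp : ∀ g ∈ K, d * (g * d * g⁻¹) ∈ Q ∨ (d * (g * d * g⁻¹)) ^ 3 = 1 := by
    intro g _
    by_cases hcm : Commute d (g * d * g⁻¹)
    · exact Or.inl (vRel_mul_mem_pCore hD.1 hc hd (hperp d hd _ (hc g d hd) hcm))
    · exact Or.inr (cube_eq_one hD.1 hd (hc g d hd) hcm)
  have hex : ∃ g ∈ K, d * (g * d * g⁻¹) ∉ Q := by
    obtain ⟨g, rfl⟩ := class_isConj hD hd he0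
    obtain ⟨y, hy, k, hk, rfl⟩ := htop g
    have hyd : Commute y d := by
      obtain ⟨i, rfl⟩ := Subgroup.mem_zpowers_iff.1 hy
      exact (Commute.refl d).zpow_left i
    refine ⟨k, hk, fun h => hde0 ?_⟩
    have hcm := hsep d hd _ (hc k d hd) h
    rw [show y * k * d * (y * k)⁻¹ = y * (k * d * k⁻¹) * y⁻¹ by group]
    have := (commute_conj_iff y _ _).2 hcm
    rwa [hyd.eq, mul_inv_cancel_right] at this
  obtain ⟨P, hP, hPK, hKP, hdP⟩ := complement_normalized Q K Thompson.isPGroup_pCore hQK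
    (by rw [← hπ, hKmap]; exact Thompson.isPGroup_pCore) (mul_self hD.1 hd) hyp hex
  obtain ⟨S, hPS⟩ := hP.exists_le_sylow
  have hSP : (S : Subgroup G) = P := by
    refine le_antisymm (fun s hs => ?_) hPS
    have hsK : s ∈ K := by
      obtain ⟨y, hy, k, hk, rfl⟩ := htop s
      rcases zpowers_involution hD.1 hd hy with rfl | hy1
      · rwa [one_mul]
      · exfalso
        rw [hy1] at hs
        obtain ⟨j, hj⟩ := S.isPGroup' ⟨d * k, hs⟩
        have hk' : ((k : G) : G ⧸ K) = 1 := (QuotientGroup.eq_one_iff k).2 hk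
        have h1 : ((d : G) : G ⧸ K) ^ 3 ^ j = 1 := by
          have := congrArg (fun t : S => ((t : G) : G ⧸ K)) hj
          simpa [hk'] using this
        have h2 : ((d : G) : G ⧸ K) ^ 2 = 1 := by
          rw [← QuotientGroup.mk_pow, pow_two, mul_self hD.1 hd]; rfl
        have h3 : d ∈ K := (QuotientGroup.eq_one_iff d).1 (eq_one_of_pow h2 h1 (by decide))
        obtain ⟨i, hi⟩ := Thompson.isPGroup_pCore (p := 3) (G := G ⧸ Q) ⟨π d, h3⟩
        refine hne d hd (eq_one_of_pow (m := 2) ?_ (by simpa [Subtype.ext_iff] using hi) (by decide))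
        rw [← map_pow, pow_two, mul_self hD.1 hd, map_one]
    obtain ⟨q, hq, p, hp, rfl⟩ := Subgroup.mem_sup_of_normal_left.1 (hKP hsK)
    have hqS : q ∈ (S : Subgroup G) := by
      have := mul_mem hs (inv_mem (hPS hp))
      rwa [mul_inv_cancel_right] at this
    rw [eq_one_of_two_three Thompson.isPGroup_pCore S.isPGroup' hq hqS, one_mul]
    exact hp
  refine ⟨S, by rw [show ((S : Set G)) = (P : Set G) from congrArg (fun H : Subgroup G => (H : Set G)) hSP]; exact hdP, ?_⟩
  rw [hSP, eq_top_iff]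
  intro g _
  obtain ⟨y, hy, k, hk, rfl⟩ := htop g
  refine mul_mem (Subgroup.mem_sup_left (Subgroup.mem_sup_left hy)) ?_
  obtain ⟨q, hq, p, hp, rfl⟩ := Subgroup.mem_sup_of_normal_left.1 (hKP hk)
  exact mul_mem (Subgroup.mem_sup_right hq) (Subgroup.mem_sup_left (Subgroup.mem_sup_right hp))

omit [Finite G] in
/-- If the commuting classes are pairs, the group is the symmetric group of degree 4. -/
theorem sym4_of_pairs (hD : Cfsg.IsThreeTranspositionClass D) (hD2 : ∃ a ∈ D, ∃ b ∈ D, a ≠ b) {d : G}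
    (hd : d ∈ D) (hperp : ∀ a ∈ D, ∀ b ∈ D, Commute a b → VRel D a b)
    (hm : {y : G | y ∈ D ∧ Commute d y}.ncard = 2) : Nonempty (G ≃* Equiv.Perm (Fin 4)) := by
  classical
  have hc := class_invariant hD
  have hpart : ∀ a ∈ D, ∃ a', a' ∈ D ∧ a' ≠ a ∧ Commute a a' ∧
      ∀ z ∈ D, Commute a z → z = a ∨ z = a' := by
    obtain ⟨u, v, huv, hset⟩ := Set.ncard_eq_two.1 hm
    obtain ⟨d', hd'D, hd'ne, hd'c, huniq⟩ : ∃ d', d' ∈ D ∧ d' ≠ d ∧ Commute d d' ∧
        ∀ z ∈ D, Commute d z → z = d ∨ z = d' := by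
      have hdm : d ∈ ({u, v} : Set G) := hset ▸ ⟨hd, Commute.refl d⟩
      rcases hdm with h | h
      · have hv : v ∈ {y : G | y ∈ D ∧ Commute d y} := by rw [hset]; simp
        refine ⟨v, hv.1, fun e => huv (h.symm.trans e.symm), hv.2, fun z hz hdz => ?_⟩
        have := (Set.ext_iff.1 hset z).1 ⟨hz, hdz⟩
        rcases this with h' | h'
        · exact Or.inl (h'.trans h.symm)
        · exact Or.inr h'
      · have h := Set.mem_singleton_iff.1 h
        have hu : u ∈ {y : G | y ∈ D ∧ Commute d y} := by rw [hset]; simp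
        refine ⟨u, hu.1, fun e => huv (e.trans h), hu.2, fun z hz hdz => ?_⟩
        have := (Set.ext_iff.1 hset z).1 ⟨hz, hdz⟩
        rcases this with h' | h'
        · exact Or.inr h'
        · exact Or.inl ((Set.mem_singleton_iff.1 h').trans h.symm)
    intro a ha
    obtain ⟨g, rfl⟩ := class_isConj hD hd ha
    refine ⟨g * d' * g⁻¹, hc g d' hd'D, fun e => hd'ne (by simpa using e),
      (commute_conj_iff g _ _).2 hd'c, fun z hz hgz => ?_⟩
    obtain ⟨f, hf, rfl⟩ : ∃ f ∈ D, g * f * g⁻¹ = z :=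
      ⟨g⁻¹ * z * g, by simpa using hc g⁻¹ z hz, by group⟩
    rcases huniq f hf ((commute_conj_iff g _ _).1 hgz) with rfl | rfl <;> simp
  choose pt hpt using hpart
  let x : ∀ a ∈ D, G := fun a ha => a * pt a ha
  have frame : ∀ a (ha : a ∈ D) b (hb : b ∈ D), ¬ Commute a b →
      ∃ φ : Equiv.Perm (Fin 4) →* G, Function.Injective φ ∧ φ (Equiv.swap 0 1) = a ∧
        φ (Equiv.swap 1 2) = b ∧ φ (Equiv.swap 2 3) = pt a ha ∧ φ (Equiv.swap 0 3) = pt b hb ∧
        φ (Equiv.swap 0 2) = a * b * a ∧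
        φ (Equiv.swap 1 3) = pt (a * b * a) (conj_mem hD.1 hc ha hb) := by
    intro a ha b hb hab
    obtain ⟨h1, h2, h3, h4⟩ := hpt a ha
    have hba' : ¬ Commute b (pt a ha) := fun h =>
      hab (((hperp a ha _ h1 h3).2 b hb).1 h.symm)
    obtain ⟨φ, hφ, e1, e2, e3⟩ := exists_sym4 hD.1 ha hb h1 h2.symm h3 hab hba'
    have e4 : φ (Equiv.swap 0 2) = a * b * a := by
      rw [← e1, ← e2, ← map_mul, ← map_mul]; congr 1; decide
    have mem : ∀ σ τ : Equiv.Perm (Fin 4), φ τ ∈ D → φ (σ * τ * σ⁻¹) ∈ D := fun σ τ h => by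
      rw [map_mul, map_mul, map_inv]; exact hc _ _ h
    refine ⟨φ, hφ, e1, e2, e3, ?_, e4, ?_⟩
    · obtain ⟨-, -, -, huniq⟩ := hpt b hb
      have hmem : φ (Equiv.swap 0 3) ∈ D := by
        rw [show Equiv.swap (0 : Fin 4) 3 = (Equiv.swap 0 1 * Equiv.swap 2 3) * Equiv.swap 1 2 *
          (Equiv.swap 0 1 * Equiv.swap 2 3)⁻¹ by decide]
        exact mem _ _ (by rw [e2]; exact hb)
      refine (huniq _ hmem ?_).resolve_left fun e => ?_
      · rw [← e2, commute_iff_eq, ← map_mul, ← map_mul]; congr 1; decide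
      · exact absurd (hφ (e.trans e2.symm)) (by decide)
    · obtain ⟨-, -, -, huniq⟩ := hpt (a * b * a) (conj_mem hD.1 hc ha hb)
      have hmem : φ (Equiv.swap 1 3) ∈ D := by
        rw [show Equiv.swap (1 : Fin 4) 3 = Equiv.swap 1 2 * Equiv.swap 2 3 * (Equiv.swap 1 2)⁻¹ by decide]
        exact mem _ _ (by rw [e3]; exact h1)
      refine (huniq _ hmem ?_).resolve_left fun e => ?_
      · rw [← e4, commute_iff_eq, ← map_mul, ← map_mul]; congr 1; decide
      · exact absurd (hφ (e.trans e4.symm)) (by decide)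
  have xmul : ∀ a (ha : a ∈ D) b (hb : b ∈ D), ¬ Commute a b →
      x (a * b * a) (conj_mem hD.1 hc ha hb) = x a ha * x b hb ∧
        Commute (x a ha) (x b hb) := by
    intro a ha b hb hab
    obtain ⟨φ, -, e1, e2, e3, e4, e5, e6⟩ := frame a ha b hb hab
    constructor
    · show a * b * a * pt _ _ = a * pt a ha * (b * pt b hb)
      rw [← e3, ← e4, ← e6, ← e5]
      conv_rhs => rw [← e1, ← e2]
      simp only [← map_mul]
      congr 1
      decide
    · show Commute (a * pt a ha) (b * pt b hb)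
      rw [← e3, ← e4, ← e1, ← e2, commute_iff_eq]
      simp only [← map_mul]
      congr 1
      decide
  have xcongr : ∀ a (ha : a ∈ D) a' (ha' : a' ∈ D), a = a' → x a ha = x a' ha' := by
    rintro a ha _ ha' rfl; rfl
  have xne : ∀ a (ha : a ∈ D), x a ha ≠ 1 := by
    intro a ha h
    obtain ⟨-, h2, -, -⟩ := hpt a ha
    apply h2
    rw [mul_eq_one_iff_inv_eq, inv_eq hD.1 ha] at h
    exact h.symm
  have xsq : ∀ a (ha : a ∈ D), x a ha * x a ha = 1 := by
    intro a ha
    obtain ⟨h1, -, h3, -⟩ := hpt a ha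
    show a * pt a ha * (a * pt a ha) = 1
    rw [← pow_two, h3.mul_pow, pow_two, pow_two, mul_self hD.1 ha, mul_self hD.1 h1, one_mul]
  obtain ⟨e, he, hde⟩ := exists_not_commute hD hD2 hd
  obtain ⟨φ, hφ, e1, e2, e3, e4, e5, e6⟩ := frame d hd e he hde
  -- every member commutes with one of three members
  have hthree : ∀ c ∈ D, Commute d c ∨ Commute e c ∨ Commute (d * e * d) c := by
    intro c hcD
    by_contra h
    push Not at h
    obtain ⟨hdc, hec, hfc⟩ := h
    have hf := conj_mem hD.1 hc hd he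
    have hdecd : ¬ Commute (d * e * d) (d * c * d) := by rwa [commute_conj_iff' hD.1 hd]
    have hdece : ¬ Commute d (e * c * e) := by
      intro h'
      -- conjugate by `e`
      have := (commute_conj_iff' hD.1 he _ _).2 h'
      rw [conj_conj_self hD.1 he, show e * d * e = d * e * d from (braid hD.1 hd he hde).symm] at this
      exact hfc this
    have hb := conj_mem hD.1 hc he hcD
    have hdc' := conj_mem hD.1 hc hd hcD
    obtain ⟨r1, cde⟩ := xmul d hd e he hde
    obtain ⟨r2, cdc⟩ := xmul d hd c hcD hdc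
    obtain ⟨r3, cec⟩ := xmul e he c hcD hec
    obtain ⟨r4, cdec⟩ := xmul d hd (e * c * e) hb hdece
    obtain ⟨r5, -⟩ := xmul (d * e * d) hf (d * c * d) hdc' hdecd
    have heq : d * e * d * (d * c * d) * (d * e * d) = d * (e * c * e) * d := by
      simp only [mul_assoc, mul_left_cancel_self hD.1 hd]
    have key := (xcongr _ (conj_mem hD.1 hc hf hdc') _ (conj_mem hD.1 hc hd hb) heq)
    rw [r5, r4, r1, r2, r3] at key
    apply xne d hd
    have h' : x e he * x c hcD = x d hd * (x e he * x c hcD) := by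
      rw [← key, show x d hd * x e he * (x d hd * x c hcD) = x d hd * (x e he * x d hd) * x c hcD by
        simp only [mul_assoc], ← cde.eq, ← mul_assoc (x d hd) (x d hd), xsq, one_mul]
    exact mul_eq_right.1 h'.symm
  have hrange : φ.range = ⊤ := by
    rw [eq_top_iff, ← hD.2.2, Subgroup.closure_le]
    intro c hcD
    rcases hthree c hcD with h | h | h
    · rcases (hpt d hd).2.2.2 c hcD h with rfl | rfl
      · exact ⟨_, e1⟩
      · exact ⟨_, e3⟩
    · rcases (hpt e he).2.2.2 c hcD h with rfl | rfl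
      · exact ⟨_, e2⟩
      · exact ⟨_, e4⟩
    · rcases (hpt _ (conj_mem hD.1 hc hd he)).2.2.2 c hcD h with rfl | rfl
      · exact ⟨_, e5⟩
      · exact ⟨_, e6⟩
  exact ⟨(MulEquiv.ofBijective φ ⟨hφ, MonoidHom.range_eq_top.1 hrange⟩).symm⟩

end Cfsg.Agent.FischerSpace
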