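import Cfsg.Agent.Lib.Reflections.OddRoot
import Cfsg.Agent.Lib.Reflections.OddIndex
import Cfsg.Agent.Lib.FischerSpace.SimpleDerived

/-!
# Reflection groups over the field with three elements

Two reflections of one norm commute exactly when the vectors are equal up to sign or orthogonal;
otherwise they satisfy the braid relation.
-/

set_option autoImplicit false

namespace Cfsg.Agent.FischerSpace.ReflThree

open Cfsg Cfsg.Agent.Reflections QuadraticMap Matrix

variable {n : ℕ} {Q : QuadraticForm (ZMod 3) (Fin n → ZMod 3)}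

theorem two_ne : (2 : ZMod 3) ≠ 0 := by decide

theorem inv_self' : ∀ a : ZMod 3, a⁻¹ = a := by decide +kernel

theorem cases_three : ∀ a : ZMod 3, a = 0 ∨ a = 1 ∨ a = -1 := by decide

theorem commute_iff (hQ : Q.polarBilin.Nondegenerate) {u v : Fin n → ZMod 3} (hu : Q u ≠ 0)
    (huv : Q u = Q v) (h1 : v ≠ u) (h2 : v ≠ -u) :
    Commute (Cfsg.reflectionMatrix (⇑Q) u) (Cfsg.reflectionMatrix (⇑Q) v) ↔
      QuadraticMap.polar (⇑Q) u v = 0 := by
  have hv : Q v ≠ 0 := huv ▸ hu
  have key : ∀ x, Cfsg.reflectionMatrix (⇑Q) u *ᵥ (Cfsg.reflectionMatrix (⇑Q) v *ᵥ x) -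
      Cfsg.reflectionMatrix (⇑Q) v *ᵥ (Cfsg.reflectionMatrix (⇑Q) u *ᵥ x) =
      (polar ⇑Q u v) • (polar ⇑Q v x • u - polar ⇑Q u x • v) := by
    intro x
    simp only [reflectionMatrix_mulVec, polar_sub_right, polar_smul_right, smul_eq_mul, inv_self',
      polar_comm (⇑Q) v u, ← huv]
    have hsq : Q u * Q u = 1 := by
      have : ∀ a : ZMod 3, a ≠ 0 → a * a = 1 := by decide
      exact this _ hu
    ext i
    simp only [Pi.sub_apply, Pi.smul_apply, smul_eq_mul]
    linear_combination (polar ⇑Q u v * (polar ⇑Q v x * u i - polar ⇑Q u x * v i)) * hsq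
  constructor
  · intro h
    by_contra hb
    have hz : ∀ x, polar ⇑Q v x • u - polar ⇑Q u x • v = 0 := by
      intro x
      have := key x
      rw [Matrix.mulVec_mulVec, Matrix.mulVec_mulVec, h.eq, sub_self] at this
      exact (smul_eq_zero.1 this.symm).resolve_left hb
    have hv0 : v ≠ 0 := fun e => hv (by simp [e])
    obtain ⟨x, hx⟩ := exists_polar_eq_one hQ hv0
    have := hz x
    rw [hx, one_smul, sub_eq_zero] at this
    rcases cases_three (polar ⇑Q u x) with h0 | h0 | h0 <;> rw [h0] at this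
    · exact hu (by rw [this]; simp)
    · exact h1 (by simpa using this.symm)
    · exact h2 (by rw [this]; simp)
  · intro h
    refine Matrix.ext_iff_mulVec.mpr fun x => ?_
    have := key x
    rw [h, zero_smul, sub_eq_zero, Matrix.mulVec_mulVec, Matrix.mulVec_mulVec] at this
    exact this

/-- The reflections of norm `c` inside the group they generate. -/
def cls (Q : QuadraticForm (ZMod 3) (Fin n → ZMod 3)) (c : ZMod 3) :
    Set ↥(Cfsg.reflectionSubgroup (⇑Q) c) :=
  {g | (g : ↥(Cfsg.isometryGroup (ZMod 3) (⇑Q))) ∈ Cfsg.reflectionsOfNorm (⇑Q) c}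

variable {c : ZMod 3}

theorem mem_norm_iff (hc : c ≠ 0) {g : ↥(Cfsg.isometryGroup (ZMod 3) (⇑Q))} :
    g ∈ Cfsg.reflectionsOfNorm (⇑Q) c ↔ ∃ v, Q v = c ∧ g = refl Q v := by
  constructor
  · rintro ⟨v, hv, h⟩; exact ⟨v, hv, eq_refl_of_mat (hv ▸ hc) h⟩
  · rintro ⟨v, hv, rfl⟩; exact ⟨v, hv, mat_refl (hv ▸ hc)⟩

theorem classSet_eq (hc : c ≠ 0) : classSet Q c = Cfsg.reflectionsOfNorm (⇑Q) c := by
  have sq : ∀ t : ZMod 3, t ≠ 0 → t ^ 2 = 1 := by decide
  ext g
  constructor
  · rintro ⟨v, t, ht, hv, h⟩; exact ⟨v, by rw [hv, sq t ht, mul_one], h⟩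
  · rintro ⟨v, hv, h⟩; exact ⟨v, 1, one_ne_zero, by rw [hv]; ring, h⟩

theorem index_two (hn : 5 ≤ n) (hQ : Q.polarBilin.Nondegenerate) (hc : c ≠ 0) :
    (Cfsg.reflectionSubgroup (⇑Q) c).index = 2 := by
  rw [Cfsg.reflectionSubgroup, ← classSet_eq hc]
  exact classGroup_index_two two_ne hQ (by simp; omega) (fun _ => by simp; omega) hc

theorem refl_inj (hQ : Q.polarBilin.Nondegenerate) {u v : Fin n → ZMod 3} (hu : Q u ≠ 0) (hv : Q v ≠ 0)
    (h : refl Q u = refl Q v) : v = u ∨ v = -u := by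
  have hv0 : v ≠ 0 := fun e => hv (by simp [e])
  obtain ⟨x, hx⟩ := exists_polar_eq_one hQ hv0
  have := congrArg (fun g => act g x) h
  simp only [act_refl hu, act_refl hv, sub_right_inj, inv_self', hx, mul_one] at this
  have hQv : ∀ a : ZMod 3, a ≠ 0 → a * a = 1 := by decide
  have h3 := congrArg (fun y : Fin n → ZMod 3 => Q v • y) this
  simp only [smul_smul, hQv _ hv, one_smul] at h3
  rcases cases_three (Q v * (Q u * polar ⇑Q u x)) with h0 | h0 | h0 <;> rw [h0] at h3
  · exact absurd (by simpa using h3.symm) hv0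
  · left; simpa using h3.symm
  · right; simpa using h3.symm

theorem refl_ne_one (hQ : Q.polarBilin.Nondegenerate) {v : Fin n → ZMod 3} (hv : Q v ≠ 0) :
    refl Q v ≠ 1 := by
  intro h
  have h1 := congrArg (fun g => act g v) h
  simp only [refl_self hv, act_one] at h1
  apply hv
  have h2 : Q (-v + -v) = Q (v + -v) := by rw [h1]
  have h3 : ∀ a : ZMod 3, a + a + 2 * a = 0 → a = 0 := by decide
  rw [add_neg_cancel, QuadraticMap.map_zero, map_add', QuadraticMap.map_neg,
    QuadraticMap.polar_neg_left, QuadraticMap.polar_neg_right, polar_self'] at h2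
  exact h3 _ (by linear_combination h2)

theorem refl_braid {u v : Fin n → ZMod 3} (hu : Q u = c) (hv : Q v = c) (hc : c ≠ 0)
    (hb : polar ⇑Q u v ≠ 0) :
    refl Q u * refl Q v * refl Q u = refl Q v * refl Q u * refl Q v := by
  have hu' : Q u ≠ 0 := hu ▸ hc
  have hv' : Q v ≠ 0 := hv ▸ hc
  have e1 : refl Q u * refl Q v * refl Q u = refl Q (act (refl Q u) v) := by
    conv_lhs => arg 2; rw [← refl_inv hu']
    exact conj_refl _ hv'
  have e2 : refl Q v * refl Q u * refl Q v = refl Q (act (refl Q v) u) := by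
    conv_lhs => arg 2; rw [← refl_inv hv']
    exact conj_refl _ hu'
  have hne : Q (act (refl Q u) v) ≠ 0 := by rwa [act_Q]
  rw [e1, e2]
  have hs : ∀ c b : ZMod 3, c ≠ 0 → b ≠ 0 → c * b * (c * b) = 1 := by decide
  have hmain : act (refl Q v) u = (-(c * polar ⇑Q u v)) • act (refl Q u) v := by
    rw [act_refl hu', act_refl hv', hu, hv, inv_self', polar_comm (⇑Q) v u, smul_sub, smul_smul,
      neg_mul, hs c _ hc hb]
    simp only [neg_smul, one_smul]
    abel
  rw [hmain, refl_smul hne (neg_ne_zero.2 (mul_ne_zero hc hb))]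

theorem commute_cls (hQ : Q.polarBilin.Nondegenerate) (hc : c ≠ 0) {u v : Fin n → ZMod 3}
    (hu : Q u = c) (hv : Q v = c) :
    Commute (refl Q u) (refl Q v) ↔ refl Q u = refl Q v ∨ polar ⇑Q u v = 0 := by
  have hu' : Q u ≠ 0 := hu ▸ hc
  have hv' : Q v ≠ 0 := hv ▸ hc
  by_cases he : refl Q u = refl Q v
  · exact iff_of_true (he ▸ Commute.refl _) (Or.inl he)
  rw [or_iff_right he, ← commute_iff hQ hu' (hu.trans hv.symm) (fun e => he (by rw [e]))
    (fun e => he (by rw [e, refl_neg hu'])), ← mat_refl hu', ← mat_refl hv']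
  constructor
  · intro h; exact congrArg mat h.eq
  · intro h; exact eq_of_mat h.eq

theorem exists_not_orth_both (hn : 5 ≤ n) (hQ : Q.polarBilin.Nondegenerate) (hc : c ≠ 0)
    {u v : Fin n → ZMod 3} (hu : Q u = c) (hv : Q v = c) (huv : polar ⇑Q u v = 0) :
    ∃ w, Q w = c ∧ polar ⇑Q u w ≠ 0 ∧ polar ⇑Q v w ≠ 0 := by
  have hp : LinearIndependent (ZMod 3) ![u, v] := by
    rw [LinearIndependent.pair_iff' (fun e => hc (by rw [← hu, e]; simp))]
    intro t ht
    rw [← ht, polar_smul_right, polar_self', hu, smul_eq_mul] at huv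
    have : t = 0 := (mul_eq_zero.1 huv).resolve_right (mul_ne_zero two_ne hc)
    rw [this, zero_smul] at ht
    exact hc (by rw [← hv, ← ht]; simp)
  have hrad : ∀ x ∈ Submodule.span (ZMod 3) (Set.range ![u, v]),
      (∀ i, polar ⇑Q (![u, v] i) x = 0) → x = 0 := by
    intro x hx h
    rw [Submodule.mem_span_range_iff_exists_fun] at hx
    obtain ⟨a, rfl⟩ := hx
    have h0 := h 0
    have h1 := h 1
    simp only [Fin.sum_univ_two, Matrix.cons_val_zero, Matrix.cons_val_one,
      polar_add_right, polar_smul_right, polar_self', hu, hv, huv, polar_comm (⇑Q) v u, smul_eq_mul,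
      mul_zero, add_zero, zero_add, mul_eq_zero, two_ne, hc, or_false] at h0 h1
    simp [Fin.sum_univ_two, h0, h1]
  obtain ⟨y, hy, hpy⟩ := exists_value_orth two_ne hQ hp hrad (by simp; omega) (-c)
  have hyu : polar ⇑Q u y = 0 := by simpa using hpy 0
  have hyv : polar ⇑Q v y = 0 := by simpa using hpy 1
  refine ⟨u + v + y, ?_, ?_, ?_⟩
  · rw [map_add', map_add', polar_add_left, hu, hv, hy, huv, hyu, hyv]; ring
  · rw [polar_add_right, polar_add_right, polar_self', hu, huv, hyu, add_zero, add_zero]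
    exact mul_ne_zero two_ne hc
  · rw [polar_add_right, polar_add_right, polar_self', hv, polar_comm (⇑Q) v u, huv, hyv, zero_add,
      add_zero]
    exact mul_ne_zero two_ne hc

theorem mem_cls_refl {v : Fin n → ZMod 3} (hv : Q v = c) (hc : c ≠ 0) :
    refl Q v ∈ Cfsg.reflectionsOfNorm (⇑Q) c := (mem_norm_iff hc).2 ⟨v, hv, rfl⟩

theorem isClass (hn : 5 ≤ n) (hQ : Q.polarBilin.Nondegenerate) (hc : c ≠ 0) :
    Cfsg.IsThreeTranspositionClass (cls Q c) := by
  have hsub : ∀ v, Q v = c → refl Q v ∈ Cfsg.reflectionSubgroup (⇑Q) c :=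
    fun v hv => Subgroup.subset_closure (mem_cls_refl hv hc)
  have h2 : ∀ v, Q v = c → orderOf (refl Q v) = 2 := fun v hv =>
    haveI : Fact (Nat.Prime 2) := ⟨Nat.prime_two⟩
    orderOf_eq_prime (by rw [pow_two]; exact refl_mul_self (hv ▸ hc)) (refl_ne_one hQ (hv ▸ hc))
  have hset : Cfsg.IsThreeTranspositionSet (Cfsg.reflectionsOfNorm (⇑Q) c) := by
    refine ⟨fun g hg => ?_, fun g hg h hh => ?_⟩
    · obtain ⟨v, hv, rfl⟩ := (mem_norm_iff hc).1 hg; exact h2 v hv
    · obtain ⟨u, hu, rfl⟩ := (mem_norm_iff hc).1 hg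
      obtain ⟨v, hv, rfl⟩ := (mem_norm_iff hc).1 hh
      have su := refl_mul_self (Q := Q) (v := u) (hu ▸ hc)
      have sv := refl_mul_self (Q := Q) (v := v) (hv ▸ hc)
      by_cases hcm : Commute (refl Q u) (refl Q v)
      · left; rw [hcm.mul_pow, pow_two, pow_two, su, sv, one_mul]
      · right
        have hb : polar ⇑Q u v ≠ 0 := fun e => hcm ((commute_cls hQ hc hu hv).2 (Or.inr e))
        have br := refl_braid hu hv hc hb
        calc (refl Q u * refl Q v) ^ 3 = (refl Q u * refl Q v * refl Q u) *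
              (refl Q v * refl Q u * refl Q v) := by simp [pow_succ, mul_assoc]
          _ = (refl Q v * refl Q u * refl Q v) * (refl Q v * refl Q u * refl Q v) := by rw [br]
          _ = 1 := by
              rw [show refl Q v * refl Q u * refl Q v * (refl Q v * refl Q u * refl Q v) =
                refl Q v * (refl Q u * (refl Q v * refl Q v) * refl Q u) * refl Q v by
                simp only [mul_assoc], sv, mul_one, su, mul_one, sv]
  have hset' : Cfsg.IsThreeTranspositionSet (cls Q c) := set_subgroup hset _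
  obtain ⟨u, hu⟩ := exists_value two_ne hQ (by simp; omega : 2 ≤ Fintype.card (Fin n)) c
  refine ⟨hset', ⟨⟨refl Q u, hsub u hu⟩, mem_cls_refl hu hc, ?_⟩,
    Subgroup.closure_closure_coe_preimage⟩
  have link : ∀ a b (ha : Q a = c) (hb : Q b = c), polar ⇑Q a b ≠ 0 →
      IsConj (⟨refl Q a, hsub a ha⟩ : ↥(Cfsg.reflectionSubgroup (⇑Q) c)) ⟨refl Q b, hsub b hb⟩ := by
    intro a b ha hb hab
    refine isConj_iff.2 ⟨⟨refl Q a, hsub a ha⟩ * ⟨refl Q b, hsub b hb⟩, Subtype.ext ?_⟩
    push_cast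
    rw [_root_.mul_inv_rev, refl_inv (hb ▸ hc), refl_inv (ha ▸ hc)]
    calc refl Q a * refl Q b * refl Q a * (refl Q b * refl Q a) =
          refl Q b * refl Q a * refl Q b * (refl Q b * refl Q a) := by rw [refl_braid ha hb hc hab]
      _ = refl Q b * (refl Q a * (refl Q b * refl Q b) * refl Q a) := by simp only [mul_assoc]
      _ = refl Q b := by
          rw [refl_mul_self (hb ▸ hc), mul_one, refl_mul_self (ha ▸ hc), mul_one]
  ext g
  constructor
  · intro hg
    obtain ⟨v, hv, hgv⟩ := (mem_norm_iff hc).1 hg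
    have : g = ⟨refl Q v, hsub v hv⟩ := Subtype.ext hgv
    subst this
    show IsConj _ _
    by_cases hb : polar ⇑Q u v = 0
    · obtain ⟨w, hw, h1, h2'⟩ := exists_not_orth_both hn hQ hc hu hv hb
      exact (link u w hu hw h1).trans (link w v hw hv (by rwa [polar_comm]))
    · exact link u v hu hv hb
  · intro hg
    obtain ⟨k, hk⟩ := isConj_iff.1 (show IsConj _ g from hg)
    rw [← hk]
    show _ ∈ Cfsg.reflectionsOfNorm (⇑Q) c
    push_cast
    rw [conj_refl _ (hu ▸ hc)]
    exact mem_cls_refl (by rw [act_Q]; exact hu) hc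

/-- The commutator subgroup is quasisimple and the action on reflections primitive. -/
theorem structure_reflGroup (hn : 5 ≤ n) (hQ : Q.polarBilin.Nondegenerate) (hc : c ≠ 0) :
    Cfsg.IsQuasisimple (commutator ↥(Cfsg.reflectionSubgroup (⇑Q) c)) ∧
      (commutator ↥(Cfsg.reflectionSubgroup (⇑Q) c)).index ≤ 2 ∧
      Cfsg.generalizedFittingSubgroup ↥(Cfsg.reflectionSubgroup (⇑Q) c) =
        Subgroup.center ↥(Cfsg.reflectionSubgroup (⇑Q) c) ⊔
          commutator ↥(Cfsg.reflectionSubgroup (⇑Q) c) ∧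
      Cfsg.IsPrimitiveUnderConj (cls Q c) := by
  have hcls := isClass hn hQ hc
  set D := cls Q c with hD
  have rep : ∀ g ∈ D, ∃ v, Q v = c ∧ (g : ↥(Cfsg.isometryGroup (ZMod 3) (⇑Q))) = refl Q v :=
    fun g hg => (mem_norm_iff hc).1 hg
  have mk : ∀ v, Q v = c → ∃ g ∈ D, (g : ↥(Cfsg.isometryGroup (ZMod 3) (⇑Q))) = refl Q v := fun v hv =>
    ⟨⟨refl Q v, Subgroup.subset_closure (mem_cls_refl hv hc)⟩, mem_cls_refl hv hc, rfl⟩
  have comm : ∀ (g h : ↥(Cfsg.reflectionSubgroup (⇑Q) c)) u v, Q u = c → Q v = c → (g : ↥(Cfsg.isometryGroup (ZMod 3) (⇑Q))) = refl Q u →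
      (h : ↥(Cfsg.isometryGroup (ZMod 3) (⇑Q))) = refl Q v →
      (Commute g h ↔ refl Q u = refl Q v ∨ polar ⇑Q u v = 0) := by
    intro g h u v hu hv hg hh
    rw [← commute_cls hQ hc hu hv, ← hg, ← hh]
    exact ⟨fun e => congrArg Subtype.val e.eq, fun e => Subtype.ext e.eq⟩
  -- a degenerate plane: a vector of norm `c` orthogonal to `u` only
  have only : ∀ u v, Q u = c → Q v = c → polar ⇑Q u v ≠ 0 → refl Q u ≠ refl Q v →
      ∃ e, Q e = c ∧ polar ⇑Q u e = 0 ∧ polar ⇑Q v e = 1 := by
    intro u v hu hv hb hne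
    have hli : LinearIndependent (ZMod 3) ![u, v] := by
      rw [LinearIndependent.pair_iff' (fun e => hc (by rw [← hu, e]; simp))]
      intro t ht
      have ht0 : t ≠ 0 := fun e => hb (by rw [← ht, e]; simp)
      exact hne (by rw [← ht, refl_smul (hu ▸ hc) ht0])
    obtain ⟨y, hy⟩ := exists_polar_eq hQ hli ![0, 1]
    have hyu : polar ⇑Q u y = 0 := by simpa using hy 0
    have hyv : polar ⇑Q v y = 1 := by simpa using hy 1
    set s := c * polar ⇑Q u v with hs
    set r := v + s • u with hr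
    have hss : ∀ c b : ZMod 3, c ≠ 0 → b ≠ 0 →
        c + c * b * (c * b) * c + c * b * b = 0 ∧ b + c * b * (2 * c) = 0 ∧ 2 * c + c * b * b = 0 := by
      decide
    obtain ⟨z1, z2, z3⟩ := hss c _ hc hb
    have hQr : Q r = 0 := by
      rw [hr, map_add', Reflections.map_smul', polar_smul_right, polar_comm (⇑Q) v u, hv, hu, smul_eq_mul]
      exact z1
    have hur : polar ⇑Q u r = 0 := by
      rw [hr, polar_add_right, polar_smul_right, polar_self', hu, smul_eq_mul]; exact z2
    have hvr : polar ⇑Q v r = 0 := by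
      rw [hr, polar_add_right, polar_smul_right, polar_self', hv, polar_comm (⇑Q) v u, smul_eq_mul]
      exact z3
    have hyr : polar ⇑Q y r = 1 := by
      rw [hr, polar_add_right, polar_smul_right, polar_comm (⇑Q) y v, polar_comm (⇑Q) y u, hyu, hyv]
      simp
    refine ⟨y + (c - Q y) • r, ?_, ?_, ?_⟩
    · rw [map_add', Reflections.map_smul', hQr, polar_smul_right, hyr, smul_eq_mul]; ring
    · rw [polar_add_right, polar_smul_right, hyu, hur, smul_zero, add_zero]
    · rw [polar_add_right, polar_smul_right, hyv, hvr, smul_zero, add_zero]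
  have hD2 : ∃ a ∈ D, ∃ b ∈ D, a ≠ b := by
    obtain ⟨u, hu⟩ := exists_value two_ne hQ (by simp; omega : 2 ≤ Fintype.card (Fin n)) c
    have hp : LinearIndependent (ZMod 3) ![u] :=
      (linearIndependent_unique_iff).2 (by simpa using fun e => hc (by rw [← hu, e]; simp))
    obtain ⟨v, hv, hpv⟩ := exists_value_orth two_ne hQ hp (fun x hx h => by
      rw [Submodule.mem_span_range_iff_exists_fun] at hx
      obtain ⟨a, rfl⟩ := hx
      have h0 := h 0
      simp only [Fin.sum_univ_one, Matrix.cons_val_zero, polar_smul_right, polar_self', hu,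
        smul_eq_mul, mul_eq_zero, two_ne, hc, or_false] at h0
      simp [h0]) (by simp; omega) c
    obtain ⟨g, hg, hgu⟩ := mk u hu
    obtain ⟨h, hh, hhv⟩ := mk v hv
    refine ⟨g, hg, h, hh, fun e => ?_⟩
    have he : refl Q u = refl Q v := by rw [← hgu, ← hhv, e]
    have huv : polar ⇑Q u v = 0 := by simpa using hpv 0
    rcases refl_inj hQ (hu ▸ hc) (hv ▸ hc) he with e' | e' <;>
      simp [e', polar_self', hu, two_ne, hc] at huv
  -- the classes V and W are trivial
  have vtriv : ∀ d ∈ D, ∀ e, VRel D d e → e = d := by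
    intro d hd e he
    by_contra hne
    obtain ⟨u, hu, hdu⟩ := rep d hd
    obtain ⟨v, hv, hev⟩ := rep e he.1
    have hne' : refl Q u ≠ refl Q v := fun h => hne (Subtype.ext (by rw [hdu, hev, h]))
    have hb : polar ⇑Q u v = 0 :=
      ((comm d e u v hu hv hdu hev).1 (vRel_commute hd he)).resolve_left hne'
    obtain ⟨z, hz0, hzq, hz⟩ := exists_singular_orth two_ne Q ![u, v] (by simp; omega)
    have hzu : polar ⇑Q u z = 0 := by simpa using hz 0
    have hzv : polar ⇑Q v z = 0 := by simpa using hz 1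
    have hw : Q (v + z) = c := by rw [map_add', hv, hzq, hzv]; ring
    obtain ⟨f, hf, hfw⟩ := mk _ hw
    have hdf : Commute d f := (comm d f u _ hu hw hdu hfw).2
      (Or.inr (by rw [polar_add_right, hb, hzu, add_zero]))
    rcases (comm e f v _ hv hw hev hfw).1 ((he.2 f hf).2 hdf) with h | h
    · rcases refl_inj hQ (hv ▸ hc) (hw ▸ hc) h with h' | h'
      · exact hz0 (by simpa using h')
      · have hz' : z = (-2 : ZMod 3) • v := by linear_combination (norm := module) h'
        rw [hz', polar_smul_right, polar_self', hv, smul_eq_mul] at hzv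
        exact mul_ne_zero (by decide : (-2 : ZMod 3) ≠ 0) (mul_ne_zero two_ne hc) hzv
    · rw [polar_add_right, polar_self', hv, hzv, add_zero] at h
      exact mul_ne_zero two_ne hc h
  have wtriv : ∀ d ∈ D, ∀ e, WRel D d e → e = d := by
    intro d hd e he
    by_contra hne
    obtain ⟨u, hu, hdu⟩ := rep d hd
    obtain ⟨v, hv, hev⟩ := rep e he.1
    have hne' : refl Q u ≠ refl Q v := fun h => hne (Subtype.ext (by rw [hdu, hev, h]))
    have hb : polar ⇑Q u v ≠ 0 := fun h =>
      wRel_not_commute he hne ((comm d e u v hu hv hdu hev).2 (Or.inr h))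
    obtain ⟨w, hw, hwu, hwv⟩ := only u v hu hv hb hne'
    obtain ⟨f, hf, hfw⟩ := mk w hw
    have hdf : Commute d f := (comm d f u w hu hw hdu hfw).2 (Or.inr hwu)
    have hfd : f ≠ d := by
      intro h
      have he' : refl Q u = refl Q w := by rw [← hdu, ← hfw, h]
      rcases refl_inj hQ (hu ▸ hc) (hw ▸ hc) he' with h' | h' <;>
        simp [h', polar_self', hu, two_ne, hc] at hwu
    obtain ⟨hfe, hef⟩ := ((wRel_iff.1 he).2 f hf).1 ⟨hfd, hdf⟩
    rcases (comm e f v w hv hw hev hfw).1 hef with h | h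
    · exact hfe (Subtype.ext (by rw [hfw, hev, h]))
    · rw [hwv] at h; exact one_ne_zero h
  have core : Cfsg.pCore 2 ↥(Cfsg.reflectionSubgroup (⇑Q) c) ≤ Subgroup.center _ ∧
      Cfsg.pCore 3 ↥(Cfsg.reflectionSubgroup (⇑Q) c) ≤ Subgroup.center _ := by
    obtain ⟨d, hd, -⟩ := hcls.2.1
    constructor
    · by_contra h
      obtain ⟨g, hg, hne⟩ := exists_moved_of_not_central hcls h hd
      exact hne (vtriv d hd _ (vRel_of_mul_mem_pCore hcls.1 hd (class_invariant hcls g d hd)
        (conj_mul_mem_pCore hcls.1 hd hg)))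
    · by_contra h
      obtain ⟨g, hg, hne⟩ := exists_moved_of_not_central hcls h hd
      exact hne (wtriv d hd _ (wRel_of_mul_mem_pCore hcls.1 hd (class_invariant hcls g d hd)
        (conj_mul_mem_pCore hcls.1 hd hg)))
  -- connectivity
  have hadj : ∀ (x y : D) u v, Q u = c → Q v = c →
      ((x : ↥(Cfsg.reflectionSubgroup (⇑Q) c)) : ↥(Cfsg.isometryGroup (ZMod 3) (⇑Q))) = refl Q u →
      ((y : ↥(Cfsg.reflectionSubgroup (⇑Q) c)) : ↥(Cfsg.isometryGroup (ZMod 3) (⇑Q))) = refl Q v →
      polar ⇑Q u v = 0 → (Cfsg.commutingGraph D).Reachable x y := by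
    intro x y u v hu hv hx hy h
    by_cases hxy : x = y
    · rw [hxy]
    refine SimpleGraph.Adj.reachable ?_
    rw [Cfsg.commutingGraph, SimpleGraph.fromRel_adj]
    exact ⟨hxy, Or.inl ((comm _ _ u v hu hv hx hy).2 (Or.inr h))⟩
  haveI : Nonempty D := by obtain ⟨d, hd, -⟩ := hcls.2.1; exact ⟨⟨d, hd⟩⟩
  have hcon : (Cfsg.commutingGraph D).Connected := by
    refine ⟨fun x y => ?_⟩
    obtain ⟨u, hu, hxu⟩ := rep x x.2
    obtain ⟨v, hv, hyv⟩ := rep y y.2
    by_cases hb : polar ⇑Q u v = 0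
    · exact hadj x y u v hu hv hxu hyv hb
    by_cases hxy : refl Q u = refl Q v
    · rw [show x = y from Subtype.ext (Subtype.ext (by rw [hxu, hyv, hxy]))]
    obtain ⟨e, he, heu, hev⟩ := only u v hu hv hb hxy
    set r := v + (c * polar ⇑Q u v) • u with hr
    have hss : ∀ c b : ZMod 3, c ≠ 0 → b ≠ 0 → b + c * b * (2 * c) = 0 := by decide
    have hur : polar ⇑Q u r = 0 := by
      rw [hr, polar_add_right, polar_smul_right, polar_self', hu, smul_eq_mul]; exact hss c _ hc hb
    have her : polar ⇑Q e r = 1 := by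
      rw [hr, polar_add_right, polar_smul_right, polar_comm (⇑Q) e v, polar_comm (⇑Q) e u, heu, hev]
      simp
    have hrr : polar ⇑Q r r = 0 := by
      have z : ∀ c b : ZMod 3, c ≠ 0 → b ≠ 0 → 2 * c + c * b * b = 0 := by decide
      conv_lhs => arg 3; rw [hr]
      rw [polar_add_right, polar_smul_right, polar_comm (⇑Q) r u, hur, smul_zero, add_zero,
        polar_comm (⇑Q) r v, hr, polar_add_right, polar_smul_right, polar_self', hv,
        polar_comm (⇑Q) v u, smul_eq_mul]
      exact z c _ hc hb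
    have hrad : ∀ a : Fin 3 → ZMod 3, (∀ i, polar ⇑Q (![u, r, e] i) (∑ j, a j • ![u, r, e] j) = 0) →
        a = 0 := by
      intro a h
      have h0 := h 0
      have h1 := h 1
      have h2 := h 2
      simp only [Fin.sum_univ_three, Matrix.cons_val_zero, Matrix.cons_val_one, Matrix.cons_val_two,
        Matrix.head_cons, Matrix.tail_cons, polar_add_right, polar_smul_right, polar_self' Q u, hu,
        hur, heu, hrr, polar_comm (⇑Q) r u, polar_comm (⇑Q) e u, polar_comm (⇑Q) r e, her,
        polar_self' Q e, he, smul_eq_mul, mul_zero, mul_one, add_zero, zero_add] at h0 h1 h2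
      have a0 : a 0 = 0 := (mul_eq_zero.1 h0).resolve_right (mul_ne_zero two_ne hc)
      rw [h1, zero_mul, add_zero] at h2
      funext i
      fin_cases i
      · exact a0
      · exact h2
      · exact h1
    have hli : LinearIndependent (ZMod 3) ![u, r, e] := Fintype.linearIndependent_iff.2 fun a ha =>
      congrFun (hrad a fun i => by rw [ha]; simp)
    obtain ⟨w, hw, hpw⟩ := exists_value_orth two_ne hQ hli (fun x hx h => by
      rw [Submodule.mem_span_range_iff_exists_fun] at hx
      obtain ⟨a, rfl⟩ := hx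
      rw [hrad a h]
      simp) (by simp; omega) c
    have hwu : polar ⇑Q u w = 0 := by simpa using hpw 0
    have hwr : polar ⇑Q r w = 0 := by simpa using hpw 1
    have hwv : polar ⇑Q v w = 0 := by
      rw [hr, polar_add_left, polar_smul_left, hwu, smul_zero, add_zero] at hwr
      exact hwr
    obtain ⟨f, hf, hfw⟩ := mk w hw
    exact (hadj x ⟨f, hf⟩ u w hu hw hxu hfw hwu).trans
      (hadj ⟨f, hf⟩ y w v hw hv hfw hyv (by rwa [polar_comm]))
  obtain ⟨L, hn', hq, hidx, hF, hp⟩ := primitive_of_connected hcls hD2 core.1 core.2 hcon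
  haveI := hn'
  have hLG : commutator ↥(Cfsg.reflectionSubgroup (⇑Q) c) = L :=
    le_antisymm (commutator_le_of_index_le_two hidx) (by
      rw [← quasisimple_commutator hq, commutator_def]
      exact Subgroup.commutator_mono le_top le_top)
  rw [hLG, sup_comm]
  exact ⟨hq, hidx, hF, hp⟩

end Cfsg.Agent.FischerSpace.ReflThree
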