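import Cfsg.Agent.Lib.FischerSpace.Orbits
import Cfsg.Agent.Lib.Components.GenFitting
import Cfsg.Agent.SporStructure.NoRadical
import Cfsg.Prelude.Def_CaseTheorems

/-!
# Cores, layer and components of a group generated by a class of 3-transpositions
-/

set_option autoImplicit false

namespace Cfsg.Agent.FischerSpace

open scoped IsMulCommutative

open scoped commutatorElement

variable {G : Type*} [Group G] [Finite G] {D : Set G}

omit [Finite G] in
theorem centralizesSolvable_component {L : Subgroup G} (hL : Cfsg.IsComponent L) :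
    CentralizesSolvable L := fun _ hH hn =>
  Subgroup.commutator_eq_bot_iff_le_centralizer.1 (Components.component_commutator_solvable hL hH hn)

omit [Finite G] in
theorem centralizesSolvable_layer : CentralizesSolvable (Cfsg.layer G) := fun _ hH hn =>
  Components.layer_le_iff.2 fun _ hL =>
    centralizesSolvable_component hL _ hH ((Components.component_le_layer hL).trans hn)

omit [Finite G] in
theorem le_center_of_forall_commute (hgen : Subgroup.closure D = ⊤) {N : Subgroup G}
    (h : ∀ d ∈ D, ∀ g ∈ N, Commute g d) : N ≤ Subgroup.center G := by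
  intro g hg
  rw [Subgroup.mem_center_iff]
  intro x
  have hle : Subgroup.closure D ≤ Subgroup.centralizer {g} := (Subgroup.closure_le _).2 fun d hd =>
    Subgroup.mem_centralizer_singleton_iff.2 (h d hd g hg).eq.symm
  exact Subgroup.mem_centralizer_singleton_iff.1 (hle (by rw [hgen]; exact Subgroup.mem_top x))

omit [Finite G] in
/-- A non-central subgroup is moved by every member of a generating class that fixes it. -/
theorem exists_moved_of_not_central (hD : Cfsg.IsThreeTranspositionClass D) {N : Subgroup G} [N.Normal]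
    (h : ¬ N ≤ Subgroup.center G) {d : G} (hd : d ∈ D) : ∃ g ∈ N, g * d * g⁻¹ ≠ d := by
  by_contra hall
  push Not at hall
  refine h (le_center_of_forall_commute hD.2.2 fun e he g hg => ?_)
  obtain ⟨x, rfl⟩ := class_isConj hD hd he
  have h1 : x⁻¹ * g * x ∈ N := by simpa using ‹N.Normal›.conj_mem g hg x⁻¹
  have h2 : Commute (x⁻¹ * g * x) d := mul_inv_eq_iff_eq_mul.1 (hall _ h1)
  have h3 := (commute_conj_iff x _ _).2 h2
  rwa [show x * (x⁻¹ * g * x) * x⁻¹ = g by group] at h3

omit [Finite G] in
theorem eq_bot_of_perfect_le_center {E : Subgroup G} (hperf : ⁅E, E⁆ = E)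
    (h : E ≤ Subgroup.center G) : E = ⊥ := by
  rw [← hperf, Subgroup.commutator_eq_bot_iff_le_centralizer]
  exact h.trans (Subgroup.center_le_centralizer _)

theorem layer_eq_bot_of_not_central (hD : Cfsg.IsThreeTranspositionClass D) {p : ℕ} [Fact p.Prime]
    (h : ¬ Cfsg.pCore p G ≤ Subgroup.center G) : Cfsg.layer G = ⊥ := by
  refine eq_bot_of_perfect_le_center Components.layer_commutator_eq_self
    (le_center_of_forall_commute hD.2.2 fun d hd => ?_)
  obtain ⟨n, hn, hne⟩ := exists_moved_of_not_central hD h hd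
  have hc := class_invariant hD
  refine centralizes_of_pair hD.1 hc Components.layer_commutator_eq_self centralizesSolvable_layer hd
    (hc n d hd) hne ?_ fun g hg => ?_
  · rw [Subgroup.normalizer_eq_top_iff.2 inferInstance]; exact Subgroup.mem_top d
  haveI : Group.IsNilpotent (Cfsg.pCore p G) := (Thompson.isPGroup_pCore (p := p) (G := G)).isNilpotent
  have hcen := Components.layer_le_centralizer_of_isSolvable (Cfsg.pCore p G) inferInstance
  exact (Subgroup.mem_centralizer_iff.1 (hcen hg) _ (conj_mul_mem_pCore hD.1 hd hn)).symm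

theorem pCore_two_or_three_central (hD : Cfsg.IsThreeTranspositionClass D) :
    Cfsg.pCore 2 G ≤ Subgroup.center G ∨ Cfsg.pCore 3 G ≤ Subgroup.center G := by
  by_contra h
  push Not at h
  obtain ⟨d, hd, -⟩ := hD.2.1
  have hc := class_invariant hD
  obtain ⟨n, hn, hne⟩ := exists_moved_of_not_central hD h.1 hd
  obtain ⟨m, hm, hme⟩ := exists_moved_of_not_central hD h.2 hd
  have hv := vRel_of_mul_mem_pCore hD.1 hd (hc n d hd) (conj_mul_mem_pCore hD.1 hd hn)
  have hw := wRel_of_mul_mem_pCore hD.1 hd (hc m d hd) (conj_mul_mem_pCore hD.1 hd hm)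
  exact hme (vRel_or_wRel_trivial hd hv hne hw)

theorem pCore_le_center_of_gt_three (hD : Cfsg.IsThreeTranspositionClass D) {p : ℕ} (hp : p.Prime)
    (hp3 : 3 < p) : Cfsg.pCore p G ≤ Subgroup.center G := by
  haveI : Fact p.Prime := ⟨hp⟩
  refine le_center_of_forall_commute hD.2.2 fun d hd g hg => ?_
  refine (centralizes_pGroup hD.1 (class_invariant hD) hp hp3 Thompson.isPGroup_pCore hd ?_ g hg).symm
  rw [Subgroup.normalizer_eq_top_iff.2 inferInstance]
  exact Subgroup.mem_top d

theorem fitting_le_center (hD : Cfsg.IsThreeTranspositionClass D)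
    (h2 : Cfsg.pCore 2 G ≤ Subgroup.center G) (h3 : Cfsg.pCore 3 G ≤ Subgroup.center G) :
    Cfsg.fittingSubgroup G ≤ Subgroup.center G := by
  haveI : Group.IsNilpotent (Cfsg.fittingSubgroup G) := Fitting.fitting_isNilpotent
  haveI hFn : (Cfsg.fittingSubgroup G).Normal := Thompson.sSup_normal fun _ h => h.1
  set F := Cfsg.fittingSubgroup G
  have hidx : (Subgroup.center G).relIndex F = 1 := by
    by_contra hne
    obtain ⟨p, hp, hdvd⟩ := Nat.exists_prime_and_dvd hne
    haveI : Fact p.Prime := ⟨hp⟩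
    obtain ⟨P⟩ := (inferInstance : Nonempty (Sylow p F))
    haveI : (P : Subgroup F).Normal :=
      Sylow.normal_of_normalizerCondition Group.normalizerCondition_of_isNilpotent P
    haveI : (P : Subgroup F).Characteristic := P.characteristic_of_normal ‹_›
    have hcen : Cfsg.pCore p G ≤ Subgroup.center G := by
      rcases lt_or_ge 3 p with h | h
      · exact pCore_le_center_of_gt_three hD hp h
      · interval_cases p
        · exact absurd hp Nat.not_prime_zero
        · exact absurd hp Nat.not_prime_one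
        · exact h2
        · exact h3
    have hle : (P : Subgroup F).map F.subtype ≤ Subgroup.center G :=
      (Thompson.le_pCore (Thompson.map_subtype_normal_of_characteristic F _)
        (P.isPGroup'.map F.subtype)).trans hcen
    have hPle : (P : Subgroup F) ≤ (Subgroup.center G).subgroupOf F := fun x hx => hle ⟨x, hx, rfl⟩
    exact P.not_dvd_index (hdvd.trans (Subgroup.index_dvd_of_le hPle))
  exact Subgroup.relIndex_eq_one.1 hidx

theorem layer_ne_bot (hD : Cfsg.IsThreeTranspositionClass D) (hD2 : ∃ a ∈ D, ∃ b ∈ D, a ≠ b)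
    (h2 : Cfsg.pCore 2 G ≤ Subgroup.center G) (h3 : Cfsg.pCore 3 G ≤ Subgroup.center G) :
    Cfsg.layer G ≠ ⊥ := by
  intro hbot
  have hF : Cfsg.generalizedFittingSubgroup G ≤ Subgroup.center G := by
    rw [Cfsg.generalizedFittingSubgroup, hbot, bot_sup_eq]
    exact fitting_le_center hD h2 h3
  obtain ⟨a, ha, hb⟩ := hD2
  obtain ⟨e, -, hae⟩ := exists_not_commute hD ⟨a, ha, hb⟩ ha
  apply hae
  have hmem : a ∈ Subgroup.centralizer (Cfsg.generalizedFittingSubgroup G : Set G) :=
    Subgroup.mem_centralizer_iff.2 fun x hx => (Subgroup.mem_center_iff.1 (hF hx) a).symm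
  exact ((Subgroup.mem_center_iff.1 (hF (Components.centralizer_generalizedFitting_le hmem))) e).symm

/-- The trichotomy. -/
theorem trichotomy (hD : Cfsg.IsThreeTranspositionClass D) (hD2 : ∃ a ∈ D, ∃ b ∈ D, a ≠ b) :
    (¬ Cfsg.pCore 2 G ≤ Subgroup.center G ∧ Cfsg.pCore 3 G ≤ Subgroup.center G ∧ Cfsg.layer G = ⊥) ∨
    (Cfsg.pCore 2 G ≤ Subgroup.center G ∧ ¬ Cfsg.pCore 3 G ≤ Subgroup.center G ∧ Cfsg.layer G = ⊥) ∨
    (Cfsg.pCore 2 G ≤ Subgroup.center G ∧ Cfsg.pCore 3 G ≤ Subgroup.center G ∧ Cfsg.layer G ≠ ⊥) := by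
  haveI : Fact (Nat.Prime 2) := ⟨Nat.prime_two⟩
  haveI : Fact (Nat.Prime 3) := ⟨Nat.prime_three⟩
  by_cases h2 : Cfsg.pCore 2 G ≤ Subgroup.center G <;>
    by_cases h3 : Cfsg.pCore 3 G ≤ Subgroup.center G
  · exact Or.inr (Or.inr ⟨h2, h3, layer_ne_bot hD hD2 h2 h3⟩)
  · exact Or.inr (Or.inl ⟨h2, h3, layer_eq_bot_of_not_central hD h3⟩)
  · exact Or.inl ⟨h2, h3, layer_eq_bot_of_not_central hD h2⟩
  · exact absurd (pCore_two_or_three_central hD) (by tauto)

/-- Every member normalizes every component. -/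
theorem normalizes_component (hD : Cfsg.IsThreeTranspositionClass D) {L : Subgroup G}
    (hL : Cfsg.IsComponent L) {d : G} (hd : d ∈ D) : d ∈ Subgroup.normalizer (L : Set G) := by
  have hc := class_invariant hD
  by_contra hn
  have hne : L.map (MulAut.conj d).toMonoidHom ≠ L := fun e =>
    hn (Components.map_conj_eq_iff_mem_normalizer.1 e)
  have hcen := Components.component_le_centralizer hL (Components.component_map_conj d hL) hne.symm
  have hsmall : ∀ g : L, g ^ 2 ∈ Subgroup.center L ∨ g ^ 3 ∈ Subgroup.center L := by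
    intro g
    have hgd : d * (g : G) * d ∈ L.map (MulAut.conj d).toMonoidHom :=
      ⟨g, g.2, by simp [inv_eq hD.1 hd]⟩
    have hcomm : Commute (d * (g : G) * d) (g : G) := Subgroup.mem_centralizer_iff.1 (hcen g.2) _ hgd
    have hpow : ∀ k : ℕ, (d * ((g : G) * d * (g : G)⁻¹)) ^ k = 1 → g ^ k ∈ Subgroup.center L := by
      intro k hk
      rw [show d * ((g : G) * d * (g : G)⁻¹) = (d * g * d) * (g : G)⁻¹ by simp only [mul_assoc],
        hcomm.inv_right.mul_pow, inv_pow, mul_inv_eq_one] at hk
      have hmem : (g : G) ^ k ∈ L.map (MulAut.conj d).toMonoidHom := hk ▸ pow_mem hgd k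
      rw [Subgroup.mem_center_iff]
      intro x
      apply Subtype.ext
      push_cast
      exact (Subgroup.mem_centralizer_iff.1 (hcen x.2) _ hmem).symm
    exact (hD.1.2 d hd _ (hc g d hd)).imp (hpow 2) (hpow 3)
  obtain ⟨hperf, hsimple⟩ := hL.2
  haveI := hsimple
  refine SporStructure.commutator_ne_top_of_sq_or_cube (G := L ⧸ Subgroup.center L) ?_ ?_
  · intro s
    induction s using QuotientGroup.induction_on with
    | _ g =>
      exact (hsmall g).imp (fun h => by rw [← QuotientGroup.mk_pow]; exact (QuotientGroup.eq_one_iff _).2 h)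
        (fun h => by rw [← QuotientGroup.mk_pow]; exact (QuotientGroup.eq_one_iff _).2 h)
  · have h1 : Subgroup.map (QuotientGroup.mk' (Subgroup.center L)) (commutator L) =
        commutator (L ⧸ Subgroup.center L) := by
      rw [commutator_def, Subgroup.map_commutator, ← MonoidHom.range_eq_map,
        MonoidHom.range_eq_top.2 (QuotientGroup.mk'_surjective _), commutator_def]
    rw [← h1, hperf.commutator_eq_top, ← MonoidHom.range_eq_map,
      MonoidHom.range_eq_top.2 (QuotientGroup.mk'_surjective _)]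

theorem component_normal (hD : Cfsg.IsThreeTranspositionClass D) {L : Subgroup G}
    (hL : Cfsg.IsComponent L) : L.Normal :=
  Subgroup.normalizer_eq_top_iff.1 (top_le_iff.1 (hD.2.2 ▸ (Subgroup.closure_le _).2
    fun _ hd => normalizes_component hD hL hd))

theorem component_not_centralized (hD : Cfsg.IsThreeTranspositionClass D) {L : Subgroup G}
    (hL : Cfsg.IsComponent L) {d : G} (hd : d ∈ D) : ¬ ∀ g ∈ L, Commute g d := by
  intro h
  haveI := component_normal hD hL
  refine Components.component_ne_bot hL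
    (eq_bot_of_perfect_le_center (Components.component_commutator_eq_self hL)
      (le_center_of_forall_commute hD.2.2 fun e he g hg => ?_))
  obtain ⟨x, rfl⟩ := class_isConj hD hd he
  have h1 : x⁻¹ * g * x ∈ L := by simpa using ‹L.Normal›.conj_mem g hg x⁻¹
  have h3 := (commute_conj_iff x _ _).2 (h _ h1)
  rwa [show x * (x⁻¹ * g * x) * x⁻¹ = g by group] at h3

theorem component_unique (hD : Cfsg.IsThreeTranspositionClass D) {L M : Subgroup G}
    (hL : Cfsg.IsComponent L) (hM : Cfsg.IsComponent M) : L = M := by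
  by_contra hne
  have hc := class_invariant hD
  obtain ⟨d, hd, -⟩ := hD.2.1
  haveI := component_normal hD hL
  haveI := component_normal hD hM
  have hcl := Components.component_le_centralizer hL hM hne
  have ex1 : ∃ g ∈ L, ¬ Commute d (g * d * g⁻¹) := by
    by_contra h
    push Not at h
    exact component_not_centralized hD hL hd (centralizes_of_orbit hD.1 hc
      (Components.component_commutator_eq_self hL) (centralizesSolvable_component hL) hd
      (normalizes_component hD hL hd) (Or.inl h))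
  have ex2 : ∃ g ∈ M, Commute d (g * d * g⁻¹) ∧ g * d * g⁻¹ ≠ d := by
    by_contra h
    push Not at h
    exact component_not_centralized hD hM hd (centralizes_of_orbit hD.1 hc
      (Components.component_commutator_eq_self hM) (centralizesSolvable_component hM) hd
      (normalizes_component hD hM hd) (Or.inr h))
  obtain ⟨g, hg, hgd⟩ := ex1
  obtain ⟨k, hk, hkd, hkne⟩ := ex2
  set c1 := d * (g * d * g⁻¹)
  set c2 := d * (k * d * k⁻¹) with hc2def
  have m1 : c1 ∈ L := by
    have := mul_mem (‹L.Normal›.conj_mem g hg d) (inv_mem hg)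
    simpa [c1, inv_eq hD.1 hd, mul_assoc] using this
  have m2 : c2 ∈ M := by
    have := mul_mem (‹M.Normal›.conj_mem k hk d) (inv_mem hk)
    simpa [hc2def, inv_eq hD.1 hd, mul_assoc] using this
  have hcomm : Commute c1 c2 := (Subgroup.mem_centralizer_iff.1 (hcl m1) c2 m2).symm
  have h13 : c1 ^ 3 = 1 := cube_eq_one hD.1 hd (hc g d hd) hgd
  have h22 : c2 ^ 2 = 1 := (commute_iff_sq hD.1 hd (hc k d hd)).1 hkd
  have hc2 : c2 ≠ 1 := fun h => hkne (by
    have h' := congrArg (d * ·) h
    simpa [hc2def, mul_left_cancel_self hD.1 hd] using h')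
  have hc1 : c1 ^ 2 ≠ 1 := fun h => hgd ((commute_iff_sq hD.1 hd (hc g d hd)).2 h)
  have hgc : Commute g c2 := (Subgroup.mem_centralizer_iff.1 (hcl hg) c2 m2).symm
  have e : d * (g * k * d * (g * k)⁻¹) = c1 * c2 := by
    have e1 : c1 * c2 = c1 * (g * c2 * g⁻¹) := by rw [hgc.eq, mul_inv_cancel_right]
    rw [e1]
    simp only [c1, hc2def, mul_inv_rev, mul_assoc, inv_mul_cancel_left, mul_left_cancel_self hD.1 hd]
  rcases hD.1.2 d hd _ (hc (g * k) d hd) with h | h
  · rw [e, hcomm.mul_pow, h22, mul_one] at h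
    exact hc1 h
  · rw [e, hcomm.mul_pow, h13, one_mul, pow_succ, h22, one_mul] at h
    exact hc2 h

omit [Finite G] in
theorem quasisimple_commutator {L : Subgroup G} (hL : Cfsg.IsQuasisimple L) : ⁅L, L⁆ = L := by
  rw [← Subgroup.map_subtype_commutator, hL.1.commutator_eq_top, ← MonoidHom.range_eq_map,
    Subgroup.range_subtype]

omit [Finite G] in
theorem isComponent_of_normal {L : Subgroup G} [L.Normal] (hL : Cfsg.IsQuasisimple L) :
    Cfsg.IsComponent L :=
  ⟨Subgroup.Normal.isSubnormal inferInstance, hL⟩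

theorem component_structure_width (hD : Cfsg.IsThreeTranspositionClass D) {L : Subgroup G} [L.Normal]
    (hL : Cfsg.IsComponent L) (hnc : ∀ d ∈ D, ¬ ∀ g ∈ L, Commute g d) :
    ∀ a ∈ D, ∀ b ∈ D, a * b * a⁻¹ * b⁻¹ ∈ L → a⁻¹ * b ∈ L := by
  intro a ha b hb h
  have hc := class_invariant hD
  rw [inv_eq hD.1 ha, inv_eq hD.1 hb] at h
  rw [inv_eq hD.1 ha]
  have h2 : (a * b) ^ 2 ∈ L := by
    have e : (a * b) ^ 2 = a * b * a * b := by simp only [pow_two, mul_assoc]
    rwa [e]
  by_cases hab : Commute a b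
  swap
  · have h3 : (a * b) ^ 3 ∈ L := by rw [cube_eq_one hD.1 ha hb hab]; exact one_mem _
    have := mul_mem (inv_mem h2) h3
    rwa [pow_succ (a * b) 2, ← mul_assoc, inv_mul_cancel, one_mul] at this
  by_contra hnot
  -- every conjugate of `a` under `L` commutes with `b`
  have key : ∀ g ∈ L, Commute (g * a * g⁻¹) b := by
    intro g hg
    by_contra hncomm
    apply hnot
    have e1 : ((g * a * g⁻¹ : G) : G ⧸ L) = (a : G ⧸ L) := by
      rw [QuotientGroup.mk_mul, QuotientGroup.mk_mul, QuotientGroup.mk_inv,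
        (QuotientGroup.eq_one_iff g).2 hg, inv_one, one_mul, mul_one]
    have h3 := congrArg (fun x : G => (x : G ⧸ L)) (cube_eq_one hD.1 (hc g a ha) hb hncomm)
    have h2' : ((a * b : G) : G ⧸ L) ^ 2 = 1 := by
      rw [← QuotientGroup.mk_pow]; exact (QuotientGroup.eq_one_iff _).2 h2
    simp only [QuotientGroup.mk_pow, QuotientGroup.mk_mul, QuotientGroup.mk_one, e1] at h3
    rw [pow_succ, ← QuotientGroup.mk_mul, h2', one_mul] at h3
    exact (QuotientGroup.eq_one_iff _).1 h3
  -- so `b` centralizes `[L, a]`, hence `L`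
  let S : Set G := {x | ∃ g ∈ L, ∃ k ∈ L, (g * a * g⁻¹) * (k * a * k⁻¹) = x}
  have hSL : Subgroup.closure S ≤ L := by
    rw [Subgroup.closure_le]
    rintro _ ⟨g, hg, k, hk, rfl⟩
    have : g * a * g⁻¹ * (k * a * k⁻¹) = g * (a * (g⁻¹ * k) * a⁻¹) * k⁻¹ := by
      rw [inv_eq hD.1 ha]; group
    rw [this]
    exact mul_mem (mul_mem hg (‹L.Normal›.conj_mem _ (mul_mem (inv_mem hg) hk) a)) (inv_mem hk)
  have hn : (( Subgroup.closure S).subgroupOf L).Normal :=
    (Subgroup.normal_subgroupOf_iff_le_normalizer hSL).2 (closure_normalized (by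
      rintro l hl _ ⟨g, hg, k, hk, rfl⟩
      exact ⟨l * g, mul_mem hl hg, l * k, mul_mem hl hk, by group⟩))
  rcases Components.normal_eq_top_or_le_center hL.2 ((Subgroup.closure S).subgroupOf L) with htop | hcen
  · refine hnc b hb fun g hg => ?_
    have hle : Subgroup.closure S ≤ Subgroup.centralizer {b} := by
      rw [Subgroup.closure_le]
      rintro _ ⟨g, hg, k, hk, rfl⟩
      exact Subgroup.mem_centralizer_singleton_iff.2 ((key g hg).mul_left (key k hk)).eq
    exact Subgroup.mem_centralizer_singleton_iff.1 (hle (Subgroup.subgroupOf_eq_top.1 htop hg))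
  · -- `L` centralizes `a * gag⁻¹`: all conjugates of `a` under `L` commute
    have hmem : ∀ g ∈ L, a * (g * a * g⁻¹) ∈ Subgroup.closure S := fun g hg =>
      Subgroup.subset_closure ⟨1, one_mem _, g, hg, by simp⟩
    have hz : ∀ g ∈ L, ∀ x ∈ L, Commute x (a * (g * a * g⁻¹)) := fun g hg x hx =>
      congrArg Subtype.val (Subgroup.mem_center_iff.1
        (hcen (show (⟨_, hSL (hmem g hg)⟩ : L) ∈ (Subgroup.closure S).subgroupOf L from hmem g hg))
        ⟨x, hx⟩)
    refine hnc a ha fun g hg => ?_
    by_cases hfix : g * a * g⁻¹ = a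
    · exact mul_inv_eq_iff_eq_mul.1 hfix
    exact centralizes_of_pair hD.1 hc (Components.component_commutator_eq_self hL)
      (centralizesSolvable_component hL) ha (hc g a ha) hfix (normalizes_component hD hL ha) (hz g hg) g hg

theorem component_structure (hD : Cfsg.IsThreeTranspositionClass D) (hD2 : ∃ a ∈ D, ∃ b ∈ D, a ≠ b)
    (h2 : Cfsg.pCore 2 G ≤ Subgroup.center G) (h3 : Cfsg.pCore 3 G ≤ Subgroup.center G) :
    ∃ L : Subgroup G, L.Normal ∧ Cfsg.IsQuasisimple L ∧
      Cfsg.generalizedFittingSubgroup G = L ⊔ Subgroup.center G ∧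
      (L = ⊤ ∨ ∀ a ∈ D, ∀ b ∈ D, a * b * a⁻¹ * b⁻¹ ∈ L → a⁻¹ * b ∈ L) := by
  obtain ⟨L, hL⟩ : ∃ L : Subgroup G, Cfsg.IsComponent L := by
    by_contra h
    push Not at h
    exact layer_ne_bot hD hD2 h2 h3 (Components.layer_eq_bot_iff.2 h)
  haveI := component_normal hD hL
  have hlayer : Cfsg.layer G = L := le_antisymm
    (Components.layer_le_iff.2 fun M hM => (component_unique hD hM hL).le) (Components.component_le_layer hL)
  refine ⟨L, inferInstance, hL.2, ?_, Or.inr (component_structure_width hD hL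
    fun d hd => component_not_centralized hD hL hd)⟩
  rw [Cfsg.generalizedFittingSubgroup, hlayer]
  congr 1
  refine le_antisymm (fitting_le_center hD h2 h3) ?_
  exact le_sSup ⟨inferInstance, inferInstance⟩

end Cfsg.Agent.FischerSpace
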