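import Cfsg.Agent.Lib.FischerSpace.WidthOne

/-!
# Width, Sylow 2-subgroups and normalized p-subgroups
-/

set_option autoImplicit false

namespace Cfsg.Agent.FischerSpace

variable {G : Type*} [Group G] [Finite G] {D : Set G}

theorem width_bddAbove (D : Set G) :
    BddAbove {n : ℕ | ∃ E : Set G, E ⊆ D ∧ E.Finite ∧ (∀ a ∈ E, ∀ b ∈ E, Commute a b) ∧ E.ncard = n} :=
  ⟨Nat.card G, by rintro n ⟨E, -, -, -, rfl⟩; exact Set.ncard_le_card E⟩

theorem le_width {E : Set G} (hE : E ⊆ D) (hcomm : ∀ a ∈ E, ∀ b ∈ E, Commute a b) :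
    E.ncard ≤ Cfsg.commutingWidth D :=
  le_csSup (width_bddAbove D) ⟨E, hE, Set.toFinite E, hcomm, rfl⟩

theorem width_le {w : ℕ}
    (h : ∀ E ⊆ D, (∀ a ∈ E, ∀ b ∈ E, Commute a b) → E.ncard ≤ w) : Cfsg.commutingWidth D ≤ w := by
  refine csSup_le ⟨0, ∅, Set.empty_subset _, Set.finite_empty, by simp, Set.ncard_empty G⟩ ?_
  rintro n ⟨E, hE, -, hcomm, rfl⟩
  exact h E hE hcomm

theorem width_eq_one_iff {d : G} (hd : d ∈ D) :
    Cfsg.commutingWidth D = 1 ↔ ∀ a ∈ D, ∀ b ∈ D, Commute a b → a = b := by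
  constructor
  · intro hw a ha b hb hab
    by_contra hne
    have h := le_width (D := D) (E := {a, b}) (by rintro x (rfl | rfl) <;> assumption) (by
      rintro x (rfl | rfl) y (rfl | rfl)
      exacts [Commute.refl _, hab, hab.symm, Commute.refl _])
    rw [Set.ncard_pair hne, hw] at h
    omega
  · intro h
    refine le_antisymm (width_le fun E hE hcomm => ?_) ?_
    · exact (Set.ncard_le_one (Set.toFinite E)).2 fun a ha b hb =>
        h a (hE ha) b (hE hb) (hcomm a ha b hb)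
    · have := le_width (D := D) (E := {d}) (Set.singleton_subset_iff.2 hd) (by simp)
      rwa [Set.ncard_singleton] at this

/-- Members of a set of 3-transpositions lying in a common 2-subgroup commute. -/
theorem commute_of_mem_twoGroup (hD : Cfsg.IsThreeTranspositionSet D) {T : Subgroup G}
    (hT : IsPGroup 2 T) {a b : G} (ha : a ∈ D) (hb : b ∈ D) (haT : a ∈ T) (hbT : b ∈ T) :
    Commute a b := by
  by_contra h
  obtain ⟨k, hk⟩ := hT ⟨a * b, mul_mem haT hbT⟩
  have hk' : (a * b) ^ 2 ^ k = 1 := by simpa [Subtype.ext_iff] using hk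
  have hdvd : orderOf (a * b) ∣ 2 ^ k := orderOf_dvd_of_pow_eq_one hk'
  rw [orderOf_mul_eq_three hD ha hb h] at hdvd
  have := (Nat.prime_dvd_prime_iff_eq Nat.prime_three Nat.prime_two).1 (Nat.prime_three.dvd_of_dvd_pow hdvd)
  omega

theorem sylow_two_width (hD : Cfsg.IsThreeTranspositionSet D) (hc : Invariant D) (T : Sylow 2 G) :
    IsMulCommutative (Subgroup.closure {d : G | d ∈ D ∧ d ∈ T}) ∧
      {d : G | d ∈ D ∧ d ∈ T}.ncard = Cfsg.commutingWidth D := by
  have : Fact (Nat.Prime 2) := ⟨Nat.prime_two⟩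
  have hcomm : ∀ a ∈ {d : G | d ∈ D ∧ d ∈ T}, ∀ b ∈ {d : G | d ∈ D ∧ d ∈ T}, Commute a b :=
    fun a ha b hb => commute_of_mem_twoGroup hD T.isPGroup' ha.1 hb.1 ha.2 hb.2
  refine ⟨?_, le_antisymm (le_width (fun x hx => hx.1) hcomm) (width_le fun E hE hE' => ?_)⟩
  · exact ⟨⟨fun x y => Subtype.ext
      ((Subgroup.isMulCommutative_closure fun a ha b hb => (hcomm a ha b hb).eq).is_comm.comm x y
        |> congrArg Subtype.val)⟩⟩
  haveI := Subgroup.isMulCommutative_closure (k := E) (fun a ha b hb => (hE' a ha b hb).eq)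
  have hP : IsPGroup 2 (Subgroup.closure E) := by
    rintro ⟨x, hx⟩
    refine ⟨1, ?_⟩
    induction hx using Subgroup.closure_induction with
    | mem x hx => exact Subtype.ext (by push_cast; rw [pow_two, mul_self hD (hE hx)])
    | one => exact Subtype.ext (by push_cast; simp)
    | mul x y hx hy ihx ihy =>
      have e : (⟨x * y, mul_mem hx hy⟩ : Subgroup.closure E) = ⟨x, hx⟩ * ⟨y, hy⟩ := rfl
      rw [pow_one] at ihx ihy ⊢
      have hxy : Commute (⟨x, hx⟩ : Subgroup.closure E) ⟨y, hy⟩ := mul_comm' _ _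
      rw [e, hxy.mul_pow, ihx, ihy, one_mul]
    | inv x hx ihx =>
      have e : (⟨x⁻¹, inv_mem hx⟩ : Subgroup.closure E) = (⟨x, hx⟩)⁻¹ := rfl
      rw [pow_one] at ihx ⊢
      rw [e, inv_pow, ihx, inv_one]
  obtain ⟨Q, hQ⟩ := hP.exists_le_sylow
  obtain ⟨g, hg⟩ := MulAction.exists_smul_eq G Q T
  have hsub : (fun x => g * x * g⁻¹) '' E ⊆ {d : G | d ∈ D ∧ d ∈ T} := by
    rintro _ ⟨x, hx, rfl⟩
    refine ⟨hc g x (hE hx), ?_⟩
    rw [← hg]
    exact Involution.conj_mem_sylow_smul g (hQ (Subgroup.subset_closure hx))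
  rw [← Set.ncard_image_of_injective E (MulAut.conj g).injective]
  exact Set.ncard_le_ncard hsub (Set.toFinite _)

theorem widthOne_iff (hD : Cfsg.IsThreeTranspositionGroup D) {d : G} (hd : d ∈ D) :
    Cfsg.commutingWidth D = 1 ↔ Subgroup.zpowers d ⊔ Cfsg.pCore 3 G = ⊤ := by
  rw [width_eq_one_iff hd]
  constructor
  · intro hw
    rw [eq_top_iff, ← hD.2.2, Subgroup.closure_le]
    intro e he
    have h : d * e ∈ Cfsg.pCore 3 G := widthOne_mul_mem_pCore hD.1 hD.2.1 hw hd he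
    have := mul_mem (Subgroup.mem_sup_left (T := Cfsg.pCore 3 G) (Subgroup.mem_zpowers d))
      (Subgroup.mem_sup_right h)
    rwa [mul_left_cancel_self hD.1 hd] at this
  · intro htop a ha b hb hab
    haveI : Fact (Nat.Prime 3) := ⟨Nat.prime_three⟩
    have hN : IsPGroup 3 (Cfsg.pCore 3 G) := Thompson.isPGroup_pCore
    set N := Cfsg.pCore 3 G
    have notmem : ∀ x ∈ D, x ∉ N := by
      intro x hx hxN
      obtain ⟨k, hk⟩ := hN ⟨x, hxN⟩
      have h2 : orderOf x ∣ 3 ^ k := orderOf_dvd_of_pow_eq_one (by simpa [Subtype.ext_iff] using hk)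
      rw [hD.1.1 x hx] at h2
      have := (Nat.prime_dvd_prime_iff_eq Nat.prime_two Nat.prime_three).1 (Nat.prime_two.dvd_of_dvd_pow h2)
      omega
    have two : ∀ x : G, (x : G ⧸ N) = 1 ∨ (x : G ⧸ N) = (d : G ⧸ N) := by
      intro x
      have hx : x ∈ Subgroup.zpowers d ⊔ N := by rw [htop]; exact Subgroup.mem_top x
      obtain ⟨y, hy, n, hn, rfl⟩ := Subgroup.mem_sup_of_normal_right.1 hx
      obtain ⟨i, rfl⟩ := Subgroup.mem_zpowers_iff.1 hy
      rw [QuotientGroup.mk_mul, (QuotientGroup.eq_one_iff n).2 hn, mul_one]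
      rcases Int.even_or_odd' i with ⟨j, rfl | rfl⟩
      · left
        rw [zpow_mul, zpow_two, mul_self hD.1 hd, one_zpow]; rfl
      · right
        rw [zpow_add, zpow_mul, zpow_two, mul_self hD.1 hd, one_zpow, one_mul, zpow_one]
    have hd' : ∀ x ∈ D, (x : G ⧸ N) = (d : G ⧸ N) := fun x hx =>
      (two x).resolve_left fun h => notmem x hx ((QuotientGroup.eq_one_iff x).1 h)
    have hmem : a * b ∈ N := by
      rw [← QuotientGroup.eq_one_iff, QuotientGroup.mk_mul, hd' a ha, hd' b hb, ← QuotientGroup.mk_mul,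
        mul_self hD.1 hd]
      rfl
    obtain ⟨k, hk⟩ := hN ⟨a * b, hmem⟩
    have h3 : orderOf (a * b) ∣ 3 ^ k := orderOf_dvd_of_pow_eq_one (by simpa [Subtype.ext_iff] using hk)
    have h2 : orderOf (a * b) ∣ 2 := orderOf_dvd_of_pow_eq_one ((commute_iff_sq hD.1 ha hb).1 hab)
    have h1 : orderOf (a * b) = 1 :=
      Nat.eq_one_of_dvd_coprimes (Nat.Coprime.pow_right k (by decide)) h2 h3
    rw [orderOf_eq_one_iff] at h1
    exact (mul_eq_one_iff_eq_inv.1 h1).trans (inv_eq hD.1 hb)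

omit [Finite G] in
theorem centralizes_pGroup (hD : Cfsg.IsThreeTranspositionSet D) (hc : Invariant D) {p : ℕ}
    (hp : p.Prime) (hp3 : 3 < p) {P : Subgroup G} (hP : IsPGroup p P) {d : G} (hd : d ∈ D)
    (hnorm : d ∈ Subgroup.normalizer (P : Set G)) : ∀ x ∈ P, Commute d x := by
  intro x hx
  have hy : d * (x * d * x⁻¹) ∈ P := by
    have h1 : d * x * d⁻¹ ∈ P := (Subgroup.mem_normalizer_iff.1 hnorm x).1 hx
    rw [inv_eq hD hd] at h1
    have := mul_mem h1 (inv_mem hx)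
    simpa only [mul_assoc] using this
  obtain ⟨k, hk⟩ := hP ⟨_, hy⟩
  have hpk : orderOf (d * (x * d * x⁻¹)) ∣ p ^ k :=
    orderOf_dvd_of_pow_eq_one (by simpa [Subtype.ext_iff] using hk)
  have h6 : orderOf (d * (x * d * x⁻¹)) ∣ 6 := by
    rcases hD.2 d hd _ (hc x d hd) with h | h
    · exact (orderOf_dvd_of_pow_eq_one h).trans (by norm_num)
    · exact (orderOf_dvd_of_pow_eq_one h).trans (by norm_num)
  have hcop : Nat.Coprime 6 (p ^ k) := by
    refine Nat.Coprime.pow_right k ((Nat.coprime_comm.1) ((Nat.Prime.coprime_iff_not_dvd hp).2 ?_))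
    intro h
    have := Nat.le_of_dvd (by norm_num) h
    interval_cases p <;> norm_num at *
  have h1 := orderOf_eq_one_iff.1 (Nat.eq_one_of_dvd_coprimes hcop h6 hpk)
  have h2 : d * (d * (x * d * x⁻¹)) = d * 1 := by rw [h1]
  rw [mul_left_cancel_self hD hd, mul_one, mul_inv_eq_iff_eq_mul] at h2
  exact h2.symm

end Cfsg.Agent.FischerSpace
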