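import Cfsg.Agent.Lib.FischerSpace.FourPoints
import Cfsg.Agent.Lib.Involution.BaerSuzuki
import Cfsg.Agent.Lib.Thompson.Cores

/-!
# Sets of 3-transpositions of width one

If no two distinct members commute, the products of two members generate a normal 3-subgroup.
-/

set_option autoImplicit false

namespace Cfsg.Agent.FischerSpace

variable {G : Type*} [Group G] {D : Set G}

namespace FourPoints

/-- Points of the model. -/
abbrev Pt : Type := (ZMod 3 × ZMod 3 × ZMod 3) × ZMod 3

/-- The code of a point. -/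
def enc (v : Pt) : ℕ := v.1.1.val + 3 * v.1.2.1.val + 9 * v.1.2.2.val + 27 * v.2.val

/-- The correction term. -/
def twist (x y : ZMod 3 × ZMod 3 × ZMod 3) : ZMod 3 :=
  (x.2.2 - y.2.2) * (x.1 * y.2.1 - x.2.1 * y.1)

/-- Point reflection in a point with last coordinate zero. -/
def reflPt (g : ZMod 3 × ZMod 3 × ZMod 3) (v : Pt) : Pt := (-g - v.1, -v.2 + twist g v.1)

theorem enc_lt : ∀ v : Pt, enc v < 81 := by decide +kernel

theorem enc_refl : ∀ v : Pt, rfl81 0 (enc v) = enc (reflPt (0, 0, 0) v) ∧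
    rfl81 1 (enc v) = enc (reflPt (1, 0, 0) v) ∧ rfl81 3 (enc v) = enc (reflPt (0, 1, 0) v) ∧
    rfl81 9 (enc v) = enc (reflPt (0, 0, 1) v) := by decide +kernel

theorem lo_scalar : ∀ c : ZMod 3, c + c + c = 0 := by decide

/-- The elements acting on a configuration `p` of points by unipotent affine maps. -/
def unipotent (p : Pt → G) : Subgroup G where
  carrier := {g | ∃ (c : ZMod 3 × ZMod 3 × ZMod 3) (h : ZMod 3 × ZMod 3 × ZMod 3 → ZMod 3),
    ∀ v, g * p v * g⁻¹ = p (v.1 + c, v.2 + h v.1)}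
  one_mem' := ⟨0, 0, fun v => by simp⟩
  mul_mem' := by
    rintro g g' ⟨c, h, hg⟩ ⟨c', h', hg'⟩
    refine ⟨c' + c, fun x => h' x + h (x + c'), fun v => ?_⟩
    rw [show g * g' * p v * (g * g')⁻¹ = g * (g' * p v * g'⁻¹) * g⁻¹ by group, hg', hg]
    simp only [add_assoc]
  inv_mem' := by
    rintro g ⟨c, h, hg⟩
    refine ⟨-c, fun x => -h (x + -c), fun v => ?_⟩
    have := hg (v.1 + -c, v.2 + -h (v.1 + -c))
    simp only [add_assoc, neg_add_cancel, add_zero] at this
    conv_lhs => rw [← this]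
    group

theorem pow_nine_commute {p : Pt → G} {g : G} (hg : g ∈ unipotent p) (v : Pt) :
    Commute (g ^ 9) (p v) := by
  obtain ⟨c, h, hg⟩ := hg
  obtain ⟨H, h3⟩ : ∃ H : ZMod 3 × ZMod 3 × ZMod 3 → ZMod 3,
      ∀ v, g ^ 3 * p v * (g ^ 3)⁻¹ = p (v.1, v.2 + H v.1) := by
    refine ⟨fun x => h x + h (x + c) + h (x + c + c), fun v => ?_⟩
    rw [show g ^ 3 * p v * (g ^ 3)⁻¹ = g * (g * (g * p v * g⁻¹) * g⁻¹) * g⁻¹ by
      simp only [pow_succ, pow_zero, one_mul, mul_inv_rev, mul_assoc], hg, hg, hg]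
    have e : v.1 + c + c + c = v.1 := by
      refine Prod.ext ?_ (Prod.ext ?_ ?_) <;>
        simp only [Prod.fst_add, Prod.snd_add, add_assoc] <;>
        rw [show ∀ a : ZMod 3, a + (a + a) = 0 from by decide, add_zero]
    rw [e]
    simp only [add_assoc]
  have h9 : g ^ 9 * p v * (g ^ 9)⁻¹ = p v := by
    rw [show g ^ 9 * p v * (g ^ 9)⁻¹ =
        g ^ 3 * (g ^ 3 * (g ^ 3 * p v * (g ^ 3)⁻¹) * (g ^ 3)⁻¹) * (g ^ 3)⁻¹ by
      rw [show g ^ 9 = g ^ 3 * g ^ 3 * g ^ 3 by rw [← pow_add, ← pow_add]]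
      simp only [mul_inv_rev, mul_assoc], h3, h3, h3]
    simp only [add_assoc]
    rw [show ∀ a : ZMod 3, a + (a + a) = 0 from by decide, add_zero]
  exact mul_inv_eq_iff_eq_mul.1 h9

end FourPoints

/-- In a set of width one the products of four members in pairs generate a 3-group. -/
theorem widthOne_isPGroup [Finite G] (hD : Cfsg.IsThreeTranspositionSet D) (hc : Invariant D)
    (hw : ∀ a ∈ D, ∀ b ∈ D, Commute a b → a = b) {a b c d : G} (ha : a ∈ D) (hb : b ∈ D)
    (hc' : c ∈ D) (hd : d ∈ D) : IsPGroup 3 (Subgroup.closure ({a * b, c * d} : Set G)) := by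
  let T : D → D → D := fun x y => ⟨(x : G) * y * x, conj_mem hD hc x.2 y.2⟩
  have hself : ∀ x : D, T x x = x := fun x => Subtype.ext (by
    show (x : G) * x * x = x
    rw [mul_self hD x.2, one_mul])
  have hsymm : ∀ x y : D, T x y = T y x := by
    intro x y
    apply Subtype.ext
    show (x : G) * y * x = y * x * y
    by_cases h : Commute (x : G) y
    · rw [hw _ x.2 _ y.2 h]
    · exact braid hD x.2 y.2 h
  have hinv : ∀ x y : D, T x (T x y) = y := fun x y => Subtype.ext (conj_conj_self hD x.2 _)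
  have hdist : ∀ x y z : D, T x (T y z) = T (T x y) (T x z) := by
    intro x y z
    apply Subtype.ext
    show (x : G) * (y * z * y) * x = x * y * x * (x * z * x) * (x * y * x)
    simp only [mul_assoc, mul_left_cancel_self hD x.2]
  obtain ⟨f, fa, fb, fc, fd, hf⟩ :=
    FourPoints.exists_model hself hsymm hinv hdist ⟨a, ha⟩ ⟨b, hb⟩ ⟨c, hc'⟩ ⟨d, hd⟩
  let p : FourPoints.Pt → G := fun v => (f (FourPoints.enc v) : G)
  have act : ∀ v, a * p v * a = p (FourPoints.reflPt (0, 0, 0) v) ∧
      b * p v * b = p (FourPoints.reflPt (1, 0, 0) v) ∧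
      c * p v * c = p (FourPoints.reflPt (0, 1, 0) v) ∧
      d * p v * d = p (FourPoints.reflPt (0, 0, 1) v) := by
    intro v
    obtain ⟨h0, h1, h2, h3⟩ := hf ⟨FourPoints.enc v, FourPoints.enc_lt v⟩
    obtain ⟨e0, e1, e2, e3⟩ := FourPoints.enc_refl v
    rw [e0] at h0; rw [e1] at h1; rw [e2] at h2; rw [e3] at h3
    exact ⟨congrArg Subtype.val h0, congrArg Subtype.val h1, congrArg Subtype.val h2,
      congrArg Subtype.val h3⟩
  have pair : ∀ (x y : G) (g g' : ZMod 3 × ZMod 3 × ZMod 3), x ∈ D → y ∈ D →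
      (∀ v, x * p v * x = p (FourPoints.reflPt g v)) → (∀ v, y * p v * y = p (FourPoints.reflPt g' v)) →
      x * y ∈ FourPoints.unipotent p := by
    intro x y g g' hx hy hgx hgy
    refine ⟨g' - g, fun u => -FourPoints.twist g' u + FourPoints.twist g (-g' - u), fun v => ?_⟩
    rw [mul_inv_rev, inv_eq hD hx, inv_eq hD hy,
      show x * y * p v * (y * x) = x * (y * p v * y) * x by simp only [mul_assoc], hgy, hgx]
    simp only [FourPoints.reflPt]
    congr 1
    refine Prod.ext ?_ ?_
    · show -g - (-g' - v.1) = v.1 + (g' - g)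
      abel
    · show -(-v.2 + FourPoints.twist g' v.1) + FourPoints.twist g (-g' - v.1) =
        v.2 + (-FourPoints.twist g' v.1 + FourPoints.twist g (-g' - v.1))
      abel
  have hab : a * b ∈ FourPoints.unipotent p :=
    pair a b _ _ ha hb (fun v => (act v).1) (fun v => (act v).2.1)
  have hcd : c * d ∈ FourPoints.unipotent p :=
    pair c d _ _ hc' hd (fun v => (act v).2.2.1) (fun v => (act v).2.2.2)
  set H := Subgroup.closure ({a * b, c * d} : Set G) with hH
  have hHU : H ≤ FourPoints.unipotent p := (Subgroup.closure_le _).2 (by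
    rintro x (rfl | rfl)
    · exact hab
    · exact hcd)
  have hcen : ∀ g : H, g ^ 9 ∈ Subgroup.center H := by
    intro g
    have key : H ≤ Subgroup.centralizer {(g : G) ^ 9} := by
      refine (Subgroup.closure_le _).2 ?_
      have k := FourPoints.pow_nine_commute (hHU g.2)
      have ka : Commute ((g : G) ^ 9) a := by
        have := k ((0, 0, 0), 0)
        rwa [show p ((0, 0, 0), 0) = a from congrArg Subtype.val fa] at this
      have kb : Commute ((g : G) ^ 9) b := by
        have := k ((1, 0, 0), 0)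
        rwa [show p ((1, 0, 0), 0) = b from congrArg Subtype.val fb] at this
      have kc : Commute ((g : G) ^ 9) c := by
        have := k ((0, 1, 0), 0)
        rwa [show p ((0, 1, 0), 0) = c from congrArg Subtype.val fc] at this
      have kd : Commute ((g : G) ^ 9) d := by
        have := k ((0, 0, 1), 0)
        rwa [show p ((0, 0, 1), 0) = d from congrArg Subtype.val fd] at this
      rintro x (rfl | rfl)
      · exact Subgroup.mem_centralizer_singleton_iff.2 (ka.mul_right kb).eq.symm
      · exact Subgroup.mem_centralizer_singleton_iff.2 (kc.mul_right kd).eq.symm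
    rw [Subgroup.mem_center_iff]
    intro x
    apply Subtype.ext
    push_cast
    exact Subgroup.mem_centralizer_singleton_iff.1 (key x.2)
  have hquot : IsPGroup 3 (H ⧸ Subgroup.center H) := by
    intro x
    induction x using QuotientGroup.induction_on with
    | _ g => exact ⟨2, by rw [← QuotientGroup.mk_pow]; exact (QuotientGroup.eq_one_iff _).2 (hcen g)⟩
  haveI : Fact (Nat.Prime 3) := ⟨Nat.prime_three⟩
  haveI : Group.IsNilpotent (H ⧸ Subgroup.center H) := hquot.isNilpotent
  haveI : Group.IsNilpotent H := Group.of_quotient_center_nilpotent inferInstance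
  obtain ⟨P⟩ := (inferInstance : Nonempty (Sylow 3 H))
  haveI : (P : Subgroup H).Normal :=
    Sylow.normal_of_normalizerCondition Group.normalizerCondition_of_isNilpotent P
  have hmem : ∀ x : H, x ^ 3 = 1 → x ∈ (P : Subgroup H) := by
    intro x hx
    have hz : IsPGroup 3 (Subgroup.zpowers x) := by
      rintro ⟨y, i, rfl⟩
      exact ⟨1, Subtype.ext (by
        push_cast
        rw [← zpow_natCast, ← zpow_mul, mul_comm, zpow_mul, zpow_natCast, hx, one_zpow])⟩
    obtain ⟨Q, hQ⟩ := hz.exists_le_sylow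
    obtain ⟨k, hk⟩ := MulAction.exists_smul_eq H P Q
    have : P = Q := by rw [← hk, Sylow.smul_eq_of_normal]
    rw [this]
    exact hQ (Subgroup.mem_zpowers x)
  have hgen3 : ∀ x y : G, x ∈ D → y ∈ D → (x * y) ^ 3 = 1 := by
    intro x y hx hy
    by_cases h : Commute x y
    · rw [hw x hx y hy h, mul_self hD hy, one_pow]
    · exact cube_eq_one hD hx hy h
  have hle : H ≤ (P : Subgroup H).map H.subtype := by
    conv_lhs => rw [hH]
    rw [Subgroup.closure_le]
    rintro x (rfl | rfl)
    · exact ⟨⟨a * b, Subgroup.subset_closure (by simp)⟩,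
        hmem _ (Subtype.ext (by push_cast; exact hgen3 a b ha hb)), rfl⟩
    · exact ⟨⟨c * d, Subgroup.subset_closure (by simp)⟩,
        hmem _ (Subtype.ext (by push_cast; exact hgen3 c d hc' hd)), rfl⟩
  exact (P.isPGroup'.map H.subtype).to_le hle

/-- In a set of width one all products of two members lie in `O₃(G)`. -/
theorem widthOne_mul_mem_pCore [Finite G] (hD : Cfsg.IsThreeTranspositionSet D) (hc : Invariant D)
    (hw : ∀ a ∈ D, ∀ b ∈ D, Commute a b → a = b) {a b : G} (ha : a ∈ D) (hb : b ∈ D) :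
    a * b ∈ Cfsg.pCore 3 G := by
  haveI : Fact (Nat.Prime 3) := ⟨Nat.prime_three⟩
  let K : Set G := {x | ∃ u ∈ D, ∃ v ∈ D, u * v = x}
  have hK : ∀ g x : G, x ∈ K → g * x * g⁻¹ ∈ K := by
    rintro g _ ⟨u, hu, v, hv, rfl⟩
    exact ⟨_, hc g u hu, _, hc g v hv, by group⟩
  have hN : IsPGroup 3 (Subgroup.closure K) := Involution.baerSuzuki_set K hK (by
    rintro _ ⟨u, hu, v, hv, rfl⟩ _ ⟨u', hu', v', hv', rfl⟩
    exact widthOne_isPGroup hD hc hw hu hv hu' hv')
  have hnorm : (Subgroup.closure K).Normal := ⟨fun n hn g => by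
    have hle : Subgroup.closure K ≤ (Subgroup.closure K).comap (MulAut.conj g).toMonoidHom :=
      (Subgroup.closure_le _).2 fun x hx => Subgroup.subset_closure (hK g x hx)
    exact hle hn⟩
  exact Thompson.le_pCore hnorm hN (Subgroup.subset_closure ⟨a, ha, b, hb, rfl⟩)

end Cfsg.Agent.FischerSpace
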